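import Groth.Agent.NodeStruct.Coord
import Mathlib.RingTheory.Etale.StandardEtale
import Mathlib.RingTheory.Ideal.IdempotentFG
import Mathlib.RingTheory.Ideal.Maps
import Mathlib.RingTheory.FinitePresentation

/-!
# A function with a nondegenerate critical section
-/

set_option autoImplicit false
set_option linter.style.haveILetI false
set_option maxSynthPendingDepth 4

universe u

open scoped TensorProduct

noncomputable section

namespace Groth.Agent.NodeStruct

attribute [local instance] Algebra.TensorProduct.rightAlgebra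

variable {A : Type u} [CommRing A] (A' : Type u) [CommRing A'] [Algebra A A'] {E : Type u} [CommRing E] [Algebra A E]
  {u : Fin 2 → E} {D : Fin 2 → Derivation A E E}

/-- Coordinates base change. -/
theorem IsCoord.exists_baseChange (h : IsCoord A u D) :
    ∃ D' : Fin 2 → Derivation A' (A' ⊗[A] E) (A' ⊗[A] E),
      IsCoord A' (fun i => (1 : A') ⊗ₜ[A] u i) D' ∧ ∀ i a e, D' i (a ⊗ₜ e) = a ⊗ₜ D i e := by
  let D' : Fin 2 → Derivation A' (A' ⊗[A] E) (A' ⊗[A] E) := fun i =>
    Derivation.mk' ((D i : E →ₗ[A] E).baseChange A') fun x y => by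
      induction x using TensorProduct.induction_on with
      | zero => simp
      | add x x' hx hx' => simp only [smul_eq_mul] at *; rw [add_mul, map_add, map_add, hx, hx']; ring
      | tmul a e =>
        induction y using TensorProduct.induction_on with
        | zero => simp
        | add y y' hy hy' => simp only [smul_eq_mul] at *; rw [mul_add, map_add, map_add, hy, hy']; ring
        | tmul b f =>
          simp [Derivation.leibniz, TensorProduct.tmul_add, mul_comm]
  refine ⟨D', ⟨fun i j => ?_, fun z => ?_⟩, fun i a e => rfl⟩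
  · show (1 : A') ⊗ₜ D i (u j) = _
    rw [h.self]
    split
    · rfl
    · exact TensorProduct.tmul_zero _ _
  · let δ : Derivation A E Ω[(A' ⊗[A] E)⁄A'] :=
      Derivation.mk' ((KaehlerDifferential.D A' (A' ⊗[A] E)).toLinearMap.restrictScalars A ∘ₗ
        (Algebra.TensorProduct.includeRight : E →ₐ[A] A' ⊗[A] E).toLinearMap) fun x y => by
        show KaehlerDifferential.D A' (A' ⊗[A] E) ((1 : A') ⊗ₜ[A] (x * y)) = _
        rw [show (1 : A') ⊗ₜ[A] (x * y) = ((1 : A') ⊗ₜ x) * ((1 : A') ⊗ₜ y) by simp, Derivation.leibniz,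
          ← algebraMap_smul (A' ⊗[A] E) x, ← algebraMap_smul (A' ⊗[A] E) y]
        rfl
    induction z using TensorProduct.induction_on with
    | zero => simp
    | add x y hx hy => rw [map_add, hx, hy, ← Finset.sum_add_distrib]; simp [add_smul]
    | tmul a e =>
      rw [show a ⊗ₜ[A] e = a • ((1 : A') ⊗ₜ e) by rw [TensorProduct.smul_tmul', smul_eq_mul, mul_one]]
      simp only [Derivation.map_smul, smul_assoc, ← Finset.smul_sum]
      congr 1
      refine (h.apply δ e).trans (Finset.sum_congr rfl fun i _ => ?_)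
      show D i e • KaehlerDifferential.D A' (A' ⊗[A] E) ((1 : A') ⊗ₜ u i) = _
      rw [← algebraMap_smul (A' ⊗[A] E) (D i e)]
      rfl

variable {A'}

/-- Translating coordinates by constants. -/
theorem IsCoord.translate {B : Type u} [CommRing B] [Algebra A' B] {w : Fin 2 → B} {Δ : Fin 2 → Derivation A' B B}
    (h : IsCoord A' w Δ) (c : Fin 2 → A') : IsCoord A' (fun i => w i - algebraMap A' B (c i)) Δ := by
  refine ⟨fun i j => by rw [map_sub, Derivation.map_algebraMap, sub_zero, h.self], fun z => ?_⟩
  simp only [map_sub, Derivation.map_algebraMap, sub_zero]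
  exact h.expand z

variable {B : Type u} [CommRing B] [Algebra A' B] {v : Fin 2 → B} {Δ : Fin 2 → Derivation A' B B}

theorem IsCoord.sub_mem_sq (h : IsCoord A' v Δ) (σ : B →ₐ[A'] A') (hv : ∀ i, σ (v i) = 0) {z : B} (hz : σ z = 0) :
    z - (Δ 0 z * v 0 + Δ 1 z * v 1) ∈ RingHom.ker σ ^ 2 := by
  let J := RingHom.ker σ
  let δ : Derivation A' B (B ⧸ J ^ 2) := Derivation.mk'
    ((Ideal.Quotient.mkₐ A' (J ^ 2)).toLinearMap - (Algebra.linearMap A' (B ⧸ J ^ 2)) ∘ₗ σ.toLinearMap) fun x y => by
      have hJ : ∀ x, x - algebraMap A' B (σ x) ∈ J := fun x => by simp [J, RingHom.mem_ker]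
      have h2 : (Ideal.Quotient.mk (J ^ 2)) ((x - algebraMap A' B (σ x)) * (y - algebraMap A' B (σ y))) = 0 :=
        Ideal.Quotient.eq_zero_iff_mem.mpr (by rw [pow_two]; exact Ideal.mul_mem_mul (hJ x) (hJ y))
      show Ideal.Quotient.mk _ (x * y) - algebraMap A' (B ⧸ J ^ 2) (σ (x * y)) =
        Ideal.Quotient.mk _ x * (Ideal.Quotient.mk _ y - algebraMap A' (B ⧸ J ^ 2) (σ y)) +
          Ideal.Quotient.mk _ y * (Ideal.Quotient.mk _ x - algebraMap A' (B ⧸ J ^ 2) (σ x))
      simp only [map_mul, map_sub, Ideal.Quotient.mk_algebraMap] at h2 ⊢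
      linear_combination -h2
  have hδ : ∀ w, σ w = 0 → δ w = Ideal.Quotient.mk (J ^ 2) w := fun w hw => by
    show Ideal.Quotient.mk _ w - algebraMap A' (B ⧸ J ^ 2) (σ w) = _
    rw [hw, map_zero, sub_zero]
  have h1 := h.apply δ z
  rw [hδ z hz, Fin.sum_univ_two, hδ _ (hv 0), hδ _ (hv 1)] at h1
  rw [← Ideal.Quotient.eq_zero_iff_mem, map_sub, map_add, map_mul, map_mul]
  exact sub_eq_zero.mpr h1

/-- Near a section, the ideal of the section is generated by the coordinates. -/
theorem IsCoord.exists_ker_le (h : IsCoord A' v Δ) (σ : B →ₐ[A'] A') (hv : ∀ i, σ (v i) = 0)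
    [Algebra.FinitePresentation A' B] :
    ∃ e : B, σ e = 1 ∧ ∀ z, σ z = 0 → e * z ∈ Ideal.span (Set.range v) := by
  classical
  let J := RingHom.ker σ
  have hσ : Function.Surjective σ := fun a => ⟨algebraMap A' B a, σ.commutes a⟩
  have hJfg : J.FG := Algebra.FinitePresentation.ker_fG_of_surjective σ hσ
  set V := Ideal.span (Set.range v)
  have hVJ : V ≤ J := Ideal.span_le.mpr fun _ ⟨i, hi⟩ => by subst hi; exact hv i
  set Jb := J.map (Ideal.Quotient.mk V)
  have hidem : IsIdempotentElem Jb := by
    refine le_antisymm Ideal.mul_le_right ?_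
    rw [← Ideal.map_mul, Ideal.map_le_iff_le_comap]
    intro z hz
    have h1 := h.sub_mem_sq σ hv (show σ z = 0 from hz)
    rw [pow_two] at h1
    have h2 := Ideal.mem_map_of_mem (Ideal.Quotient.mk V) h1
    rw [map_sub, Ideal.Quotient.eq_zero_iff_mem.mpr (show Δ 0 z * v 0 + Δ 1 z * v 1 ∈ V from
      add_mem (Ideal.mul_mem_left _ _ (Ideal.subset_span ⟨0, rfl⟩)) (Ideal.mul_mem_left _ _ (Ideal.subset_span ⟨1, rfl⟩))),
      sub_zero] at h2
    exact h2
  obtain ⟨eb, heb, hJb⟩ := (Ideal.isIdempotentElem_iff_of_fg Jb (hJfg.map _)).mp hidem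
  obtain ⟨e, he, rfl⟩ := (Ideal.mem_map_iff_of_surjective _ Ideal.Quotient.mk_surjective).mp
    (show eb ∈ Jb from hJb ▸ Submodule.mem_span_singleton_self eb)
  refine ⟨1 - e, by rw [map_sub, map_one, show σ e = 0 from he, sub_zero], fun z hz => ?_⟩
  have h1 : Ideal.Quotient.mk V z ∈ Jb := Ideal.mem_map_of_mem _ hz
  rw [hJb, Submodule.mem_span_singleton] at h1
  obtain ⟨r, hr⟩ := h1
  rw [← Ideal.Quotient.eq_zero_iff_mem, map_mul, map_sub, map_one, ← hr, smul_eq_mul]
  linear_combination -r * heb.eq

/-- The second derivatives of a quadratic form in the coordinates along the section. -/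
theorem IsCoord.sigma_hessian (h : IsCoord A' v Δ) (σ : B →ₐ[A'] A') (hv : ∀ i, σ (v i) = 0) (c₀ c₁ c₂ : B) :
    σ (Matrix.of fun i j => Δ i (Δ j (c₀ * v 0 ^ 2 + c₁ * (v 0 * v 1) + c₂ * v 1 ^ 2))).det =
      σ (4 * c₀ * c₂ - c₁ ^ 2) := by
  rw [Matrix.det_fin_two]
  simp only [Matrix.of_apply, pow_two, Derivation.leibniz, smul_eq_mul, map_add, map_mul, map_sub, h.self,
    Fin.isValue, if_true, one_ne_zero, zero_ne_one, if_false, map_one, map_zero, Derivation.map_one_eq_zero,
    hv, map_ofNat, mul_zero, zero_mul, add_zero, zero_add, mul_one]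
  ring

/-- A quotient of an étale map is étale. -/
theorem etale_quotient {R R' S S' : Type u} [CommRing R] [CommRing R'] [CommRing S] [CommRing S']
    [Algebra R R'] [Algebra R S] [Algebra R S'] [Algebra S S'] [Algebra R' S'] [IsScalarTower R S S']
    [IsScalarTower R R' S'] [Algebra.Etale R S] (hR : Function.Surjective (algebraMap R R'))
    (hS : Function.Surjective (algebraMap S S'))
    (hker : RingHom.ker (algebraMap S S') = (RingHom.ker (algebraMap R R')).map (algebraMap R S))
    (hfg : (RingHom.ker (algebraMap R R')).FG) : Algebra.Etale R' S' := by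
  haveI : Algebra.FinitePresentation R R' :=
    Algebra.FinitePresentation.of_surjective (f := Algebra.ofId R R') hR hfg
  haveI : Algebra.FinitePresentation R S' :=
    Algebra.FinitePresentation.of_surjective (f := IsScalarTower.toAlgHom R S S') hS
      (show (RingHom.ker (algebraMap S S')).FG from hker ▸ hfg.map _)
  haveI : Algebra.FinitePresentation R' S' := Algebra.FinitePresentation.of_restrict_scalars_finitePresentation R R' S'
  haveI : Algebra.FormallyEtale R' S' := by
    rw [Algebra.FormallyEtale.iff_comp_bijective]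
    intro T _ _ N hN
    letI : Algebra R T := ((algebraMap R' T).comp (algebraMap R R')).toAlgebra
    haveI : IsScalarTower R R' T := IsScalarTower.of_algebraMap_eq fun _ => rfl
    have hb := Algebra.FormallyEtale.comp_bijective (R := R) (A := S) N hN
    constructor
    · intro g₁ g₂ e
      have h1 := hb.1 (a₁ := (g₁.restrictScalars R).comp (IsScalarTower.toAlgHom R S S'))
        (a₂ := (g₂.restrictScalars R).comp (IsScalarTower.toAlgHom R S S'))
        (AlgHom.ext fun z => DFunLike.congr_fun e (algebraMap S S' z))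
      refine AlgHom.ext fun z => ?_
      obtain ⟨z, rfl⟩ := hS z
      exact DFunLike.congr_fun h1 z
    · intro f
      obtain ⟨g, hg⟩ := hb.2 ((f.restrictScalars R).comp (IsScalarTower.toAlgHom R S S'))
      have hk : RingHom.ker (algebraMap S S') ≤ RingHom.ker g.toRingHom := by
        rw [hker, Ideal.map_le_iff_le_comap]
        intro r hr
        show g (algebraMap R S r) = 0
        rw [g.commutes, IsScalarTower.algebraMap_apply R R' T, RingHom.mem_ker.mp hr, map_zero]
      let g' : S' →+* T := RingHom.liftOfSurjective (algebraMap S S') hS ⟨g.toRingHom, hk⟩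
      have hg' : ∀ z, g' (algebraMap S S' z) = g z := fun z => RingHom.liftOfRightInverse_comp_apply _ _ _ _ z
      refine ⟨AlgHom.mk g' fun r' => ?_, AlgHom.ext fun z => ?_⟩
      · obtain ⟨r, rfl⟩ := hR r'
        show g' _ = _
        rw [← IsScalarTower.algebraMap_apply R R' S', IsScalarTower.algebraMap_apply R S S', hg', g.commutes,
          ← IsScalarTower.algebraMap_apply R R' T]
      · obtain ⟨z, rfl⟩ := hS z
        show Ideal.Quotient.mk N (g' (algebraMap S S' z)) = f (algebraMap S S' z)
        rw [hg']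
        exact DFunLike.congr_fun hg z
  exact ⟨inferInstance, inferInstance⟩

end Groth.Agent.NodeStruct
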