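import Groth.Agent.NodeStruct.Presentation
import Groth.Agent.NodeStruct.Section
import Mathlib.FieldTheory.IsAlgClosed.AlgebraicClosure

/-!
# Étale local form of a flat algebra at a node of its fibre
-/

set_option autoImplicit false
set_option linter.style.haveILetI false
set_option maxSynthPendingDepth 4

universe u

open IsLocalRing
open scoped TensorProduct Pointwise

noncomputable section

namespace Groth.Agent.NodeStruct

attribute [local instance] Algebra.TensorProduct.rightAlgebra

/-- A binary quadratic form with unit discriminant acquires a unit leading coefficient. -/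
theorem exists_change {B : Type u} [CommRing B] (P : Ideal B) [P.IsPrime] {c₀ c₁ c₂ : B}
    (hd : c₁ ^ 2 - 4 * c₀ * c₂ ∉ P) (v₀ v₁ : B) :
    ∃ r₀ r₁ s₀ s₁ a b c : B, a ∉ P ∧ b ^ 2 - 4 * a * c ∉ P ∧ IsUnit (r₀ * s₁ - r₁ * s₀) ∧
      c₀ * v₀ ^ 2 + c₁ * (v₀ * v₁) + c₂ * v₁ ^ 2 =
        a * (r₀ * v₀ + r₁ * v₁) ^ 2 + b * ((r₀ * v₀ + r₁ * v₁) * (s₀ * v₀ + s₁ * v₁)) +
          c * (s₀ * v₀ + s₁ * v₁) ^ 2 := by
  by_cases h0 : c₀ ∈ P
  · by_cases h2 : c₂ ∈ P
    · refine ⟨1, 0, -1, 1, c₀ + c₁ + c₂, c₁ + 2 * c₂, c₂, fun h => ?_, fun h => hd ?_, ?_, by ring⟩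
      · have h1 : c₁ ∈ P := by
          have := sub_mem (sub_mem h h0) h2
          rwa [show c₀ + c₁ + c₂ - c₀ - c₂ = c₁ by ring] at this
        exact hd (sub_mem (Ideal.pow_mem_of_mem _ h1 2 two_pos) (Ideal.mul_mem_left _ _ h2))
      · convert h using 1; ring
      · simp
    · exact ⟨0, 1, 1, 0, c₂, c₁, c₀, h2, by rwa [show c₁ ^ 2 - 4 * c₂ * c₀ = c₁ ^ 2 - 4 * c₀ * c₂ by ring],
        by simp, by ring⟩
  · exact ⟨1, 0, 0, 1, c₀, c₁, c₂, h0, hd, by simp, by ring⟩

/-- The plane relation `X Y = a`. -/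
abbrev modelIdeal {A' : Type u} [CommRing A'] (a : A') : Ideal (MvPolynomial (Fin 2) A') :=
  Ideal.span {MvPolynomial.X 0 * MvPolynomial.X 1 - MvPolynomial.C a}

set_option maxHeartbeats 1000000 in
/-- A function with a nondegenerate critical section is étale locally a product of two coordinates. -/
theorem exists_split {A' B : Type u} [CommRing A'] [CommRing B] [Algebra A' B] [Algebra.FinitePresentation A' B]
    [Algebra.FormallySmooth A' B] {v : Fin 2 → B} {Δ : Fin 2 → Derivation A' B B} (h : IsCoord A' v Δ)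
    (σ : B →ₐ[A'] A') (hv : ∀ i, σ (v i) = 0) {f : B} (hf : σ f = 0) (hΔf : ∀ i, σ (Δ i f) = 0)
    (P' : Ideal A') [hP' : P'.IsPrime] (hH : IsUnit (σ (Matrix.of fun i j => Δ i (Δ j f)).det)) :
    ∃ (B4 : Type u) (_ : CommRing B4) (_ : Algebra B B4) (_ : Algebra A' B4) (_ : IsScalarTower A' B B4)
      (L : Fin 2 → B4), Algebra.Etale B B4 ∧
      (MvPolynomial.aeval L : MvPolynomial (Fin 2) A' →ₐ[A'] B4).toRingHom.Etale ∧
      algebraMap B B4 f = L 0 * L 1 ∧
      ∃ P4 : Ideal B4, P4.IsPrime ∧ P4.comap (algebraMap B B4) = P'.comap σ.toRingHom := by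
  classical
  have hf2 : f ∈ RingHom.ker σ ^ 2 := by
    have h1 := h.sub_mem_sq σ hv hf
    have h2 : ∀ i, Δ i f * v i ∈ RingHom.ker σ ^ 2 := fun i => by
      rw [pow_two]; exact Ideal.mul_mem_mul (hΔf i) (hv i)
    have h3 := add_mem h1 (add_mem (h2 0) (h2 1))
    rwa [sub_add_cancel] at h3
  obtain ⟨e, he, hev⟩ := h.exists_ker_le σ hv
  let B1 := Localization.Away e
  haveI : Algebra.FormallyEtale B B1 := Algebra.FormallyEtale.of_isLocalization (.powers e)
  haveI : Algebra.Etale B B1 := Algebra.Etale.of_isLocalizationAway e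
  obtain ⟨D1', hv1, hD1B⟩ := h.exists_of_formallyEtale B1
  set v1 := algebraMap B B1 ∘ v
  obtain ⟨c₀, c₁, c₂, hform⟩ : ∃ c₀ c₁ c₂ : B1, algebraMap B B1 f =
      c₀ * v1 0 ^ 2 + c₁ * (v1 0 * v1 1) + c₂ * v1 1 ^ 2 := by
    have hJ : (RingHom.ker σ).map (algebraMap B B1) ≤ Ideal.span {v1 0, v1 1} := by
      rw [Ideal.map_le_iff_le_comap]
      intro z hz
      rw [Ideal.mem_comap]
      have h1 := Ideal.mem_map_of_mem (algebraMap B B1) (hev z hz)
      rw [Ideal.map_span, map_mul] at h1
      have h2 : Ideal.span (algebraMap B B1 '' Set.range v) = Ideal.span {v1 0, v1 1} := by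
        congr 1; ext; simp [v1, Fin.exists_fin_two, eq_comm]
      rw [h2] at h1
      exact (Ideal.unit_mul_mem_iff_mem _ (IsLocalization.Away.algebraMap_isUnit e)).mp h1
    have h3 := Ideal.mem_map_of_mem (algebraMap B B1) hf2
    rw [Ideal.map_pow] at h3
    have h4 := Ideal.pow_right_mono hJ 2 h3
    rw [pow_two, Ideal.span_mul_span'] at h4
    have h5 : ∀ z : B1, z ∈ Ideal.span (({v1 0, v1 1} : Set B1) * ({v1 0, v1 1} : Set B1)) →
        ∃ c₀ c₁ c₂ : B1, z = c₀ * v1 0 ^ 2 + c₁ * (v1 0 * v1 1) + c₂ * v1 1 ^ 2 := by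
      intro z hz
      induction hz using Submodule.span_induction with
      | mem z hz =>
        obtain ⟨s, hs, t, ht, rfl⟩ := hz
        rcases hs with rfl | rfl <;> rcases ht with rfl | rfl
        exacts [⟨1, 0, 0, by show _ * _ = _; ring⟩, ⟨0, 1, 0, by show _ * _ = _; ring⟩,
          ⟨0, 1, 0, by show _ * _ = _; ring⟩, ⟨0, 0, 1, by show _ * _ = _; ring⟩]
      | zero => exact ⟨0, 0, 0, by ring⟩
      | add x y _ _ hx hy =>
        obtain ⟨a, b, c, rfl⟩ := hx
        obtain ⟨a', b', c', rfl⟩ := hy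
        exact ⟨a + a', b + b', c + c', by ring⟩
      | smul r x _ hx =>
        obtain ⟨a, b, c, rfl⟩ := hx
        exact ⟨r * a, r * b, r * c, by rw [smul_eq_mul]; ring⟩
    exact h5 _ h4
  let σ1 : B1 →ₐ[A'] A' := IsLocalization.liftAlgHom (M := Submonoid.powers e) (f := σ) fun y => by
    obtain ⟨n, hn⟩ := y.2
    rw [← hn, map_pow, he, one_pow]; exact isUnit_one
  have hσ1 : ∀ z, σ1 (algebraMap B B1 z) = σ z := fun z => IsLocalization.lift_eq _ z
  have hv10 : ∀ i, σ1 (v1 i) = 0 := fun i => (hσ1 _).trans (hv i)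
  set PB := P'.comap σ1.toRingHom
  haveI hPB : PB.IsPrime := Ideal.IsPrime.comap _
  have hdisc : c₁ ^ 2 - 4 * c₀ * c₂ ∉ PB := by
    intro h0
    have h1 := hv1.sigma_hessian σ1 hv10 c₀ c₁ c₂
    rw [← hform] at h1
    have e1 : (Matrix.of fun i j => D1' i (D1' j (algebraMap B B1 f))) =
        (algebraMap B B1).mapMatrix (Matrix.of fun i j => Δ i (Δ j f)) := by
      ext i j
      simp [hD1B]
    rw [e1, ← RingHom.map_det, hσ1] at h1
    refine hP'.ne_top (Ideal.eq_top_of_isUnit_mem _ ?_ (h1 ▸ hH))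
    rw [← neg_sub, map_neg]
    exact neg_mem h0
  obtain ⟨r₀, r₁, s₀, s₁, a, b, c, ha, hbc, hrs, heq⟩ := exists_change PB hdisc (v1 0) (v1 1)
  have had : a * (b ^ 2 - 4 * a * c) ∉ PB := hPB.mul_notMem ha hbc
  let B2 := Localization.Away (a * (b ^ 2 - 4 * a * c))
  haveI : Algebra.Etale B1 B2 := Algebra.Etale.of_isLocalizationAway (a * (b ^ 2 - 4 * a * c))
  set l := algebraMap B1 B2
  have hua : IsUnit (l a) := isUnit_of_dvd_unit (map_dvd l (Dvd.intro _ rfl))
    (IsLocalization.Away.algebraMap_isUnit (a * (b ^ 2 - 4 * a * c)))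
  have hud : IsUnit (l (b ^ 2 - 4 * a * c)) := isUnit_of_dvd_unit (map_dvd l (Dvd.intro_left _ rfl))
    (IsLocalization.Away.algebraMap_isUnit (a * (b ^ 2 - 4 * a * c)))
  set ia : B2 := ↑hua.unit⁻¹
  have hia : ia * l a = 1 := hua.val_inv_mul
  set β := ia * l b
  set γ := ia * l c
  have hdd : IsUnit (β ^ 2 - 4 * γ) := by
    have : β ^ 2 - 4 * γ = ia ^ 2 * l (b ^ 2 - 4 * a * c) := by
      simp only [β, γ, map_sub, map_mul, map_pow, map_ofNat]
      linear_combination 4 * ia * l c * hia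
    rw [this]
    exact ((Units.isUnit _).pow 2).mul hud
  set id : B2 := ↑hdd.unit⁻¹
  have hid : id * (β ^ 2 - 4 * γ) = 1 := hdd.val_inv_mul
  open Polynomial in
  let S : StandardEtalePair B2 :=
    { f := X ^ 2 + C β * X + C γ
      monic_f := by monicity!
      g := 1
      cond := ⟨C id * (2 * X + C β), -(4 * C id), 0, by
        rw [pow_zero]
        simp only [derivative_add, derivative_mul, derivative_C, derivative_X_sq, derivative_X]
        have : C id * (C β ^ 2 - 4 * C γ) = (1 : B2[X]) := by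
          rw [show (4 : B2[X]) = C 4 from (map_ofNat C 4).symm, ← map_pow, ← map_mul, ← map_sub, ← map_mul, hid, map_one]
        linear_combination (norm := (simp only [map_ofNat]; ring)) this⟩ }
  let B3 := S.Ring
  set t : B3 := S.X
  set m := (algebraMap B2 B3).comp l
  have ht : m a * t ^ 2 + m b * t + m c = 0 := by
    have h1 := S.hasMap_X.1
    have h2 : t ^ 2 + algebraMap B2 B3 β * t + algebraMap B2 B3 γ = 0 := by
      simpa [S, Polynomial.aeval_def] using h1
    have hia' : algebraMap B2 B3 ia * m a = 1 := by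
      rw [RingHom.comp_apply, ← map_mul, hia, map_one]
    simp only [β, γ, map_mul] at h2
    linear_combination (m a) * h2 - (m b * t + m c) * hia'
  haveI : Algebra.Etale B B2 := Algebra.Etale.comp B B1 B2
  letI : Algebra B B3 := ((algebraMap B2 B3).comp (algebraMap B B2)).toAlgebra
  haveI : IsScalarTower B B2 B3 := IsScalarTower.of_algebraMap_eq fun _ => rfl
  haveI : Algebra.Etale B B3 := Algebra.Etale.comp B B2 B3
  letI : Algebra A' B3 := ((algebraMap B B3).comp (algebraMap A' B)).toAlgebra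
  haveI : IsScalarTower A' B B3 := IsScalarTower.of_algebraMap_eq fun _ => rfl
  obtain ⟨D3, hD3, -⟩ := h.exists_of_formallyEtale B3
  set v3 := algebraMap B B3 ∘ v
  set w₀ := m r₀ * v3 0 + m r₁ * v3 1
  set w₁ := m s₀ * v3 0 + m s₁ * v3 1
  let L : Fin 2 → B3 := ![w₀ - t * w₁, m a * w₀ + (m a * t + m b) * w₁]
  have hFL : algebraMap B B3 f = L 0 * L 1 := by
    have h1 := congrArg m hform
    rw [heq] at h1
    simp only [map_add, map_mul, map_pow] at h1
    change algebraMap B B3 f = _ at h1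
    show _ = (w₀ - t * w₁) * (m a * w₀ + (m a * t + m b) * w₁)
    have hv3 : ∀ i, m (v1 i) = v3 i := fun i => rfl
    simp only [hv3] at h1
    linear_combination h1 + w₁ ^ 2 * ht
  -- a point
  let κ := AlgebraicClosure PB.ResidueField
  let χ1 : B1 →+* κ := (algebraMap PB.ResidueField κ).comp (algebraMap B1 PB.ResidueField)
  have hχ1 : ∀ z, χ1 z = 0 ↔ z ∈ PB := fun z => by
    simp [χ1]
  let χ2 : B2 →+* κ := IsLocalization.Away.lift (a * (b ^ 2 - 4 * a * c))
    (show IsUnit (χ1 (a * (b ^ 2 - 4 * a * c))) from isUnit_iff_ne_zero.mpr fun h => had ((hχ1 _).mp h))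
  have hχ2 : ∀ z, χ2 (l z) = χ1 z := fun z => IsLocalization.Away.lift_eq _ _ z
  letI : Algebra B2 κ := χ2.toAlgebra
  obtain ⟨x, hx⟩ : ∃ x : κ, S.HasMap x := by
    obtain ⟨x, hx⟩ := IsAlgClosed.exists_root (S.f.map χ2) (by
      haveI : Nontrivial B2 := χ2.domain_nontrivial
      have : (S.f.map χ2).natDegree = 2 := by
        rw [S.monic_f.natDegree_map]
        show (Polynomial.X ^ 2 + Polynomial.C β * Polynomial.X + Polynomial.C γ).natDegree = 2
        compute_degree!
      rw [Polynomial.degree_eq_natDegree (S.monic_f.map χ2).ne_zero, this]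
      decide)
    refine ⟨x, ?_, by simp [S]⟩
    rw [Polynomial.aeval_def, ← Polynomial.eval_map]
    exact hx
  let χ : B3 →+* κ := (S.lift x hx).toRingHom
  have hχm : ∀ z, χ (m z) = χ1 z := fun z => ((S.lift x hx).commutes (l z)).trans (hχ2 z)
  have hχv : ∀ i, χ (v3 i) = 0 := fun i => by
    rw [show v3 i = m (v1 i) from rfl, hχm, hχ1]
    show σ1 (v1 i) ∈ P'
    rw [hv10]; exact zero_mem _
  set J := (Matrix.of fun j i => D3 i (L j)).det
  have hJ : χ J ≠ 0 := by
    have e00 : ∀ j, χ (D3 0 (L j)) = ![χ (m r₀ - t * m s₀), χ (m a * m r₀ + (m a * t + m b) * m s₀)] j := by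
      intro j
      fin_cases j <;>
        simp only [L, w₀, w₁, Fin.isValue, Fin.zero_eta, Fin.mk_one, Matrix.cons_val_zero, Matrix.cons_val_one,
          map_add, map_sub, map_mul, Derivation.leibniz, smul_eq_mul, hD3.self, hχv, one_ne_zero, zero_ne_one,
          if_true, if_false, map_one, map_zero, mul_zero, zero_mul, add_zero, zero_add, mul_one] <;> ring
    have e01 : ∀ j, χ (D3 1 (L j)) = ![χ (m r₁ - t * m s₁), χ (m a * m r₁ + (m a * t + m b) * m s₁)] j := by
      intro j
      fin_cases j <;>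
        simp only [L, w₀, w₁, Fin.isValue, Fin.zero_eta, Fin.mk_one, Matrix.cons_val_zero, Matrix.cons_val_one,
          map_add, map_sub, map_mul, Derivation.leibniz, smul_eq_mul, hD3.self, hχv, one_ne_zero, zero_ne_one,
          if_true, if_false, map_one, map_zero, mul_zero, zero_mul, add_zero, zero_add, mul_one] <;> ring
    have hval : χ J = χ (m (r₀ * s₁ - r₁ * s₀) * (2 * m a * t + m b)) := by
      show χ (Matrix.det _) = _
      rw [Matrix.det_fin_two]
      simp only [Matrix.of_apply, map_sub χ, map_mul χ, e00, e01, Matrix.cons_val_zero, Matrix.cons_val_one,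
        map_add χ, map_ofNat, map_sub m, map_mul m]
      ring
    rw [hval, map_mul]
    refine mul_ne_zero ((hrs.map m).map χ).ne_zero fun h0 => ?_
    have h1 : χ ((2 * m a * t + m b) ^ 2) = χ (m (b ^ 2 - 4 * a * c)) := by
      congr 1
      simp only [map_sub, map_mul, map_pow, map_ofNat]
      linear_combination 4 * m a * ht
    rw [map_pow, h0, zero_pow two_ne_zero, hχm] at h1
    exact hbc ((hχ1 _).mp h1.symm)
  let B4 := Localization.Away J
  haveI : Algebra.FormallyEtale B3 B4 := Algebra.FormallyEtale.of_isLocalization (.powers J)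
  haveI : Algebra.Etale B3 B4 := Algebra.Etale.of_isLocalizationAway J
  haveI : Algebra.Etale B B4 := Algebra.Etale.comp B B3 B4
  let χ4 : B4 →+* κ := IsLocalization.Away.lift J (g := χ) (isUnit_iff_ne_zero.mpr hJ)
  have hχ4 : ∀ z, χ4 (algebraMap B3 B4 z) = χ z := fun z => IsLocalization.Away.lift_eq _ _ z
  obtain ⟨D4, hD4, hD4'⟩ := hD3.exists_of_formallyEtale B4
  let L4 : Fin 2 → B4 := algebraMap B3 B4 ∘ L
  have hdet4 : IsUnit (Matrix.of fun j i => D4 i (L4 j)).det := by
    have e : (Matrix.of fun j i => D4 i (L4 j)) =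
        (algebraMap B3 B4).mapMatrix (Matrix.of fun j i => D3 i (L j)) := by
      ext j i; simp [L4, hD4']
    rw [e, ← RingHom.map_det]
    exact IsLocalization.Away.algebraMap_isUnit J
  haveI : Algebra.FormallySmooth A' B4 := Algebra.FormallySmooth.comp A' B B4
  have hetL := hD4.formallyEtale_of_det L4 hdet4
  letI : Algebra (MvPolynomial (Fin 2) A') B4 := (MvPolynomial.aeval L4).toRingHom.toAlgebra
  haveI : IsScalarTower A' (MvPolynomial (Fin 2) A') B4 :=
    IsScalarTower.of_algebraMap_eq fun z => ((MvPolynomial.aeval L4).commutes z).symm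
  haveI : Algebra.FinitePresentation A' B4 := Algebra.FinitePresentation.trans A' B B4
  haveI : Algebra.Etale (MvPolynomial (Fin 2) A') B4 :=
    ⟨hetL, Algebra.FinitePresentation.of_restrict_scalars_finitePresentation A' _ _⟩
  refine ⟨B4, inferInstance, inferInstance, inferInstance, inferInstance, L4, inferInstance, ?_, ?_, RingHom.ker χ4,
    RingHom.ker_isPrime χ4, ?_⟩
  · exact (inferInstance : Algebra.Etale (MvPolynomial (Fin 2) A') B4)
  · rw [IsScalarTower.algebraMap_apply B B3 B4, hFL, map_mul]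
    rfl
  · ext z
    show χ4 (algebraMap B B4 z) = 0 ↔ σ z ∈ P'
    rw [IsScalarTower.algebraMap_apply B B3 B4, hχ4, show algebraMap B B3 z = m (algebraMap B B1 z) from rfl, hχm, hχ1]
    show σ1 _ ∈ P' ↔ _
    rw [hσ1]

/-- The universal unfolding near the critical section, over the critical locus. -/
theorem exists_unfolding {A E A' : Type u} [CommRing A] [CommRing E] [CommRing A'] [Algebra A E] [Algebra A A']
    [Algebra.FormallySmooth A E] [Algebra.FinitePresentation A E] [Algebra.Etale A A'] {u : Fin 2 → E}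
    {D : Fin 2 → Derivation A E E} (hD : IsCoord A u D) (π : E →ₐ[A] A') (F : E) (hπ : ∀ i, π (D i F) = 0)
    (hH : IsUnit (π (Matrix.of fun i j => D i (D j F)).det)) (P' : Ideal A') [P'.IsPrime] :
    ∃ (B4 : Type u) (_ : CommRing B4) (_ : Algebra E B4) (_ : Algebra A' B4) (a₀ : A') (L : Fin 2 → B4),
      Algebra.Etale E B4 ∧ (MvPolynomial.aeval L : MvPolynomial (Fin 2) A' →ₐ[A'] B4).toRingHom.Etale ∧
      (algebraMap A' B4).comp (algebraMap A A') = (algebraMap E B4).comp (algebraMap A E) ∧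
      algebraMap E B4 F = algebraMap A' B4 a₀ + L 0 * L 1 ∧
      ∃ P4 : Ideal B4, P4.IsPrime ∧ P4.comap (algebraMap E B4) = P'.comap π.toRingHom := by
  classical
  let B := A' ⊗[A] E
  obtain ⟨DB, hDB, hDB'⟩ := hD.exists_baseChange A'
  haveI : Algebra.Etale E B := Algebra.Etale.of_equiv (Algebra.TensorProduct.commRight A E A')
  haveI : Algebra.FinitePresentation A' B := inferInstance
  let σ : B →ₐ[A'] A' := Algebra.TensorProduct.lift (AlgHom.id A' A') π fun _ _ => Commute.all _ _
  have hσ : ∀ e : E, σ (1 ⊗ₜ e) = π e := fun e => by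
    show Algebra.TensorProduct.lift _ _ _ (1 ⊗ₜ e) = _
    rw [Algebra.TensorProduct.lift_tmul, map_one, one_mul]
  set w : Fin 2 → B := fun i => (1 : A') ⊗ₜ[A] u i
  let v : Fin 2 → B := fun i => w i - algebraMap A' B (σ (w i))
  have hvB : IsCoord A' v DB := hDB.translate fun i => σ (w i)
  have hv : ∀ i, σ (v i) = 0 := fun i => by simp [v]
  set FB : B := (1 : A') ⊗ₜ[A] F
  set f : B := FB - algebraMap A' B (σ FB)
  have hσf : σ f = 0 := by rw [map_sub, AlgHom.commutes]; exact sub_self _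
  have hDf : ∀ i, DB i f = (1 : A') ⊗ₜ[A] D i F := fun i => by
    rw [map_sub (DB i), Derivation.map_algebraMap, sub_zero]
    exact hDB' i 1 F
  have hHf : IsUnit (σ (Matrix.of fun i j => DB i (DB j f)).det) := by
    have e : (Matrix.of fun i j => DB i (DB j f)).map σ = π.mapMatrix (Matrix.of fun i j => D i (D j F)) := by
      ext i j
      show σ (DB i (DB j f)) = _
      rw [hDf, hDB', hσ]
      rfl
    rw [AlgHom.map_det, AlgHom.mapMatrix_apply, e, ← AlgHom.map_det]
    exact hH
  obtain ⟨B4, _, _, _, _, L, hBB4, hL, hfL, P4, hP4, hP4c⟩ :=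
    exists_split hvB σ hv hσf (fun i => by rw [hDf, hσ, hπ]) P' hHf
  haveI := hBB4
  letI : Algebra E B4 := ((algebraMap B B4).comp (algebraMap E B)).toAlgebra
  haveI : IsScalarTower E B B4 := IsScalarTower.of_algebraMap_eq fun _ => rfl
  refine ⟨B4, inferInstance, inferInstance, inferInstance, σ FB, L, Algebra.Etale.comp E B B4, hL, ?_, ?_, P4, hP4, ?_⟩
  · refine RingHom.ext fun z => ?_
    show algebraMap A' B4 (algebraMap A A' z) = algebraMap B B4 (algebraMap E B (algebraMap A E z))
    rw [IsScalarTower.algebraMap_apply A' B B4]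
    congr 1
    show (algebraMap A A' z) ⊗ₜ[A] (1 : E) = (1 : A') ⊗ₜ[A] (algebraMap A E z)
    rw [Algebra.algebraMap_eq_smul_one, Algebra.algebraMap_eq_smul_one, TensorProduct.smul_tmul]
  · show algebraMap B B4 FB = _
    have e2 : algebraMap B B4 FB = algebraMap B B4 (algebraMap A' B (σ FB)) + algebraMap B B4 f := by
      rw [← map_add]; congr 1; exact (add_sub_cancel _ _).symm
    rw [e2, hfL, ← IsScalarTower.algebraMap_apply]
  · ext z
    show algebraMap B B4 ((1 : A') ⊗ₜ[A] z) ∈ P4 ↔ π z ∈ P'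
    rw [← Ideal.mem_comap, hP4c, Ideal.mem_comap]
    show σ _ ∈ P' ↔ _
    rw [hσ]

set_option maxHeartbeats 1600000 in
/-- Étale locally, a flat algebra at a node of its fibre is `X Y = a`. -/
theorem exists_chart {A C : Type u} [CommRing A] [CommRing C] [Algebra A C] [Algebra.FinitePresentation A C]
    [Module.Flat A C] (q : Ideal C) [q.IsPrime]
    (hnode : NodeCond A (Localization.AtPrime q) (q.under A)) :
    ∃ (A' : Type u) (_ : CommRing A') (_ : Algebra A A') (U : Type u) (_ : CommRing U) (_ : Algebra C U)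
      (_ : Algebra A' U) (a : A') (φ : (MvPolynomial (Fin 2) A' ⧸ modelIdeal a) →ₐ[A'] U),
      Algebra.Etale A A' ∧ Algebra.Etale C U ∧ φ.toRingHom.Etale ∧
      (algebraMap A' U).comp (algebraMap A A') = (algebraMap C U).comp (algebraMap A C) ∧
      ∃ P : Ideal U, P.IsPrime ∧ P.comap (algebraMap C U) = q := by
  classical
  obtain ⟨g, hg, Cl, _, _, _, _, _, E, _, _, u, D, ρ, F, Q, hsm, hfp, hD, hρ, hkρ, hQ, hDF, hH, hFQ, hQq⟩ :=
    exists_presentation q hnode
  haveI := hQ
  haveI := hsm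
  haveI := hfp
  -- invert the Hessian
  set H := (Matrix.of fun i j => D i (D j F)).det
  let E1 := Localization.Away H
  haveI : Algebra.FormallyEtale E E1 := Algebra.FormallyEtale.of_isLocalization (.powers H)
  haveI : Algebra.Etale E E1 := Algebra.Etale.of_isLocalizationAway H
  haveI : Algebra.FinitePresentation A E1 := Algebra.FinitePresentation.trans A E E1
  haveI : Algebra.FormallySmooth A E1 := Algebra.FormallySmooth.comp A E E1
  obtain ⟨D1, hD1, hD1'⟩ := hD.exists_of_formallyEtale E1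
  set F1 := algebraMap E E1 F
  let G : Fin 2 → E1 := fun i => D1 i F1
  have hHess : (Matrix.of fun i j => D1 i (D1 j F1)).det = algebraMap E E1 H := by
    rw [RingHom.map_det]
    congr 1
    ext i j
    simp [F1, hD1']
  have hGdet : IsUnit (Matrix.of fun j i => D1 i (G j)).det := by
    rw [show (Matrix.of fun j i => D1 i (G j)) = (Matrix.of fun i j => D1 i (D1 j F1)).transpose from rfl,
      Matrix.det_transpose, hHess]
    exact IsLocalization.Away.algebraMap_isUnit H
  let A' := E1 ⧸ Ideal.span (Set.range G)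
  haveI : Algebra.FormallyEtale A A' := hD1.formallyEtale_quotient G hGdet
  have hGfg : (Ideal.span (Set.range G)).FG := Submodule.fg_span (Set.finite_range G)
  haveI : Algebra.FinitePresentation A A' := Algebra.FinitePresentation.quotient hGfg
  haveI hA' : Algebra.Etale A A' := ⟨inferInstance, inferInstance⟩
  have hdisj : Disjoint (Submonoid.powers H : Set E) (Q : Set E) := by
    simp [Set.disjoint_iff, Set.ext_iff, Submonoid.mem_powers_iff, mt (hQ.mem_of_pow_mem _) hH]
  set Q1 := Q.map (algebraMap E E1)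
  haveI hQ1 : Q1.IsPrime := IsLocalization.isPrime_of_isPrime_disjoint (.powers H) _ _ hQ hdisj
  have hQ1c : Q1.comap (algebraMap E E1) = Q := IsLocalization.comap_map_of_isPrime_disjoint (.powers H) _ hQ hdisj
  have hGQ : Ideal.span (Set.range G) ≤ Q1 := Ideal.span_le.mpr fun _ ⟨i, hi⟩ => by
    subst hi
    show D1 i F1 ∈ Q1
    rw [hD1']
    exact Ideal.mem_map_of_mem _ (hDF i)
  set P' := Q1.map (Ideal.Quotient.mk (Ideal.span (Set.range G)))
  haveI hP' : P'.IsPrime := Ideal.map_isPrime_of_surjective Ideal.Quotient.mk_surjective (by rwa [Ideal.mk_ker])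
  have hP'c : P'.comap (Ideal.Quotient.mk (Ideal.span (Set.range G))) = Q1 := by
    rw [Ideal.comap_map_of_surjective _ Ideal.Quotient.mk_surjective, ← RingHom.ker_eq_comap_bot, Ideal.mk_ker]
    exact sup_eq_left.mpr hGQ
  let π : E →ₐ[A] A' := (Ideal.Quotient.mkₐ A _).comp (IsScalarTower.toAlgHom A E E1)
  have hπ : ∀ z, π z = Ideal.Quotient.mk (Ideal.span (Set.range G)) (algebraMap E E1 z) := fun z => rfl
  obtain ⟨B4, _, _, _, a₀, L4, hEB4, hL, hcomm, hFL, P4, hP4, hP4c⟩ := exists_unfolding hD π F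
    (fun i => by
      rw [hπ, Ideal.Quotient.eq_zero_iff_mem, ← hD1']
      exact Ideal.subset_span ⟨i, rfl⟩)
    ((IsLocalization.Away.algebraMap_isUnit (S := E1) H).map (Ideal.Quotient.mk (Ideal.span (Set.range G)))) P'
  haveI := hEB4
  haveI := hP4
  letI : Algebra (MvPolynomial (Fin 2) A') B4 := (MvPolynomial.aeval L4).toRingHom.toAlgebra
  haveI : Algebra.Etale (MvPolynomial (Fin 2) A') B4 := hL
  haveI : IsScalarTower A' (MvPolynomial (Fin 2) A') B4 :=
    IsScalarTower.of_algebraMap_eq fun z => ((MvPolynomial.aeval L4).commutes z).symm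
  set F4 := algebraMap E B4 F with hF4
  have hF4L : F4 = algebraMap A' B4 a₀ + L4 0 * L4 1 := hFL
  let U := B4 ⧸ Ideal.span {F4}
  letI algClU : Algebra Cl U := (RingHom.liftOfSurjective ρ.toRingHom hρ
    ⟨(Ideal.Quotient.mk (Ideal.span {F4})).comp (algebraMap E B4), fun z hz => by
      obtain ⟨r, rfl⟩ := Ideal.mem_span_singleton'.mp (hkρ.le hz)
      have h0 : ((Ideal.Quotient.mk (Ideal.span {F4})).comp (algebraMap E B4)) F = 0 :=
        Ideal.Quotient.eq_zero_iff_mem.mpr (Ideal.mem_span_singleton_self F4)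
      rw [RingHom.mem_ker, map_mul, h0, mul_zero]⟩).toAlgebra
  letI : Algebra E Cl := ρ.toRingHom.toAlgebra
  haveI : IsScalarTower E Cl U := IsScalarTower.of_algebraMap_eq fun z =>
    (RingHom.liftOfRightInverse_comp_apply ρ.toRingHom _ (Function.rightInverse_surjInv hρ)
      ⟨(Ideal.Quotient.mk (Ideal.span {F4})).comp (algebraMap E B4), _⟩ z).symm
  haveI : Algebra.Etale Cl U := etale_quotient (R := E) (S := B4) hρ Ideal.Quotient.mk_surjective
    (by
      show RingHom.ker (Ideal.Quotient.mk (Ideal.span {F4})) = (RingHom.ker ρ.toRingHom).map (algebraMap E B4)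
      rw [Ideal.mk_ker, show RingHom.ker ρ.toRingHom = Ideal.span {F} from hkρ, Ideal.map_span, Set.image_singleton])
    (show (RingHom.ker ρ.toRingHom).FG from hkρ ▸ Submodule.fg_span_singleton F)
  letI : Algebra C U := ((algebraMap Cl U).comp (algebraMap C Cl)).toAlgebra
  haveI : IsScalarTower C Cl U := IsScalarTower.of_algebraMap_eq fun _ => rfl
  haveI : Algebra.Etale C Cl := Algebra.Etale.of_isLocalizationAway g
  haveI : Algebra.Etale C U := Algebra.Etale.comp C Cl U
  let M := MvPolynomial (Fin 2) A' ⧸ modelIdeal (-a₀)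
  let φ : M →ₐ[A'] U := Ideal.Quotient.liftₐ _ ((Ideal.Quotient.mkₐ A' _).comp (MvPolynomial.aeval L4)) fun z hz => by
    obtain ⟨r, rfl⟩ := Ideal.mem_span_singleton'.mp hz
    rw [map_mul]
    refine mul_eq_zero_of_right _ ?_
    show Ideal.Quotient.mk _ (MvPolynomial.aeval L4 _) = 0
    rw [Ideal.Quotient.eq_zero_iff_mem]
    refine Ideal.mem_span_singleton'.mpr ⟨1, ?_⟩
    rw [one_mul, hF4L, map_sub, map_mul, MvPolynomial.aeval_X, MvPolynomial.aeval_X, MvPolynomial.aeval_C, map_neg]
    ring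
  have hφ : φ.toRingHom.Etale := by
    letI : Algebra M U := φ.toRingHom.toAlgebra
    haveI : IsScalarTower (MvPolynomial (Fin 2) A') M U := IsScalarTower.of_algebraMap_eq fun _ => rfl
    refine etale_quotient (R := MvPolynomial (Fin 2) A') (S := B4) Ideal.Quotient.mk_surjective
      Ideal.Quotient.mk_surjective ?_ ?_
    · show RingHom.ker (Ideal.Quotient.mk (Ideal.span {F4})) =
        (RingHom.ker (Ideal.Quotient.mk (modelIdeal (-a₀)))).map (MvPolynomial.aeval L4).toRingHom
      rw [Ideal.mk_ker, Ideal.mk_ker, Ideal.map_span, Set.image_singleton]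
      congr 2
      show F4 = MvPolynomial.aeval L4 _
      rw [hF4L, map_sub, map_mul, MvPolynomial.aeval_X, MvPolynomial.aeval_X, MvPolynomial.aeval_C, map_neg]
      ring
    · show (RingHom.ker (Ideal.Quotient.mk (modelIdeal (-a₀)))).FG
      rw [Ideal.mk_ker]
      exact Submodule.fg_span_singleton _
  refine ⟨A', inferInstance, inferInstance, U, inferInstance, inferInstance, inferInstance, -a₀, φ, hA', inferInstance,
    hφ, ?_, ?_⟩
  · refine RingHom.ext fun z => ?_
    show Ideal.Quotient.mk (Ideal.span {F4}) (algebraMap A' B4 (algebraMap A A' z)) =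
      algebraMap Cl U (algebraMap C Cl (algebraMap A C z))
    rw [← IsScalarTower.algebraMap_apply A C Cl, ← ρ.commutes, show ρ (algebraMap A E z) = algebraMap E Cl (algebraMap A E z) from rfl,
      ← IsScalarTower.algebraMap_apply E Cl U]
    refine congrArg (Ideal.Quotient.mk _) ?_
    exact RingHom.congr_fun hcomm z
  · have hχE : ∀ z : E, algebraMap E B4 z ∈ P4 ↔ z ∈ Q := fun z => by
      rw [← Ideal.mem_comap, hP4c, Ideal.mem_comap]
      show π z ∈ P' ↔ _
      rw [hπ, ← Ideal.mem_comap, hP'c, ← Ideal.mem_comap, hQ1c]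
    have hle : Ideal.span {F4} ≤ P4 := (Ideal.span_singleton_le_iff_mem _).mpr ((hχE F).mpr hFQ)
    set PU := P4.map (Ideal.Quotient.mk (Ideal.span {F4}))
    haveI hPU : PU.IsPrime := Ideal.map_isPrime_of_surjective Ideal.Quotient.mk_surjective (by rwa [Ideal.mk_ker])
    have hPUc : PU.comap (Ideal.Quotient.mk (Ideal.span {F4})) = P4 := by
      rw [Ideal.comap_map_of_surjective _ Ideal.Quotient.mk_surjective, ← RingHom.ker_eq_comap_bot, Ideal.mk_ker]
      exact sup_eq_left.mpr hle
    refine ⟨PU, hPU, ?_⟩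
    have hqg : (q.map (algebraMap C Cl)).comap (algebraMap C Cl) = q :=
      IsLocalization.comap_map_of_isPrime_disjoint (.powers g) _ ‹q.IsPrime› (by
        simp [Set.disjoint_iff, Set.ext_iff, Submonoid.mem_powers_iff, mt (‹q.IsPrime›.mem_of_pow_mem _) hg])
    have h1 : (PU.comap (algebraMap Cl U)).comap ρ.toRingHom = (q.map (algebraMap C Cl)).comap ρ.toRingHom := by
      rw [hQq _ hqg, Ideal.comap_comap]
      ext z
      rw [Ideal.mem_comap, ← hχE z]
      show algebraMap Cl U (algebraMap E Cl z) ∈ PU ↔ _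
      rw [← IsScalarTower.algebraMap_apply]
      show Ideal.Quotient.mk _ _ ∈ PU ↔ _
      rw [← Ideal.mem_comap, hPUc]
    have h2 : PU.comap (algebraMap Cl U) = q.map (algebraMap C Cl) := by
      rw [← Ideal.map_comap_of_surjective ρ.toRingHom hρ (PU.comap (algebraMap Cl U)), h1,
        Ideal.map_comap_of_surjective ρ.toRingHom hρ]
    show PU.comap ((algebraMap Cl U).comp (algebraMap C Cl)) = q
    rw [← Ideal.comap_comap, h2, hqg]

end Groth.Agent.NodeStruct
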