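import Groth.Agent.NodeStruct.Presentation
import Groth.Agent.NodeCplFam.Scheme
import Groth.Agent.NodeForm.Main
import Groth.Agent.NodeForm.Converse

/-!
# Nodes of fibres in affine charts
-/

set_option autoImplicit false
set_option linter.style.haveILetI false

universe u

open CategoryTheory CategoryTheory.Limits AlgebraicGeometry IsLocalRing

noncomputable section

namespace Groth.Agent.NodeStruct

theorem NodeCond.of_algEquiv {A S S' : Type u} [CommRing A] [CommRing S] [IsLocalRing S] [Algebra A S]
    [CommRing S'] [IsLocalRing S'] [Algebra A S'] {p : Ideal A} (e : S ≃ₐ[A] S') (h : NodeCond A S p) :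
    NodeCond A S' p := by
  obtain ⟨hu, B, _, _, φ, hφ, hk, rest⟩ := h
  refine ⟨?_, B, inferInstance, inferInstance, φ.comp e.symm.toRingEquiv.toRingHom, hφ.comp e.symm.surjective, ?_, rest⟩
  · haveI := hu
    exact Algebra.FormallyUnramified.of_equiv (ResidueField.mapAlgEquiv e)
  · rw [← RingHom.comap_ker, hk, show algebraMap A S = e.symm.toRingEquiv.toRingHom.comp (algebraMap A S') from
      RingHom.ext fun a => (e.symm.commutes a).symm, ← Ideal.map_map,
      Ideal.comap_map_of_bijective e.symm.toRingEquiv.toRingHom e.symm.bijective]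

set_option backward.isDefEq.respectTransparency.types false in
/-- The node conditions at the local ring of a node of a fibre. -/
theorem nodeCond_stalk {X S : Scheme.{u}} (f : X ⟶ S) [LocallyOfFiniteType f] (x : X)
    (hx : @Curv2.IsNode (S.residueField (f x)) _ (f.fiber (f x)) ⟨f.fiberToSpecResidueField (f x)⟩ (f.asFiber x))
    {A : Type u} [CommRing A] [Algebra A (S.presheaf.stalk (f x))] [Algebra A (X.presheaf.stalk x)]
    (hA : ∀ a, algebraMap A (X.presheaf.stalk x) a = (f.stalkMap x).hom (algebraMap A (S.presheaf.stalk (f x)) a))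
    (p : Ideal A) [p.IsPrime] [IsLocalization.AtPrime (S.presheaf.stalk (f x)) p] :
    NodeCond A (X.presheaf.stalk x) p := by
  letI : (f.fiber (f x)).Over (Spec (CommRingCat.of (S.residueField (f x)))) := ⟨f.fiberToSpecResidueField (f x)⟩
  haveI : LocallyOfFiniteType ((f.fiber (f x)) ↘ Spec (CommRingCat.of (S.residueField (f x)))) :=
    MorphismProperty.pullback_snd (P := @LocallyOfFiniteType) _ _ inferInstance
  obtain ⟨hcl, y, hy, hord⟩ := hx
  haveI : IsLocallyNoetherian (f.fiber (f x)) :=
    LocallyOfFiniteType.isLocallyNoetherian ((f.fiber (f x)) ↘ Spec (CommRingCat.of (S.residueField (f x))))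
  obtain ⟨φ, hφ, hkφ, hcomp⟩ := NodeCplFam.exists_fibre_stalk f x
  have hcl' : IsClosed ({Curv2.bcFst (S.residueField (f x)) (f.fiber (f x)) (AlgebraicClosure (S.residueField (f x))) y} : Set (f.fiber (f x))) := by
    rw [hy]; exact hcl
  obtain ⟨hsep, a, b, c, hd, e, -⟩ := NodeForm.exists_form_of_isOrdDoublePt (K := AlgebraicClosure (S.residueField (f x)))
    (IsPullback.of_hasPullback ((f.fiber (f x)) ↘ Spec (CommRingCat.of (S.residueField (f x))))
      (Spec.map (CommRingCat.ofHom (algebraMap (S.residueField (f x)) (AlgebraicClosure (S.residueField (f x))))))) y hcl' hord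
  have hrel := NodeForm.exists_relation_of_equiv (fun h => hd (sub_eq_zero.mpr (sub_eq_zero.mp h).symm)) e
  clear e hd a b c hord
  generalize hz : Curv2.bcFst (S.residueField (f x)) (f.fiber (f x)) (AlgebraicClosure (S.residueField (f x))) y = z at hrel hsep hcl'
  have hz2 : z = f.asFiber x := hz.symm.trans hy
  subst hz2
  obtain ⟨hred, hfr, hrest⟩ := hrel
  refine ⟨?_, ((f.fiber (f x)).presheaf.stalk (f.asFiber x)), inferInstance, inferInstance, φ, hφ, ?_, hred, hfr, hrest⟩
  · haveI : IsLocalHom φ := IsLocalHom.of_surjective φ hφ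
    let σ : ResidueField (X.presheaf.stalk x) →+* ResidueField ((f.fiber (f x)).presheaf.stalk (f.asFiber x)) := ResidueField.map φ
    have hσ : Function.Bijective σ := ⟨σ.injective, fun w => by
      obtain ⟨w, rfl⟩ := residue_surjective w
      obtain ⟨v, rfl⟩ := hφ w
      exact ⟨residue _ v, ResidueField.map_residue φ v⟩⟩
    letI algk : Algebra (S.residueField (f x)) (ResidueField ((f.fiber (f x)).presheaf.stalk (f.asFiber x))) := ((residue ((f.fiber (f x)).presheaf.stalk (f.asFiber x))).comp
      (StrictSSLib.strMap ((f.fiber (f x)) ↘ Spec (CommRingCat.of (S.residueField (f x)))) (f.asFiber x))).toAlgebra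
    haveI : Algebra.FormallyUnramified (S.residueField (f x)) (ResidueField ((f.fiber (f x)).presheaf.stalk (f.asFiber x))) := by
      haveI := hsep
      exact Algebra.FormallyUnramified.of_isSeparable (S.residueField (f x)) _
    letI : Algebra A (S.residueField (f x)) := ((S.residue (f x)).hom.comp (algebraMap A (S.presheaf.stalk (f x)))).toAlgebra
    haveI : IsScalarTower A (S.presheaf.stalk (f x)) (ResidueField (S.presheaf.stalk (f x))) := inferInstance
    haveI : Algebra.FormallyUnramified A (S.residueField (f x)) := by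
      haveI : Algebra.FormallyUnramified A (S.presheaf.stalk (f x)) :=
        Algebra.FormallyUnramified.of_isLocalization p.primeCompl
      letI : Algebra (S.presheaf.stalk (f x)) (S.residueField (f x)) := (S.residue (f x)).hom.toAlgebra
      haveI : IsScalarTower A (S.presheaf.stalk (f x)) (S.residueField (f x)) := IsScalarTower.of_algebraMap_eq fun _ => rfl
      haveI : Algebra.FormallyUnramified (S.presheaf.stalk (f x)) (S.residueField (f x)) :=
        Algebra.FormallyUnramified.of_surjective (Algebra.ofId (S.presheaf.stalk (f x)) (S.residueField (f x))) (S.residue_surjective (f x))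
      exact Algebra.FormallyUnramified.comp A (S.presheaf.stalk (f x)) (S.residueField (f x))
    letI : Algebra A (ResidueField ((f.fiber (f x)).presheaf.stalk (f.asFiber x))) := ((algebraMap (S.residueField (f x)) (ResidueField ((f.fiber (f x)).presheaf.stalk (f.asFiber x)))).comp (algebraMap A (S.residueField (f x)))).toAlgebra
    haveI : IsScalarTower A (S.residueField (f x)) (ResidueField ((f.fiber (f x)).presheaf.stalk (f.asFiber x))) := IsScalarTower.of_algebraMap_eq fun _ => rfl
    haveI : Algebra.FormallyUnramified A (ResidueField ((f.fiber (f x)).presheaf.stalk (f.asFiber x))) := Algebra.FormallyUnramified.comp A (S.residueField (f x)) _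
    let eA : ResidueField ((f.fiber (f x)).presheaf.stalk (f.asFiber x)) →ₐ[A] ResidueField (X.presheaf.stalk x) :=
      AlgHom.mk ((RingEquiv.ofBijective σ hσ).symm : ResidueField ((f.fiber (f x)).presheaf.stalk (f.asFiber x)) →+* _) fun t => by
        show (RingEquiv.ofBijective σ hσ).symm _ = _
        rw [RingEquiv.symm_apply_eq, IsScalarTower.algebraMap_apply A (X.presheaf.stalk x) (ResidueField (X.presheaf.stalk x)), hA]
        show _ = σ (residue _ _)
        rw [ResidueField.map_residue, Algebra.algebraMap_self, RingHom.id_apply, hcomp]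
        rfl
    exact Algebra.FormallyUnramified.of_surjective eA (RingEquiv.ofBijective σ hσ).symm.surjective
  · rw [hkφ, show algebraMap A (X.presheaf.stalk x) = (f.stalkMap x).hom.comp (algebraMap A (S.presheaf.stalk (f x))) from
      RingHom.ext hA, ← Ideal.map_map, IsLocalization.AtPrime.map_eq_maximalIdeal p (S.presheaf.stalk (f x))]

set_option backward.isDefEq.respectTransparency.types false in
/-- An affine chart around a node of a fibre, with the node conditions. -/
theorem exists_affine {X S : Scheme.{u}} (f : X ⟶ S) [Flat f] [LocallyOfFinitePresentation f] (x : X)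
    (hx : @Curv2.IsNode (S.residueField (f x)) _ (f.fiber (f x)) ⟨f.fiberToSpecResidueField (f x)⟩ (f.asFiber x)) :
    ∃ (V : S.Opens) (hV : IsAffineOpen V) (W : X.Opens) (hW : IsAffineOpen W) (hWV : W ≤ f ⁻¹ᵁ V) (q : Ideal Γ(X, W))
      (_ : q.IsPrime) (hxW : x ∈ W),
      letI := (f.appLE V W hWV).hom.toAlgebra
      Algebra.FinitePresentation Γ(S, V) Γ(X, W) ∧ Module.Flat Γ(S, V) Γ(X, W) ∧
        q = (hW.primeIdealOf ⟨x, hxW⟩).asIdeal ∧
        NodeCond Γ(S, V) (Localization.AtPrime q) (q.under Γ(S, V)) := by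
  obtain ⟨V, hV, hxV, -⟩ := exists_isAffineOpen_mem_and_subset (X := S) (x := f x) (U := ⊤) trivial
  obtain ⟨W, hW, hxW, hWV⟩ := exists_isAffineOpen_mem_and_subset (X := X) (x := x) (U := f ⁻¹ᵁ V) hxV
  refine ⟨V, hV, W, hW, hWV, (hW.primeIdealOf ⟨x, hxW⟩).asIdeal, inferInstance, hxW, ?_⟩
  letI algAC : Algebra Γ(S, V) Γ(X, W) := (f.appLE V W hWV).hom.toAlgebra
  refine ⟨f.finitePresentation_appLE hV hW hWV, RingHom.flat_algebraMap_iff.mp (f.flat_appLE hV hW hWV), rfl, ?_⟩
  letI algO : Algebra Γ(X, W) (X.presheaf.stalk x) := TopCat.Presheaf.algebra_section_stalk X.presheaf (⟨x, hxW⟩ : W)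
  letI algS : Algebra Γ(S, V) (S.presheaf.stalk (f x)) := TopCat.Presheaf.algebra_section_stalk S.presheaf (⟨f x, hxV⟩ : V)
  haveI := hW.isLocalization_stalk ⟨x, hxW⟩
  haveI := hV.isLocalization_stalk ⟨f x, hxV⟩
  set q := (hW.primeIdealOf ⟨x, hxW⟩).asIdeal
  set p := (hV.primeIdealOf ⟨f x, hxV⟩).asIdeal
  letI : Algebra Γ(S, V) (X.presheaf.stalk x) := ((algebraMap Γ(X, W) (X.presheaf.stalk x)).comp (algebraMap Γ(S, V) Γ(X, W))).toAlgebra
  haveI : IsScalarTower Γ(S, V) Γ(X, W) (X.presheaf.stalk x) := IsScalarTower.of_algebraMap_eq fun _ => rfl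
  have hA : ∀ a, algebraMap Γ(S, V) (X.presheaf.stalk x) a =
      (f.stalkMap x).hom (algebraMap Γ(S, V) (S.presheaf.stalk (f x)) a) := fun a => by
    show X.presheaf.germ W x hxW (f.appLE V W hWV a) = f.stalkMap x (S.presheaf.germ V (f x) hxV a)
    rw [Scheme.Hom.germ_stalkMap_apply, Scheme.Hom.appLE, CommRingCat.comp_apply]
    exact TopCat.Presheaf.germ_res_apply X.presheaf (homOfLE hWV) x hxW _
  have hp : q.under Γ(S, V) = p := by
    ext a
    show algebraMap Γ(S, V) Γ(X, W) a ∈ q ↔ a ∈ p
    rw [← IsLocalization.AtPrime.to_map_mem_maximal_iff (X.presheaf.stalk x) q,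
      ← IsScalarTower.algebraMap_apply, hA, ← IsLocalization.AtPrime.to_map_mem_maximal_iff (S.presheaf.stalk (f x)) p]
    exact ⟨fun h hu => h (hu.map _), fun h hu => h ((isUnit_map_iff _ _).mp hu)⟩
  rw [hp]
  exact (nodeCond_stalk f x hx hA p).of_algEquiv
    ((IsLocalization.algEquiv q.primeCompl (X.presheaf.stalk x) (Localization.AtPrime q)).restrictScalars Γ(S, V))

end Groth.Agent.NodeStruct
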