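import Groth.Agent.NodeStruct.Model
import Groth.Agent.NodeStruct.Chart
import Groth.Agent.NodeStruct.Scheme
import Groth.Agent.StrictSSLib.NodalBaseChange
import Groth.Agent.StrictSSLib.NodeBaseChange
import Groth.Agent.AlgSpB.OverField
import Groth.Agent.AlgSpD.FibreDimBC
import Groth.Agent.FlatOpen.EquiDim
import Groth.Agent.FlatOpen.CMLocusScheme
import Groth.Agent.RelDim.CMFibre
import Groth.Agent.S1593
import Groth.Agent.S1595
import Groth.Agent.S2155
import Groth.Agent.S2156

/-!
# The nodal locus is open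
-/

set_option autoImplicit false
set_option linter.style.haveILetI false
set_option backward.isDefEq.respectTransparency.types false

universe u

open CategoryTheory CategoryTheory.Limits AlgebraicGeometry TopologicalSpace
open Groth.Agent.StrictSSLib

noncomputable section

namespace Groth.Agent.NodeStruct

/-- The point is a node of its fibre. -/
def IsNodeFib {X S : Scheme.{u}} (f : X ⟶ S) (x : X) : Prop :=
  @Curv2.IsNode (S.residueField (f x)) _ (f.fiber (f x)) ⟨f.fiberToSpecResidueField (f x)⟩ (f.asFiber x)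

/-- Independence of the chosen point of the base. -/
theorem isNodeFib_iff {X S : Scheme.{u}} (f : X ⟶ S) (s : S) (z : f.fiber s) :
    IsNodeFib f (f.fiberι s z) ↔ @Curv2.IsNode (S.residueField s) _ (f.fiber s) ⟨f.fiberToSpecResidueField s⟩ z := by
  have h : ∀ (x : X), f x = s → f.fiberι s z = x →
      (IsNodeFib f x ↔ @Curv2.IsNode (S.residueField s) _ (f.fiber s) ⟨f.fiberToSpecResidueField s⟩ z) := by
    rintro x rfl hz
    rw [show z = f.asFiber x from (f.fiberι _).isEmbedding.injective (hz.trans (f.fiberι_asFiber x).symm)]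
    exact Iff.rfl
  refine h _ ((f.range_fiberι s).le ⟨z, rfl⟩) rfl

theorem fibreDimAt_fiberι {X S : Scheme.{u}} (f : X ⟶ S) (s : S) (z : f.fiber s) :
    FlatMor.fibreDimAt f (f.fiberι s z) = FlatMor.localDim (f.fiber s) z := by
  have h : ∀ (x : X), f x = s → f.fiberι s z = x → FlatMor.fibreDimAt f x = FlatMor.localDim (f.fiber s) z := by
    rintro x rfl hz
    rw [show z = f.asFiber x from (f.fiberι _).isEmbedding.injective (hz.trans (f.fiberι_asFiber x).symm)]
    rfl
  exact h _ ((f.range_fiberι s).le ⟨z, rfl⟩) rfl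

theorem fibreMap_asFiber {X Y S : Scheme.{u}} (j : Y ⟶ X) (f : X ⟶ S) (y : Y) :
    f.fiberι ((j ≫ f) y) (fibreMap j f ((j ≫ f) y) ((j ≫ f).asFiber y)) = j y := by
  rw [← Scheme.Hom.comp_apply, fibreMap_ι, Scheme.Hom.comp_apply, Scheme.Hom.fiberι_asFiber]

theorem etale_fibreMap {X Y S : Scheme.{u}} (j : Y ⟶ X) [Etale j] (f : X ⟶ S) (s : S) : Etale (fibreMap j f s) :=
  MorphismProperty.of_isPullback (P := @Etale) (isPullback_fibreMap j f s).flip inferInstance

theorem isNodeFib_comp {X Y S : Scheme.{u}} (j : Y ⟶ X) [Etale j] (f : X ⟶ S) [LocallyOfFiniteType f] (y : Y) :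
    IsNodeFib (j ≫ f) y ↔ IsNodeFib f (j y) := by
  haveI := etale_fibreMap j f ((j ≫ f) y)
  haveI : LocallyOfFiniteType (f.fiberToSpecResidueField ((j ≫ f) y)) :=
    MorphismProperty.pullback_snd (P := @LocallyOfFiniteType) _ _ inferInstance
  have h := isNode_comp_iff (k := S.residueField ((j ≫ f) y)) (fibreMap j f ((j ≫ f) y))
    (f.fiberToSpecResidueField ((j ≫ f) y)) ((j ≫ f).asFiber y)
  rw [fibreMap_comp, ← isNodeFib_iff, ← isNodeFib_iff, fibreMap_asFiber, Scheme.Hom.fiberι_asFiber] at h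
  exact h

theorem fibreDimAt_comp {X Y S : Scheme.{u}} (j : Y ⟶ X) [Etale j] (f : X ⟶ S) (y : Y) :
    FlatMor.fibreDimAt (j ≫ f) y = FlatMor.fibreDimAt f (j y) := by
  haveI := etale_fibreMap j f ((j ≫ f) y)
  rw [← fibreMap_asFiber j f y, fibreDimAt_fiberι]
  exact (AlgSpD.localDim_apply_eq (fibreMap j f ((j ≫ f) y)) ((j ≫ f).asFiber y)).symm

/-- A node of a fibre of a flat family has a nodal neighbourhood. -/
theorem exists_nodal_nhd_of_node {X S : Scheme.{u}} (f : X ⟶ S) [Flat f] [LocallyOfFinitePresentation f] (x : X)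
    (hx : IsNodeFib f x) : ∃ R : X.Opens, x ∈ R ∧ Curv2.IsNodalFamily (R.ι ≫ f) := by
  obtain ⟨V, hV, W, hW, hWV, q, _, hxW, hCfp, hCflat, hq, hnode⟩ := exists_affine f x hx
  letI := (f.appLE V W hWV).hom.toAlgebra
  haveI := hCfp
  haveI := hCflat
  obtain ⟨A', _, _, U, _, _, _, a, φ, hA', hU, hφ, hcomm, P, hP, hPq⟩ := exists_chart q hnode
  let gV : Spec (CommRingCat.of A') ⟶ S := Spec.map (CommRingCat.ofHom (algebraMap Γ(S, V) A')) ≫ hV.fromSpec
  let gU : Spec (CommRingCat.of U) ⟶ X := Spec.map (CommRingCat.ofHom (algebraMap Γ(X, W) U)) ≫ hW.fromSpec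
  haveI : Etale (Spec.map (CommRingCat.ofHom (algebraMap Γ(S, V) A'))) := by
    rw [HasRingHomProperty.Spec_iff (P := @Etale)]
    exact RingHom.etale_algebraMap.mpr hA'
  haveI : Etale (Spec.map (CommRingCat.ofHom (algebraMap Γ(X, W) U))) := by
    rw [HasRingHomProperty.Spec_iff (P := @Etale)]
    exact RingHom.etale_algebraMap.mpr hU
  haveI : Etale gV := inferInstanceAs (Etale (_ ≫ _))
  haveI : Etale gU := inferInstanceAs (Etale (_ ≫ _))
  let p : Spec (CommRingCat.of U) ⟶ Spec (CommRingCat.of A') := Spec.map (CommRingCat.ofHom (algebraMap A' U))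
  have hw : p ≫ gV = gU ≫ f := by
    show Spec.map _ ≫ _ ≫ hV.fromSpec = (_ ≫ hW.fromSpec) ≫ f
    rw [Category.assoc, ← IsAffineOpen.SpecMap_appLE_fromSpec f hV hW hWV, ← Category.assoc, ← Category.assoc,
      ← Spec.map_comp, ← Spec.map_comp]
    congr 2
    exact CommRingCat.hom_ext hcomm
  haveI : Flat (p ≫ gV) := by rw [hw]; infer_instance
  haveI : LocallyOfFinitePresentation (p ≫ gV) := by rw [hw]; infer_instance
  haveI : Flat p := AlgSpB.flat_of_comp_unramified p gV
  haveI : LocallyOfFinitePresentation p := GrpScheme.FlatFib.locallyOfFinitePresentation_of_comp p gV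
  let e : Spec (CommRingCat.of U) ⟶ Spec (CommRingCat.of (StrictSS.NodeAlg (CommRingCat.of A') a)) :=
    Spec.map (CommRingCat.ofHom φ.toRingHom)
  haveI : Etale e := by
    rw [HasRingHomProperty.Spec_iff (P := @Etale)]
    exact hφ
  have hnf : Curv2.IsNodalFamily p := isNodalFamily_of_chart (A := CommRingCat.of A') a e p (by
    show Spec.map _ ≫ Spec.map _ = Spec.map _
    rw [← Spec.map_comp]
    congr 1
    exact CommRingCat.hom_ext (RingHom.ext fun z => φ.commutes z))
  have h1 := S1595.result gV p hnf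
  rw [hw] at h1
  let R : X.Opens := ⟨Set.range gU, gU.isOpenMap.isOpen_range⟩
  let e' : Spec (CommRingCat.of U) ⟶ (R : Scheme.{u}) := IsOpenImmersion.lift R.ι gU (by rw [Scheme.Opens.range_ι]; rfl)
  have he' : e' ≫ R.ι = gU := IsOpenImmersion.lift_fac _ _ _
  haveI : Etale (e' ≫ R.ι) := by rw [he']; infer_instance
  haveI : Etale e' := Etale.of_comp e' R.ι
  refine ⟨R, ⟨(⟨P, hP⟩ : PrimeSpectrum U), ?_⟩, ?_⟩
  · show hW.fromSpec (Spec.map (CommRingCat.ofHom (algebraMap Γ(X, W) U)) ⟨P, hP⟩) = x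
    rw [show Spec.map (CommRingCat.ofHom (algebraMap Γ(X, W) U)) ⟨P, hP⟩ = hW.primeIdealOf ⟨x, hxW⟩ from
      PrimeSpectrum.ext (hPq.trans hq)]
    exact hW.fromSpec_primeIdealOf ⟨x, hxW⟩
  · refine S1593.result (R.ι ≫ f) PUnit (fun _ => Spec (CommRingCat.of U)) (fun _ => e') (fun r => ?_) fun _ => ?_
    · obtain ⟨z, hz⟩ := r.2
      exact ⟨⟨⟩, z, R.ι.isOpenEmbedding.injective (by rw [← Scheme.Hom.comp_apply, he']; exact hz)⟩
    · rw [← Category.assoc, he']; exact h1

/-- A point of a nodal family is smooth or a node of its fibre. -/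
theorem smooth_or_node {X S : Scheme.{u}} (f : X ⟶ S) [LocallyOfFinitePresentation f]
    (h : Curv2.IsNodalFamily f) (x : X) : x ∈ f.smoothLocus ∨ IsNodeFib f x := by
  obtain ⟨hfl, hfp, hfib⟩ := h
  refine or_iff_not_imp_right.mpr fun hn => ?_
  letI : (f.fiber (f x)).Over (Spec (CommRingCat.of (S.residueField (f x)))) := ⟨f.fiberToSpecResidueField (f x)⟩
  haveI : LocallyOfFiniteType ((f.fiber (f x)) ↘ Spec (CommRingCat.of (S.residueField (f x)))) :=
    MorphismProperty.pullback_snd (P := @LocallyOfFiniteType) _ _ inferInstance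
  haveI : LocallyOfFinitePresentation (f.fiberToSpecResidueField (f x)) :=
    MorphismProperty.pullback_snd (P := @LocallyOfFinitePresentation) _ _ inferInstance
  exact (S2156.result f x).mpr ⟨Flat.stalkMap f x,
    mem_smoothLocus_of_atWorstNodal (f.fiber (f x)) (fun Z hZ => ((hfib _).1 Z hZ).le) (hfib _).2 hn⟩

theorem fibreDimAt_eq_one {X S : Scheme.{u}} (f : X ⟶ S) (h : Curv2.IsNodalFamily f) (x : X) :
    FlatMor.fibreDimAt f x = 1 := by
  haveI : LocallyOfFinitePresentation f := h.2.1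
  exact_mod_cast FlatOpen.EquiDim.fibreDimAt_eq_of_hasRelDim (n := 1) f (fun s T hT => by
    exact_mod_cast (h.2.2 s).1 T hT) x

/-- A smooth point of relative dimension one has a nodal neighbourhood. -/
theorem exists_nodal_nhd_of_smooth {X S : Scheme.{u}} (f : X ⟶ S) [Flat f] [LocallyOfFinitePresentation f] (x : X)
    (hx : x ∈ f.smoothLocus) (hd : FlatMor.fibreDimAt f x = 1) :
    ∃ R : X.Opens, x ∈ R ∧ Curv2.IsNodalFamily (R.ι ≫ f) := by
  have hcm : ∀ y ∈ f.smoothLocus, MoreMor.IsCMAt f y := fun y hy => by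
    refine ⟨Flat.stalkMap f y, ?_⟩
    obtain ⟨V, hV, hVs⟩ := fibre_smooth f (f y) (f.asFiber y) (by rw [f.fiberι_asFiber]; exact hy)
    haveI := hVs
    haveI := CurveDVR.isRegularLocalRing_stalk (k := S.residueField (f y))
      (V.ι ≫ f.fiberToSpecResidueField (f y)) ⟨f.asFiber y, hV⟩
    haveI := Depth.isCohenMacaulayLocalRing_of_isRegularLocalRing (R := (V : Scheme.{u}).presheaf.stalk ⟨f.asFiber y, hV⟩)
    exact RelDim.isCohenMacaulayLocalRing_ringEquiv (V.stalkIso ⟨f.asFiber y, hV⟩).commRingCatIsoToRingEquiv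
  let R : X.Opens := f.smoothLocus ⊓ ⟨_, FlatOpen.CMLocus.isOpen_isCMAt_fibreDim f 1⟩
  refine ⟨R, ⟨hx, hcm x hx, by exact_mod_cast hd⟩, (isNodalFamily_iff _).mpr ⟨inferInstance, inferInstance, fun s => ?_⟩⟩
  let g := R.ι ≫ f
  have hsm : ∀ z : g.fiber s, g.fiberι s z ∈ g.smoothLocus := fun z =>
    (mem_smoothLocus_comp_iff R.ι f _).mpr (g.fiberι s z).2.1
  letI : (g.fiber s).Over (Spec (CommRingCat.of (S.residueField s))) := ⟨g.fiberToSpecResidueField s⟩
  haveI : LocallyOfFiniteType ((g.fiber s) ↘ Spec (CommRingCat.of (S.residueField s))) :=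
    MorphismProperty.pullback_snd (P := @LocallyOfFiniteType) _ _ inferInstance
  haveI hlf : LocallyOfFinitePresentation (g.fiberToSpecResidueField s) :=
    MorphismProperty.pullback_snd (P := @LocallyOfFinitePresentation) _ _ inferInstance
  refine ⟨(FlatOpen.EquiDim.irreducibleComponents_dimPt_iff (S.residueField s) 1).2 fun z hz => ?_,
    (@atWorstNodal_iff (S.residueField s) _ _ (g.fiberToSpecResidueField s) hlf).mpr fun z _ => Or.inl ?_⟩
  · have h1 := FlatOpen.EquiDim.localDim_of_max (S.residueField s) hz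
    rw [← fibreDimAt_fiberι g s z, fibreDimAt_comp] at h1
    have h2 := (g.fiberι s z).2.2.2
    exact_mod_cast h1.symm.trans h2
  · obtain ⟨V, hV, hVs⟩ := fibre_smooth g s z (hsm z)
    haveI := hVs
    exact mem_smoothLocus_of_comp V.ι _ ⟨z, hV⟩

set_option maxHeartbeats 800000 in
/-- Nodes descend along a base change. -/
theorem isNodeFib_of_baseChange {X S X' S' : Scheme.{u}} (f : X ⟶ S) [LocallyOfFiniteType f] {g : S' ⟶ S}
    {g' : X' ⟶ X} {f' : X' ⟶ S'} (sq : IsPullback g' f' f g) (x' : X')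
    (hd : FlatMor.fibreDimAt f (g' x') ≤ 1) (h : IsNodeFib f' x') : IsNodeFib f (g' x') := by
  let s' := f' x'
  let k := S.residueField (g s')
  let K := S'.residueField s'
  letI : Algebra k K := (g.residueFieldMap s').hom.toAlgebra
  let l := EtStruct.fiberMap f sq s'
  let φ := f.fiberToSpecResidueField (g s')
  let π := f'.fiberToSpecResidueField s'
  have hl : IsPullback l π φ (Spec.map (CommRingCat.ofHom (algebraMap k K))) :=
    isPullback_fiberToSpecResidueField_of_isPullback sq s'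
  let y := l (f'.asFiber x')
  have hy : f.fiberι (g s') y = g' x' := EtStruct.fiberMap_asFiber f sq x'
  rw [← hy, fibreDimAt_fiberι] at hd
  rw [← hy, isNodeFib_iff]
  have : Nonempty {U : Opens ↥(f.fiber (g s')) // y ∈ U} := ⟨⟨⊤, trivial⟩⟩
  obtain ⟨⟨O, hyO⟩, hO⟩ := ciInf_mem fun U : {U : Opens ↥(f.fiber (g s')) // y ∈ U} =>
    topologicalKrullDim (U.1 : Set ↥(f.fiber (g s')))
  replace hO : topologicalKrullDim (O : Set ↥(f.fiber (g s'))) ≤ 1 := le_trans (le_of_eq hO) hd
  let O : (f.fiber (g s')).Opens := O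
  have hsq : IsPullback (l ∣_ O) ((l ⁻¹ᵁ O).ι ≫ π) (O.ι ≫ φ) (Spec.map (CommRingCat.ofHom (algebraMap k K))) :=
    (isPullback_morphismRestrict l O).paste_vert hl
  haveI : LocallyOfFiniteType φ := MorphismProperty.pullback_snd (P := @LocallyOfFiniteType) _ _ inferInstance
  haveI : LocallyOfFiniteType π := MorphismProperty.of_isPullback hl inferInstance
  have hyl : f'.asFiber x' ∈ l ⁻¹ᵁ O := hyO
  have h1 : @Curv2.IsNode K _ _ ⟨(l ⁻¹ᵁ O).ι ≫ π⟩ (⟨f'.asFiber x', hyl⟩ : (l ⁻¹ᵁ O : (f'.fiber s').Opens)) :=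
    (isNode_comp_iff (k := K) (l ⁻¹ᵁ O).ι π _).mpr h
  letI : (O : Scheme.{u}).Over (Spec (CommRingCat.of k)) := ⟨O.ι ≫ φ⟩
  haveI : LocallyOfFiniteType ((O : Scheme.{u}) ↘ Spec (CommRingCat.of k)) :=
    inferInstanceAs (LocallyOfFiniteType (O.ι ≫ φ))
  have h2 := (isNode_iff_of_isPullback (k := (k : Type u)) (O : Scheme.{u})
    (fun Z _ => (Topology.IsInducing.subtypeVal.topologicalKrullDim_le).trans hO) (K := (K : Type u)) hsq ⟨f'.asFiber x', hyl⟩).mpr h1
  have h3 := (isNode_comp_iff (k := k) O.ι φ _).mp h2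
  have e : O.ι ((l ∣_ O) ⟨f'.asFiber x', hyl⟩) = y := congr($(morphismRestrict_ι l O) ⟨f'.asFiber x', hyl⟩)
  exact e ▸ h3

/-- A flat map is smooth at a smooth point of a fibre. -/
theorem mem_smoothLocus_of_fibre {X S : Scheme.{u}} (f : X ⟶ S) [Flat f] [LocallyOfFinitePresentation f] (s : S)
    [LocallyOfFinitePresentation (f.fiberToSpecResidueField s)] (z : f.fiber s)
    (hz : z ∈ (f.fiberToSpecResidueField s).smoothLocus) : f.fiberι s z ∈ f.smoothLocus := by
  have h : ∀ (x : X), f x = s → f.fiberι s z = x → x ∈ f.smoothLocus := by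
    rintro x rfl he
    rw [show z = f.asFiber x from (f.fiberι _).isEmbedding.injective (he.trans (f.fiberι_asFiber x).symm)] at hz
    exact (S2156.result f x).mpr ⟨Flat.stalkMap f x, hz⟩
  exact h _ ((f.range_fiberι s).le ⟨z, rfl⟩) rfl

/-- Smoothness of a flat map descends along a base change. -/
theorem mem_smoothLocus_of_baseChange {X S X' S' : Scheme.{u}} (f : X ⟶ S) [Flat f]
    [LocallyOfFinitePresentation f] {g : S' ⟶ S} {g' : X' ⟶ X} {f' : X' ⟶ S'}
    [LocallyOfFinitePresentation f'] (sq : IsPullback g' f' f g) (x' : X')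
    (h : x' ∈ f'.smoothLocus) : g' x' ∈ f.smoothLocus := by
  let s' := f' x'
  let k := S.residueField (g s')
  let K := S'.residueField s'
  letI : Algebra k K := (g.residueFieldMap s').hom.toAlgebra
  let l := EtStruct.fiberMap f sq s'
  haveI hφ : LocallyOfFinitePresentation (f.fiberToSpecResidueField (g s')) :=
    MorphismProperty.pullback_snd (P := @LocallyOfFinitePresentation) _ _ inferInstance
  haveI hπ : LocallyOfFinitePresentation (f'.fiberToSpecResidueField s') :=
    MorphismProperty.pullback_snd (P := @LocallyOfFinitePresentation) _ _ inferInstance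
  have hl : IsPullback l (f'.fiberToSpecResidueField s') (f.fiberToSpecResidueField (g s'))
      (Spec.map (CommRingCat.ofHom (algebraMap k K))) :=
    isPullback_fiberToSpecResidueField_of_isPullback sq s'
  have hb : Flat (Spec.map (CommRingCat.ofHom (algebraMap k K))) := by
    rw [HasRingHomProperty.Spec_iff (P := @Flat)]
    exact RingHom.flat_algebraMap_iff.mpr inferInstance
  have h1 := ((S2156.result f' x').mp h).2
  rw [S2155.result _ _ (f'.fiberToSpecResidueField s') l hl (Or.inr hb)] at h1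
  rw [← EtStruct.fiberMap_asFiber f sq x']
  exact mem_smoothLocus_of_fibre f (g s') _ h1

end Groth.Agent.NodeStruct
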