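import Groth.Agent.NodeStruct.FittingBackward
import Groth.Agent.S9287

/-!
# Nodal families and the singular scheme
-/

set_option autoImplicit false
set_option linter.style.haveILetI false
set_option backward.isDefEq.respectTransparency.types false

universe u

open CategoryTheory CategoryTheory.Limits AlgebraicGeometry IsLocalRing TopologicalSpace
open Groth.Agent.StrictSSLib

noncomputable section

namespace Groth.Agent.NodeStruct

/-- A syntomic morphism of relative dimension one with unramified singular scheme is a nodal family. -/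
theorem isNodalFamily_of_fitting {X S : Scheme.{u}} (f : X ⟶ S) [QuasiSeparated f] (hs : Synt.IsSyntomicMor f)
    (hd : ∀ x : X, Dual3.localFibreDim f x = 1)
    (hunr : FormallyUnramified ((Fitt.sheafIdeal (Omega.sheaf f) 1).subschemeι ≫ f)) :
    Curv2.IsNodalFamily f := by
  obtain ⟨hfl, hfp⟩ := CIntCI.flat_lfp_of_isSyntomicMor hs
  haveI := hfp
  refine ⟨hfl, hfp, fun s => ?_⟩
  let ψ := f.fiberToSpecResidueField s
  haveI : LocallyOfFiniteType ψ := MorphismProperty.pullback_snd (P := @LocallyOfFiniteType) _ _ inferInstance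
  haveI : QuasiSeparated ψ := MorphismProperty.pullback_snd (P := @QuasiSeparated) _ _ inferInstance
  letI : (f.fiber s).Over (Spec (CommRingCat.of (S.residueField s))) := ⟨ψ⟩
  haveI : LocallyOfFiniteType ((f.fiber s) ↘ Spec (CommRingCat.of (S.residueField s))) := ‹LocallyOfFiniteType ψ›
  have hdim : ∀ T ∈ irreducibleComponents (f.fiber s : Type u), topologicalKrullDim T = 1 := by
    refine (FlatOpen.EquiDim.irreducibleComponents_dimPt_iff (S.residueField s) 1).2 fun z hz => ?_
    have h1 := FlatOpen.EquiDim.localDim_of_max (S.residueField s) hz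
    rw [← fibreDimAt_fiberι f s z, ← localFibreDim_eq, hd] at h1
    exact_mod_cast h1.symm
  refine ⟨hdim, @atWorstNodal_of_fitting (S.residueField s) _ (f.fiber s) ψ ‹_› ‹_› hdim (fun z _ => ?_) ?_⟩
  · have h : ∀ (x : X), f x = s → f.fiberι s z = x → Pi1.IsCompleteIntersection (CInt.fiberStalk f x) →
        Pi1.IsCompleteIntersection ((f.fiber s).presheaf.stalk z) := by
      rintro x rfl hz hci
      rw [show z = f.asFiber x from (f.fiberι _).isEmbedding.injective (hz.trans (f.fiberι_asFiber x).symm)]
      exact hci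
    exact h _ ((f.range_fiberι s).le ⟨z, rfl⟩) rfl ((CIntCI.isSyntomicAt_iff f _).1 (hs _)).2
  · set Z := Fitt.sheafIdeal (Omega.sheaf f) 1
    have hcomap : Z.comap (f.fiberι s) = Fitt.sheafIdeal (Omega.sheaf ψ) 1 := S8917.result f (S.fromSpecResidueField s) 1
    rw [← hcomap, ← Z.comapIso_hom_fst (f.fiberι s), Category.assoc,
      MorphismProperty.cancel_left_of_respectsIso @FormallyUnramified]
    have h1 : IsPullback (pullback.snd (f.fiberι s) Z.subschemeι) (pullback.fst (f.fiberι s) Z.subschemeι ≫ ψ)
        (Z.subschemeι ≫ f) (S.fromSpecResidueField s) :=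
      (IsPullback.of_hasPullback (f.fiberι s) Z.subschemeι).flip.paste_vert (IsPullback.of_hasPullback f _)
    exact MorphismProperty.of_isPullback (P := @FormallyUnramified) h1 hunr

/-- A morphism to the spectrum of a field is flat. -/
theorem flat_over_field {k : Type u} [Field k] {X : Scheme.{u}} (φ : X ⟶ Spec (CommRingCat.of k)) : Flat φ := by
  rw [HasRingHomProperty.iff_of_source_openCover (P := @Flat) X.affineCover]
  intro i
  let e := Scheme.ΓSpecIso (CommRingCat.of k)
  have h : (RingHom.Flat ((X.affineCover.f i ≫ φ).appTop.hom.comp e.inv.hom)) := by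
    letI := ((X.affineCover.f i ≫ φ).appTop.hom.comp e.inv.hom).toAlgebra
    exact RingHom.flat_algebraMap_iff.mpr inferInstance
  have h2 := (RingHom.Flat.of_bijective ((ConcreteCategory.isIso_iff_bijective e.hom).mp inferInstance)).comp h
  rwa [← CommRingCat.hom_comp, ← CommRingCat.hom_comp, ← Category.assoc, e.hom_inv_id, Category.id_comp] at h2

/-- A nodal curve over a field is a nodal family. -/
theorem isNodalFamily_of_atWorstNodal {k : Type u} [Field k] (X : Scheme.{u}) [X.Over (Spec (CommRingCat.of k))]
    [LocallyOfFiniteType (X ↘ Spec (CommRingCat.of k))]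
    (hdim : ∀ Z ∈ irreducibleComponents (X : Type u), topologicalKrullDim Z = 1) (hnod : Curv2.AtWorstNodal k X) :
    Curv2.IsNodalFamily (X ↘ Spec (CommRingCat.of k)) := by
  let φ := X ↘ Spec (CommRingCat.of k)
  refine ⟨flat_over_field φ, LocallyOfFinitePresentation.iff_locallyOfFiniteType.mpr inferInstance, fun s => ?_⟩
  letI : Algebra k ((Spec (CommRingCat.of k)).residueField s) := (Spec.preimage ((Spec (CommRingCat.of k)).fromSpecResidueField s)).hom.toAlgebra
  have hK : IsPullback (φ.fiberι s) (φ.fiberToSpecResidueField s) φ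
      (Spec.map (CommRingCat.ofHom (algebraMap k ((Spec (CommRingCat.of k)).residueField s)))) := by
    have : Spec.map (CommRingCat.ofHom (algebraMap k ((Spec (CommRingCat.of k)).residueField s))) = (Spec (CommRingCat.of k)).fromSpecResidueField s :=
      Spec.map_preimage _
    exact this.symm ▸ IsPullback.of_hasPullback _ _
  letI alg' : Algebra k (IsLocalRing.ResidueField ((Spec (CommRingCat.of k)).presheaf.stalk s)) :=
    ‹Algebra k ((Spec (CommRingCat.of k)).residueField s)›
  exact ⟨topDim_components_baseChange φ hdim hK,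
    atWorstNodal_of_isPullback X (fun Z hZ => (hdim Z hZ).le) hnod hK⟩

/-- Over a field a local complete intersection morphism is syntomic. -/
theorem isSyntomicMor_of_isLCIMor {k : Type u} [Field k] {X : Scheme.{u}} (φ : X ⟶ Spec (CommRingCat.of k))
    (h : Dual3.IsLCIMor φ) : Synt.IsSyntomicMor φ := by
  haveI := flat_over_field φ
  intro x
  obtain ⟨U, V, e, hxU, hlci⟩ := h x
  refine ⟨U, V, e, hxU, ?_⟩
  letI := (φ.appLE V.1 U.1 e).hom.toAlgebra
  exact (S9287.result Γ(Spec (CommRingCat.of k), V.1) Γ(X, U.1)).2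
    ⟨HasRingHomProperty.appLE @Flat φ inferInstance V U e, hlci⟩

/-- Syntomic morphisms are local complete intersection morphisms. -/
theorem isLCIMor_of_isSyntomicMor {X S : Scheme.{u}} (f : X ⟶ S) (h : Synt.IsSyntomicMor f) : Dual3.IsLCIMor f := by
  intro x
  obtain ⟨U, V, e, hxU, hs⟩ := h x
  refine ⟨U, V, e, hxU, ?_⟩
  letI := (f.appLE V.1 U.1 e).hom.toAlgebra
  exact ((S9287.result Γ(S, V.1) Γ(X, U.1)).1 hs).2

/-- The local rings of a syntomic scheme over a field are complete intersections. -/
theorem isCI_stalk {k : Type u} [Field k] {X : Scheme.{u}} (φ : X ⟶ Spec (CommRingCat.of k))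
    (h : Synt.IsSyntomicMor φ) (x : X) : Pi1.IsCompleteIntersection (X.presheaf.stalk x) := by
  obtain ⟨-, hfp⟩ := CIntCI.flat_lfp_of_isSyntomicMor h
  have hc := ((CIntCI.isSyntomicAt_iff φ x).1 (h x)).2
  haveI : IsIso ((Spec (CommRingCat.of k)).fromSpecResidueField (φ x)) := by
    haveI : Subsingleton (Spec (CommRingCat.of k) : Type u) := inferInstanceAs (Subsingleton (PrimeSpectrum k))
    haveI : IsClosedImmersion ((Spec (CommRingCat.of k)).fromSpecResidueField (φ x)) :=
      isClosed_singleton_iff_isClosedImmersion.mp (Set.Subsingleton.isClosed Set.subsingleton_singleton)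
    haveI : Flat ((Spec (CommRingCat.of k)).fromSpecResidueField (φ x)) := flat_over_field _
    haveI : LocallyOfFinitePresentation ((Spec (CommRingCat.of k)).fromSpecResidueField (φ x)) :=
      LocallyOfFinitePresentation.iff_locallyOfFiniteType.mpr inferInstance
    haveI : IsOpenImmersion ((Spec (CommRingCat.of k)).fromSpecResidueField (φ x)) :=
      IsOpenImmersion.of_flat_of_mono _
    haveI : Surjective ((Spec (CommRingCat.of k)).fromSpecResidueField (φ x)) :=
      ⟨fun y => ⟨Classical.arbitrary _, Subsingleton.elim _ _⟩⟩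
    exact isIso_of_isOpenImmersion_of_opensRange_eq_top _ (top_le_iff.mp fun y _ => ⟨Classical.arbitrary _, Subsingleton.elim _ _⟩)
  haveI : IsIso (φ.fiberι (φ x)) := inferInstanceAs (IsIso (pullback.fst φ ((Spec (CommRingCat.of k)).fromSpecResidueField (φ x))))
  let e := (asIso ((φ.fiberι (φ x)).stalkMap (φ.asFiber x))).commRingCatIsoToRingEquiv
  have h2 : Pi1.IsCompleteIntersection (X.presheaf.stalk (φ.fiberι (φ x) (φ.asFiber x))) :=
    CIntCI.isCI_of_ringEquiv e.symm hc
  rwa [φ.fiberι_asFiber] at h2

end Groth.Agent.NodeStruct
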