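import Mathlib.RingTheory.Etale.Kaehler
import Mathlib.RingTheory.Kaehler.TensorProduct
import Mathlib.LinearAlgebra.Matrix.NonsingularInverse
import Mathlib.Algebra.MvPolynomial.PDeriv

/-!
# Two relative coordinates and the Jacobian criterion for étaleness
-/

set_option autoImplicit false
set_option linter.style.haveILetI false

universe u

open scoped TensorProduct

noncomputable section

namespace Groth.Agent.NodeStruct

/-- `u` are coordinates of `B` over `A` with partial derivatives `D`. -/
structure IsCoord (A : Type u) {B : Type u} [CommRing A] [CommRing B] [Algebra A B] (u : Fin 2 → B)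
    (D : Fin 2 → Derivation A B B) : Prop where
  self : ∀ i j, D i (u j) = if i = j then 1 else 0
  expand : ∀ z, KaehlerDifferential.D A B z = ∑ i, D i z • KaehlerDifferential.D A B (u i)

variable {A B : Type u} [CommRing A] [CommRing B] [Algebra A B] {u : Fin 2 → B} {D : Fin 2 → Derivation A B B}

theorem IsCoord.apply (h : IsCoord A u D) {M : Type*} [AddCommGroup M] [Module B M] [Module A M]
    [IsScalarTower A B M] (δ : Derivation A B M) (z : B) : δ z = ∑ i, D i z • δ (u i) := by
  rw [← δ.liftKaehlerDifferential_comp_D, h.expand, map_sum]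
  simp [map_smul]

theorem isCoord_mvPolynomial (A : Type u) [CommRing A] :
    IsCoord A (MvPolynomial.X : Fin 2 → MvPolynomial (Fin 2) A) (fun i => MvPolynomial.pderiv i) := by
  classical
  refine ⟨fun i j => by rw [MvPolynomial.pderiv_X, Pi.single_apply]; exact if_congr eq_comm rfl rfl, fun z => ?_⟩
  have h : KaehlerDifferential.D A (MvPolynomial (Fin 2) A) =
      ∑ i, (LinearMap.toSpanSingleton (MvPolynomial (Fin 2) A) _
        (KaehlerDifferential.D A (MvPolynomial (Fin 2) A) (MvPolynomial.X i))).compDer (MvPolynomial.pderiv i) := by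
    refine MvPolynomial.derivation_ext fun j => ?_
    fin_cases j <;> simp [Fin.sum_univ_two]
  conv_lhs => rw [h]
  simp [Fin.sum_univ_two]

/-- Coordinates pass to formally étale algebras. -/
theorem IsCoord.exists_of_formallyEtale (h : IsCoord A u D) (B' : Type u) [CommRing B'] [Algebra A B']
    [Algebra B B'] [IsScalarTower A B B'] [Algebra.FormallyEtale B B'] :
    ∃ D' : Fin 2 → Derivation A B' B', IsCoord A (algebraMap B B' ∘ u) D' ∧
      ∀ i z, D' i (algebraMap B B' z) = algebraMap B B' (D i z) := by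
  let Θ := KaehlerDifferential.tensorKaehlerEquivOfFormallyEtale A B B'
  let Λ : Fin 2 → Ω[B'⁄A] →ₗ[B'] B' := fun i =>
    (LinearMap.liftBaseChange B' ((Algebra.linearMap B B').comp (D i).liftKaehlerDifferential)).comp
      Θ.symm.toLinearMap
  let D' : Fin 2 → Derivation A B' B' := fun i => (Λ i).compDer (KaehlerDifferential.D A B')
  have hD' : ∀ i z, D' i (algebraMap B B' z) = algebraMap B B' (D i z) := by
    intro i z
    show LinearMap.liftBaseChange B' _ (Θ.symm (KaehlerDifferential.D A B' (algebraMap B B' z))) = _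
    rw [KaehlerDifferential.tensorKaehlerEquivOfFormallyEtale_symm_D_algebraMap, LinearMap.liftBaseChange_tmul,
      one_smul, LinearMap.comp_apply, Derivation.liftKaehlerDifferential_comp_D]
    rfl
  refine ⟨D', ⟨fun i j => ?_, fun z => ?_⟩, hD'⟩
  · rw [Function.comp_apply, hD', h.self]
    split <;> simp
  · let Φ : Ω[B'⁄A] →ₗ[B'] Ω[B'⁄A] :=
      ∑ i, (LinearMap.toSpanSingleton B' _ (KaehlerDifferential.D A B' (algebraMap B B' (u i)))).comp (Λ i)
    have hΦ : Φ.comp Θ.toLinearMap = Θ.toLinearMap := by
      refine TensorProduct.AlgebraTensorModule.ext fun b ω => ?_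
      have hω : ω ∈ Submodule.span B (Set.range (KaehlerDifferential.D A B)) := by
        rw [KaehlerDifferential.span_range_derivation]; trivial
      induction hω using Submodule.span_induction with
      | mem x hx =>
        obtain ⟨z, rfl⟩ := hx
        rw [show b ⊗ₜ[B] KaehlerDifferential.D A B z = b • ((1 : B') ⊗ₜ KaehlerDifferential.D A B z) by
          rw [TensorProduct.smul_tmul', smul_eq_mul, mul_one]]
        simp only [map_smul]
        congr 1
        have h1 : Θ.toLinearMap ((1 : B') ⊗ₜ KaehlerDifferential.D A B z) =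
            KaehlerDifferential.D A B' (algebraMap B B' z) := by
          show Θ _ = _
          rw [KaehlerDifferential.tensorKaehlerEquivOfFormallyEtale_apply, KaehlerDifferential.mapBaseChange_tmul,
            one_smul, KaehlerDifferential.map_D]
        rw [LinearMap.comp_apply, h1]
        simp only [Φ, LinearMap.sum_apply, LinearMap.comp_apply, LinearMap.toSpanSingleton_apply]
        conv_lhs => arg 2; ext i; rw [show Λ i (KaehlerDifferential.D A B' (algebraMap B B' z)) =
          algebraMap B B' (D i z) from hD' i z, algebraMap_smul]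
        let δ : Derivation A B Ω[B'⁄A] := (KaehlerDifferential.D A B').compAlgebraMap B
        exact (h.apply δ z).symm
      | zero => simp
      | add x y _ _ hx hy => rw [TensorProduct.tmul_add, map_add, map_add, hx, hy]
      | smul r x _ hx =>
        rw [TensorProduct.tmul_smul, ← IsScalarTower.algebraMap_smul B' r (b ⊗ₜ[B] x), map_smul, map_smul, hx]
    have h2 := LinearMap.congr_fun hΦ (Θ.symm (KaehlerDifferential.D A B' z))
    simp only [LinearMap.comp_apply, LinearEquiv.coe_coe, LinearEquiv.apply_symm_apply] at h2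
    conv_lhs => rw [← h2]
    simp only [Φ, LinearMap.sum_apply, LinearMap.comp_apply, LinearMap.toSpanSingleton_apply]
    rfl

section Lift

variable {T : Type*} [CommRing T] [Algebra A T] {N : Ideal T}

/-- Lifts with prescribed values on two elements with invertible Jacobian. -/
theorem IsCoord.exists_lift (h : IsCoord A u D) (L : Fin 2 → B)
    (hdet : IsUnit (Matrix.of fun j i => D i (L j)).det) (hN : N ^ 2 = ⊥) (g₀ : B →ₐ[A] T) (t : Fin 2 → T)
    (ht : ∀ j, g₀ (L j) - t j ∈ N) : ∃ g : B →ₐ[A] T, (∀ z, g z - g₀ z ∈ N) ∧ ∀ j, g (L j) = t j := by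
  classical
  let M : Matrix (Fin 2) (Fin 2) T := (Matrix.of fun j i => D i (L j)).map g₀
  have hM : IsUnit M.det := by
    show IsUnit ((g₀.toRingHom.mapMatrix (Matrix.of fun j i => D i (L j))).det)
    rw [← RingHom.map_det]
    exact hdet.map g₀
  let ν : Fin 2 → T := M⁻¹.mulVec fun j => t j - g₀ (L j)
  have hν : ∀ i, ν i ∈ N := fun i => by
    show ∑ j, M⁻¹ i j * (t j - g₀ (L j)) ∈ N
    exact Ideal.sum_mem _ fun j _ => Ideal.mul_mem_left _ _ (by rw [← neg_sub]; exact neg_mem (ht j))
  have hν2 : ∀ i j, ν i * ν j = 0 := fun i j => by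
    rw [← Ideal.mem_bot, ← hN, pow_two]; exact Ideal.mul_mem_mul (hν i) (hν j)
  let δ : B → T := fun z => ∑ i, g₀ (D i z) * ν i
  have hδN : ∀ z, δ z ∈ N := fun z => Ideal.sum_mem _ fun i _ => Ideal.mul_mem_left _ _ (hν i)
  let g : B →ₐ[A] T :=
    { toFun := fun z => g₀ z + δ z
      map_one' := by simp [δ]
      map_mul' := fun x y => by
        simp only [δ, Derivation.leibniz, smul_eq_mul, map_add, map_mul, Fin.sum_univ_two]
        linear_combination
          -(g₀ (D 0 x) * g₀ (D 0 y)) * hν2 0 0 - (g₀ (D 0 x) * g₀ (D 1 y)) * hν2 0 1 -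
            (g₀ (D 1 x) * g₀ (D 0 y)) * hν2 1 0 - (g₀ (D 1 x) * g₀ (D 1 y)) * hν2 1 1
      map_zero' := by simp [δ]
      map_add' := fun x y => by simp only [δ, map_add, add_mul, Finset.sum_add_distrib]; ring
      commutes' := fun a => by simp [δ] }
  refine ⟨g, fun z => by simpa [g] using hδN z, fun j => ?_⟩
  have h1 : M.mulVec ν = fun j => t j - g₀ (L j) := by
    rw [Matrix.mulVec_mulVec, Matrix.mul_nonsing_inv _ hM, Matrix.one_mulVec]
  have h2 := congrFun h1 j
  simp only [Matrix.mulVec, dotProduct, M, Matrix.map_apply, Matrix.of_apply] at h2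
  show g₀ (L j) + δ (L j) = t j
  simp only [δ, h2]
  ring

/-- Uniqueness of such lifts. -/
theorem IsCoord.lift_unique (h : IsCoord A u D) (L : Fin 2 → B)
    (hdet : IsUnit (Matrix.of fun j i => D i (L j)).det) (hN : N ^ 2 = ⊥) (g₁ g₂ : B →ₐ[A] T)
    (hg : ∀ z, g₂ z - g₁ z ∈ N) (hL : ∀ j, g₁ (L j) = g₂ (L j)) : g₁ = g₂ := by
  classical
  letI : Algebra B T := g₁.toRingHom.toAlgebra
  haveI : IsScalarTower A B T := IsScalarTower.of_algebraMap_eq fun a => (g₁.commutes a).symm
  let δ : Derivation A B T := Derivation.mk' (g₂.toLinearMap - g₁.toLinearMap) fun x y => by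
    have h2 : (g₂ x - g₁ x) * (g₂ y - g₁ y) = 0 := by
      rw [← Ideal.mem_bot, ← hN, pow_two]; exact Ideal.mul_mem_mul (hg x) (hg y)
    simp only [LinearMap.sub_apply, AlgHom.toLinearMap_apply, map_mul, Algebra.smul_def,
      RingHom.algebraMap_toAlgebra]
    show g₂ x * g₂ y - g₁ x * g₁ y = g₁ x * (g₂ y - g₁ y) + g₁ y * (g₂ x - g₁ x)
    linear_combination h2
  have hδ : ∀ z, δ z = g₂ z - g₁ z := fun z => rfl
  let M : Matrix (Fin 2) (Fin 2) T := (Matrix.of fun j i => D i (L j)).map g₁
  have hM : IsUnit M.det := by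
    show IsUnit ((g₁.toRingHom.mapMatrix (Matrix.of fun j i => D i (L j))).det)
    rw [← RingHom.map_det]
    exact hdet.map g₁
  have h1 : M.mulVec (fun i => δ (u i)) = 0 := funext fun j => by
    have := h.apply δ (L j)
    rw [hδ, hL, sub_self] at this
    simp only [Matrix.mulVec, dotProduct, M, Matrix.map_apply, Matrix.of_apply, Pi.zero_apply]
    exact this.symm
  have h0 : (fun i => δ (u i)) = 0 := by
    rw [← Matrix.one_mulVec (fun i => δ (u i)), ← Matrix.nonsing_inv_mul _ hM, ← Matrix.mulVec_mulVec, h1,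
      Matrix.mulVec_zero]
  refine AlgHom.ext fun z => ?_
  have h2 : δ z = 0 := by
    rw [h.apply δ z]
    exact Finset.sum_eq_zero fun i _ => by rw [show δ (u i) = 0 from congrFun h0 i, smul_zero]
  rw [hδ, sub_eq_zero] at h2
  exact h2.symm

end Lift

/-- Two functions with invertible Jacobian give a formally étale map to the plane. -/
theorem IsCoord.formallyEtale_of_det (h : IsCoord A u D) [Algebra.FormallySmooth A B]
    (L : Fin 2 → B) (hdet : IsUnit (Matrix.of fun j i => D i (L j)).det) :
    (MvPolynomial.aeval L : MvPolynomial (Fin 2) A →ₐ[A] B).toRingHom.FormallyEtale := by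
  classical
  letI : Algebra (MvPolynomial (Fin 2) A) B := (MvPolynomial.aeval L).toRingHom.toAlgebra
  haveI : IsScalarTower A (MvPolynomial (Fin 2) A) B :=
    IsScalarTower.of_algebraMap_eq fun a => ((MvPolynomial.aeval L).commutes a).symm
  have hX : ∀ j, algebraMap (MvPolynomial (Fin 2) A) B (MvPolynomial.X j) = L j := fun j =>
    MvPolynomial.aeval_X L j
  show Algebra.FormallyEtale (MvPolynomial (Fin 2) A) B
  rw [Algebra.FormallyEtale.iff_comp_bijective]
  intro T _ _ N hN
  letI : Algebra A T := ((algebraMap (MvPolynomial (Fin 2) A) T).comp (algebraMap A _)).toAlgebra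
  haveI : IsScalarTower A (MvPolynomial (Fin 2) A) T := IsScalarTower.of_algebraMap_eq fun _ => rfl
  constructor
  · intro g₁ g₂ e
    have := h.lift_unique L hdet hN (g₁.restrictScalars A) (g₂.restrictScalars A) (fun z =>
      Ideal.Quotient.eq.mp (DFunLike.congr_fun e z).symm) fun j => by
        show g₁ (L j) = g₂ (L j)
        rw [← hX, g₁.commutes, g₂.commutes]
    exact AlgHom.ext fun z => DFunLike.congr_fun this z
  · intro f
    obtain ⟨g₀, hg₀⟩ := Algebra.FormallySmooth.comp_surjective A B N hN (f.restrictScalars A)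
    obtain ⟨g, hg, hgL⟩ := h.exists_lift L hdet hN g₀
      (fun j => algebraMap (MvPolynomial (Fin 2) A) T (MvPolynomial.X j)) fun j => by
        have e := DFunLike.congr_fun hg₀ (L j)
        refine Ideal.Quotient.eq.mp (e.trans ?_)
        show f (L j) = _
        rw [← hX, f.commutes]
        rfl
    have hcomm : g.comp (MvPolynomial.aeval L) = IsScalarTower.toAlgHom A (MvPolynomial (Fin 2) A) T :=
      MvPolynomial.algHom_ext fun j => by simp [hgL]
    refine ⟨{ g with commutes' := fun p => DFunLike.congr_fun hcomm p }, AlgHom.ext fun z => ?_⟩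
    show Ideal.Quotient.mk N (g z) = f z
    rw [Ideal.Quotient.eq.mpr (hg z)]
    exact DFunLike.congr_fun hg₀ z

/-- The critical locus of two functions with invertible Jacobian is formally étale over the base. -/
theorem IsCoord.formallyEtale_quotient (h : IsCoord A u D) [Algebra.FormallySmooth A B]
    (L : Fin 2 → B) (hdet : IsUnit (Matrix.of fun j i => D i (L j)).det) :
    Algebra.FormallyEtale A (B ⧸ Ideal.span (Set.range L)) := by
  classical
  rw [Algebra.FormallyEtale.iff_comp_bijective]
  intro T _ _ N hN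
  have hL0 : ∀ j, Ideal.Quotient.mk (Ideal.span (Set.range L)) (L j) = 0 := fun j =>
    Ideal.Quotient.eq_zero_iff_mem.mpr (Ideal.subset_span ⟨j, rfl⟩)
  constructor
  · intro g₁ g₂ e
    have := h.lift_unique L hdet hN (g₁.comp (Ideal.Quotient.mkₐ A _)) (g₂.comp (Ideal.Quotient.mkₐ A _))
      (fun z => Ideal.Quotient.eq.mp (DFunLike.congr_fun e (Ideal.Quotient.mk _ z)).symm) fun j => by
        show g₁ (Ideal.Quotient.mk _ (L j)) = g₂ (Ideal.Quotient.mk _ (L j))
        rw [hL0, map_zero, map_zero]
    exact Ideal.Quotient.algHom_ext A this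
  · intro f
    obtain ⟨g₀, hg₀⟩ := Algebra.FormallySmooth.comp_surjective A B N hN (f.comp (Ideal.Quotient.mkₐ A _))
    obtain ⟨g, hg, hgL⟩ := h.exists_lift L hdet hN g₀ 0 fun j => by
      have e : Ideal.Quotient.mk N (g₀ (L j)) = f (Ideal.Quotient.mk _ (L j)) := DFunLike.congr_fun hg₀ (L j)
      rw [hL0, map_zero, Ideal.Quotient.eq_zero_iff_mem] at e
      simpa using e
    refine ⟨Ideal.Quotient.liftₐ _ g ?_, Ideal.Quotient.algHom_ext A (AlgHom.ext fun z => ?_)⟩
    · intro z hz
      have : Ideal.span (Set.range L) ≤ RingHom.ker g.toRingHom := Ideal.span_le.mpr fun _ ⟨j, hj⟩ => by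
        subst hj; exact hgL j
      exact this hz
    · show Ideal.Quotient.mk N (g z) = f (Ideal.Quotient.mk _ z)
      rw [Ideal.Quotient.eq.mpr (hg z)]
      exact DFunLike.congr_fun hg₀ z

end Groth.Agent.NodeStruct
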