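import Groth.Agent.NodeStruct.Open
import Groth.Agent.Omega.SmoothFibreDim
import Mathlib.RingTheory.RingHom.StandardSmooth
import Mathlib.RingTheory.DiscreteValuationRing.TFAE

/-!
# Nodal families over a discrete valuation ring
-/

set_option autoImplicit false
set_option linter.style.haveILetI false
set_option backward.isDefEq.respectTransparency.types false

universe u

open CategoryTheory CategoryTheory.Limits AlgebraicGeometry IsLocalRing
open Groth.Agent.StrictSSLib

noncomputable section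

namespace Groth.Agent.NodeStruct

/-- An étale algebra over a discrete valuation ring, near a point of the closed fibre. -/
theorem exists_dvr_nhd {R A : Type u} [CommRing R] [IsDomain R] [IsDiscreteValuationRing R] {ϖ : R}
    (hϖ : Irreducible ϖ) [CommRing A] [Algebra R A] [Algebra.Etale R A] (p : Ideal A) [p.IsPrime]
    (hp : p.comap (algebraMap R A) = maximalIdeal R) :
    ∃ (g : A) (_ : IsLocalization.Away g (Localization.AtPrime p)) (_ : IsDomain (Localization.AtPrime p))
      (_ : IsDiscreteValuationRing (Localization.AtPrime p)),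
      Algebra.Etale R (Localization.AtPrime p) ∧ Irreducible (algebraMap R (Localization.AtPrime p) ϖ) := by
  let L := Localization.AtPrime p
  haveI : Algebra.FormallyEtale A L := Algebra.FormallyEtale.of_isLocalization p.primeCompl
  haveI : Algebra.EssFiniteType A L := Algebra.EssFiniteType.of_isLocalization _ p.primeCompl
  haveI : Algebra.EssFiniteType R L := Algebra.EssFiniteType.comp R A L
  haveI : Algebra.FormallyUnramified R L := Algebra.FormallyUnramified.comp R A L
  haveI : Module.Flat A L := IsLocalization.flat L p.primeCompl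
  haveI : Module.Flat R L := Module.Flat.trans R A L
  haveI : IsNoetherianRing A := Algebra.FiniteType.isNoetherianRing R A
  haveI : IsNoetherianRing L := IsLocalization.isNoetherianRing p.primeCompl L inferInstance
  haveI hloc : IsLocalHom (algebraMap R L) := by
    refine ((IsLocalRing.local_hom_TFAE (algebraMap R L)).out 0 4).mpr ?_
    rw [← hp, IsScalarTower.algebraMap_eq R A L, ← Ideal.comap_comap]
    exact congrArg _ (IsLocalization.AtPrime.under_maximalIdeal L p)
  have hm : maximalIdeal L = Ideal.span {algebraMap R L ϖ} := by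
    rw [← Algebra.FormallyUnramified.map_maximalIdeal (R := R) (S := L), hϖ.maximalIdeal_eq, Ideal.map_span,
      Set.image_singleton]
  have hreg : ∀ z : L, algebraMap R L ϖ * z = 0 → z = 0 := fun z hz =>
    Module.Flat.isSMulRegular_of_isRegular (isRegular_of_ne_zero hϖ.ne_zero) (M := L)
      (show ϖ • z = ϖ • (0 : L) by rw [smul_zero, Algebra.smul_def]; exact hz)
  set t := algebraMap R L ϖ
  have ht : ∀ n : ℕ, ∀ z : L, t ^ n * z = 0 → z = 0 := fun n => by
    induction n with
    | zero => intro z hz; simpa using hz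
    | succ n ih => intro z hz; rw [pow_succ, mul_assoc] at hz; exact hreg z (ih _ hz)
  have hdec : ∀ z : L, z ≠ 0 → ∃ n : ℕ, ∃ u : L, IsUnit u ∧ z = t ^ n * u := by
    intro z hz
    by_contra hcon
    push Not at hcon
    have : ∀ n, z ∈ maximalIdeal L ^ n := by
      intro n
      induction n with
      | zero => simp
      | succ n ih =>
        rw [hm, Ideal.span_singleton_pow, Ideal.mem_span_singleton'] at ih ⊢
        obtain ⟨w, hw⟩ := ih
        have hwm : w ∈ maximalIdeal L := fun hu => hcon n w hu (by rw [← hw, mul_comm])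
        rw [hm, Ideal.mem_span_singleton'] at hwm
        obtain ⟨v, hv⟩ := hwm
        exact ⟨v, by rw [pow_succ', ← mul_assoc, hv, hw]⟩
    have h0 : z ∈ ⨅ n, maximalIdeal L ^ n := Ideal.mem_iInf.mpr this
    rw [Ideal.iInf_pow_eq_bot_of_isLocalRing _ (maximalIdeal.isMaximal L).ne_top] at h0
    exact hz h0
  haveI : NoZeroDivisors L := ⟨fun {a b} hab => by
    by_contra hcon
    push Not at hcon
    obtain ⟨n, u, hu, rfl⟩ := hdec a hcon.1
    obtain ⟨m, v, hv, rfl⟩ := hdec b hcon.2
    have : t ^ (n + m) * (u * v) = 0 := by rw [pow_add]; linear_combination hab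
    exact (hu.mul hv).ne_zero (ht _ _ this)⟩
  haveI hdom : IsDomain L := NoZeroDivisors.to_isDomain L
  have ht0 : t ≠ 0 := fun h => one_ne_zero (hreg 1 (by rw [h, zero_mul]))
  haveI hpid : IsPrincipalIdealRing L :=
    ((tfae_of_isNoetherianRing_of_isLocalRing_of_isDomain L).out 0 4).mpr
      (show (maximalIdeal L).IsPrincipal from ⟨⟨t, hm⟩⟩)
  haveI hdvr : IsDiscreteValuationRing L := { not_a_field' := by rw [hm, Ne, Ideal.span_singleton_eq_bot]; exact ht0 }
  -- the point has a smallest neighbourhood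
  haveI : Finite (PrimeSpectrum R) := by
    refine Finite.of_injective (fun P : PrimeSpectrum R => decide (P.asIdeal = ⊥)) fun P Q h => ?_
    simp only [decide_eq_decide] at h
    by_cases hP : P.asIdeal = ⊥
    · exact PrimeSpectrum.ext (hP.trans (h.mp hP).symm)
    · haveI := P.isPrime.isMaximal hP
      haveI := Q.isPrime.isMaximal fun hQ => hP (h.mpr hQ)
      exact PrimeSpectrum.ext ((IsLocalRing.eq_maximalIdeal ‹_›).trans (IsLocalRing.eq_maximalIdeal ‹_›).symm)
  haveI : Algebra.QuasiFinite R A := inferInstance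
  haveI : Finite (PrimeSpectrum A) := Algebra.QuasiFinite.finite_primeSpectrum R A
  classical
  haveI := Fintype.ofFinite (PrimeSpectrum A)
  have hch : ∀ Q : PrimeSpectrum A, ∃ x : A, x ∉ p ∧ (¬ Q.asIdeal ≤ p → x ∈ Q.asIdeal) := fun Q => by
    by_cases hQ : Q.asIdeal ≤ p
    · exact ⟨1, (Ideal.ne_top_iff_one p).mp (Ideal.IsPrime.ne_top inferInstance), fun h => absurd hQ h⟩
    · obtain ⟨x, hxQ, hxp⟩ := SetLike.not_le_iff_exists.mp hQ
      exact ⟨x, hxp, fun _ => hxQ⟩
  choose x hxp hxQ using hch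
  let g := ∏ Q, x Q
  have hg : g ∉ p := fun h => by
    obtain ⟨Q, -, hQ⟩ := (Ideal.IsPrime.prod_mem_iff).mp h
    exact hxp Q hQ
  haveI hgL : IsLocalization.Away g L := by
    refine (IsLocalization.iff_of_le_of_exists_dvd (Submonoid.powers g) (S := L) p.primeCompl
      (Submonoid.powers_le.mpr hg) fun n hn => ?_).mpr inferInstance
    have : g ∈ (Ideal.span {n}).radical := by
      rw [Ideal.radical_eq_sInf]
      refine Submodule.mem_sInf.mpr fun J ⟨hJ, hJp⟩ => ?_
      haveI := hJp
      have hle : ¬ J ≤ p := fun h => hn (h (hJ (Ideal.mem_span_singleton_self n)))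
      exact Ideal.mem_of_dvd _ (Finset.dvd_prod_of_mem x (Finset.mem_univ ⟨J, hJp⟩)) (hxQ ⟨J, hJp⟩ hle)
    obtain ⟨k, hk⟩ := this
    exact ⟨g ^ k, ⟨k, rfl⟩, Ideal.mem_span_singleton.mp hk⟩
  haveI : Algebra.Etale A L := Algebra.Etale.of_isLocalizationAway g
  exact ⟨g, hgL, hdom, hdvr, Algebra.Etale.comp R A L, (IsDiscreteValuationRing.irreducible_iff_uniformizer _).mpr hm⟩

variable {L : Type u} [CommRing L]

/-- Rescaling the node model by a unit. -/
theorem exists_model_iso (w : L) (hw : IsUnit w) (c : L) :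
    Nonempty (StrictSS.NodeAlg L (w * c) ≃ₐ[L] StrictSS.NodeAlg L c) := by
  obtain ⟨v, hv⟩ := hw.exists_left_inv
  have hv' : algebraMap L (StrictSS.NodeAlg L c) v * algebraMap L (StrictSS.NodeAlg L c) w = 1 := by
    rw [← map_mul, hv, map_one]
  have hv'' : algebraMap L (StrictSS.NodeAlg L (w * c)) v * algebraMap L (StrictSS.NodeAlg L (w * c)) w = 1 := by
    rw [← map_mul, hv, map_one]
  let f : StrictSS.NodeAlg L (w * c) →ₐ[L] StrictSS.NodeAlg L c :=
    nodeLift ![algebraMap L _ w * nx c 0, nx c 1] (by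
      show algebraMap L _ w * nx c 0 * nx c 1 = _
      rw [mul_assoc, nx_mul, map_mul])
  let g : StrictSS.NodeAlg L c →ₐ[L] StrictSS.NodeAlg L (w * c) :=
    nodeLift ![algebraMap L _ v * nx (w * c) 0, nx (w * c) 1] (by
      show algebraMap L _ v * nx (w * c) 0 * nx (w * c) 1 = _
      rw [mul_assoc, nx_mul, ← map_mul, ← mul_assoc, hv, one_mul])
  refine ⟨AlgEquiv.ofAlgHom f g (node_algHom_ext fun i => ?_) (node_algHom_ext fun i => ?_)⟩
  · fin_cases i
    · simp [f, g, nodeLift_nx]
      linear_combination (nx c 0) * hv'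
    · simp [f, g, nodeLift_nx]
  · fin_cases i
    · simp [f, g, nodeLift_nx]
      linear_combination (nx (w * c) 0) * hv''
    · simp [f, g, nodeLift_nx]

/-- The node model of the unit is the punctured line. -/
theorem etale_nodeAlg_one (R : Type u) [CommRing R] :
    (Polynomial.aeval (R := R) (nx (1 : R) 0)).toRingHom.Etale := by
  let T := Localization.Away (Polynomial.X : Polynomial R)
  let t : T := algebraMap (Polynomial R) T Polynomial.X
  let s : T := IsLocalization.Away.invSelf (Polynomial.X : Polynomial R)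
  have hts : t * s = 1 := IsLocalization.Away.mul_invSelf _
  let π : StrictSS.NodeAlg R (1 : R) →ₐ[R] T := nodeLift ![t, s] (by simpa using hts)
  have hu : IsUnit (nx (1 : R) 0) := by
    refine isUnit_of_mul_isUnit_left (y := nx (1 : R) 1) ?_
    exact (show nx (1 : R) 0 * nx (1 : R) 1 = 1 from (nx_mul _).trans (map_one _)) ▸ isUnit_one
  let g : T →+* StrictSS.NodeAlg R (1 : R) := IsLocalization.Away.lift (Polynomial.X : Polynomial R)
    (g := (Polynomial.aeval (nx (1 : R) 0)).toRingHom) (by simpa using hu)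
  have hg : ∀ z, g (algebraMap (Polynomial R) T z) = Polynomial.aeval (nx (1 : R) 0) z := fun z =>
    IsLocalization.Away.lift_eq _ _ z
  let gA : T →ₐ[R] StrictSS.NodeAlg R (1 : R) := AlgHom.mk g fun r => by
    rw [IsScalarTower.algebraMap_apply R (Polynomial R) T]
    exact (hg _).trans (AlgHom.commutes _ _)
  have hπg : π.comp gA = AlgHom.id R T := by
    refine IsLocalization.algHom_ext (Submonoid.powers (Polynomial.X : Polynomial R)) (Polynomial.algHom_ext ?_)
    show π (g (algebraMap (Polynomial R) T Polynomial.X)) = t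
    rw [hg, Polynomial.aeval_X, nodeLift_nx]
    rfl
  have hgπ : gA.comp π = AlgHom.id R _ := by
    refine node_algHom_ext fun i => ?_
    show g (π (nx (1 : R) i)) = nx (1 : R) i
    rw [nodeLift_nx]
    fin_cases i
    · exact (hg _).trans (Polynomial.aeval_X _)
    · refine hu.mul_left_cancel ?_
      show nx (1 : R) 0 * g s = nx (1 : R) 0 * nx (1 : R) 1
      rw [show nx (1 : R) 0 * nx (1 : R) 1 = 1 from (nx_mul _).trans (map_one _),
        show nx (1 : R) 0 = g t from ((hg _).trans (Polynomial.aeval_X _)).symm, ← map_mul, hts, map_one]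
  let e : T ≃ₐ[R] StrictSS.NodeAlg R (1 : R) := AlgEquiv.ofAlgHom gA π hgπ hπg
  haveI : Algebra.Etale (Polynomial R) T := Algebra.Etale.of_isLocalizationAway Polynomial.X
  have he : (Polynomial.aeval (R := R) (nx (1 : R) 0)).toRingHom = e.toRingEquiv.toRingHom.comp (algebraMap (Polynomial R) T) :=
    RingHom.ext fun z => (hg z).symm
  rw [he]
  exact RingHom.Etale.respectsIso.1 _ _ (RingHom.etale_algebraMap.mpr inferInstance)

/-- The node case. -/
theorem exists_dvr_chart_of_node {R : Type u} [CommRing R] [IsDomain R] [IsDiscreteValuationRing R] {ϖ : R}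
    (hϖ : Irreducible ϖ) {X : Scheme.{u}} (f : X ⟶ Spec (CommRingCat.of R)) [Flat f]
    [LocallyOfFinitePresentation f] (x : X) (hx : IsNodeFib f x) (hxc : f x = closedPoint R) :
    ∃ (R' : Type u) (_ : CommRing R') (_ : IsDomain R') (_ : IsDiscreteValuationRing R')
      (_ : Algebra R R') (_ : Algebra.Etale R R') (_ : Irreducible (algebraMap R R' ϖ)) (c : R')
      (_ : c = 0 ∨ ∃ n : ℕ, c = algebraMap R R' ϖ ^ n) (U : Scheme.{u}) (e : U ⟶ X) (_ : Etale e) (x' : U)
      (_ : e x' = x) (g : U ⟶ Spec (CommRingCat.of (StrictSS.NodeAlg R' c))) (_ : Etale g),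
      g ≫ Spec.map (CommRingCat.ofHom ((algebraMap R' (StrictSS.NodeAlg R' c)).comp (algebraMap R R'))) = e ≫ f := by
  obtain ⟨V, hV, W, hW, hWV, q, _, hxW, hCfp, hCflat, hq, hnode⟩ := exists_affine f x hx
  letI := (f.appLE V W hWV).hom.toAlgebra
  haveI := hCfp
  haveI := hCflat
  obtain ⟨A', _, _, U, _, _, _, a, φ, hA', hU, hφ, hcomm, P, hP, hPq⟩ := exists_chart q hnode
  haveI := hA'
  haveI := hP
  have hVtop : V = ⊤ := by
    refine top_le_iff.mp fun s _ => ?_
    exact Specializes.mem_open (IsLocalRing.specializes_closedPoint s) V.2 (hxc ▸ hWV hxW)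
  subst hVtop
  let ε := (Scheme.ΓSpecIso (CommRingCat.of R)).inv.hom
  letI : Algebra R A' := ((algebraMap Γ(Spec (CommRingCat.of R), ⊤) A').comp ε).toAlgebra
  haveI : Algebra.Etale R A' := RingHom.etale_algebraMap.mp
    (RingHom.Etale.respectsIso.2 _ (Scheme.ΓSpecIso (CommRingCat.of R)).symm.commRingCatIsoToRingEquiv
      (RingHom.etale_algebraMap.mpr hA'))
  haveI : Etale (Spec.map (CommRingCat.ofHom (algebraMap Γ(X, W) U))) := by
    rw [HasRingHomProperty.Spec_iff (P := @Etale)]
    exact RingHom.etale_algebraMap.mpr hU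
  let gU : Spec (CommRingCat.of U) ⟶ X := Spec.map (CommRingCat.ofHom (algebraMap Γ(X, W) U)) ≫ hW.fromSpec
  let p : Spec (CommRingCat.of U) ⟶ Spec (CommRingCat.of A') := Spec.map (CommRingCat.ofHom (algebraMap A' U))
  have hw : p ≫ Spec.map (CommRingCat.ofHom (algebraMap R A')) = gU ≫ f := by
    rw [show (algebraMap R A') = (algebraMap Γ(Spec (CommRingCat.of R), ⊤) A').comp ε from rfl,
      CommRingCat.ofHom_comp, Spec.map_comp]
    show _ = (_ ≫ hW.fromSpec) ≫ f
    rw [Category.assoc, ← IsAffineOpen.SpecMap_appLE_fromSpec f (isAffineOpen_top _) hW hWV,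
      IsAffineOpen.fromSpec_top, Scheme.isoSpec_Spec_inv, ← Category.assoc, ← Category.assoc, ← Spec.map_comp, ← Spec.map_comp]
    rw [← Spec.map_comp, ← Spec.map_comp]
    congr 1
    ext z
    exact RingHom.congr_fun hcomm (ε z)
  have hgU : gU ⟨P, hP⟩ = x := by
    show hW.fromSpec (Spec.map (CommRingCat.ofHom (algebraMap Γ(X, W) U)) ⟨P, hP⟩) = x
    rw [show Spec.map (CommRingCat.ofHom (algebraMap Γ(X, W) U)) ⟨P, hP⟩ = hW.primeIdealOf ⟨x, hxW⟩ from
      PrimeSpectrum.ext (hPq.trans hq)]
    exact hW.fromSpec_primeIdealOf ⟨x, hxW⟩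
  let p' := P.comap (algebraMap A' U)
  have hp' : p'.comap (algebraMap R A') = maximalIdeal R := by
    have h1 : Spec.map (CommRingCat.ofHom (algebraMap R A')) (p ⟨P, hP⟩) = closedPoint R := by
      rw [← Scheme.Hom.comp_apply, hw, Scheme.Hom.comp_apply, hgU]; exact hxc
    exact congrArg PrimeSpectrum.asIdeal h1
  obtain ⟨gg, hgg, _, _, hetL, hirr⟩ := exists_dvr_nhd hϖ p' hp'
  let L := Localization.AtPrime p'
  let ψ : CommRingCat.of A' ⟶ CommRingCat.of L := CommRingCat.ofHom (algebraMap A' L)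
  obtain ⟨θ, hθ⟩ := isPushout_node ψ a
  have hM := isPullback_SpecMap_of_isPushout _ _ _ _ hθ
  haveI : Etale (Spec.map ψ) := by
    rw [HasRingHomProperty.Spec_iff (P := @Etale)]
    exact RingHom.etale_algebraMap.mpr (Algebra.Etale.of_isLocalizationAway gg)
  haveI : Etale (Spec.map θ) := MorphismProperty.of_isPullback (P := @Etale) hM.flip inferInstance
  haveI : Etale (Spec.map (CommRingCat.ofHom φ.toRingHom)) := by
    rw [HasRingHomProperty.Spec_iff (P := @Etale)]
    exact hφ
  let eφ : Spec (CommRingCat.of U) ⟶ Spec (CommRingCat.of (StrictSS.NodeAlg (CommRingCat.of A') a)) :=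
    Spec.map (CommRingCat.ofHom φ.toRingHom)
  have heφ : eφ ≫ Spec.map (CommRingCat.ofHom (algebraMap A' (StrictSS.NodeAlg (CommRingCat.of A') a))) = p := by
    show Spec.map _ ≫ Spec.map _ = Spec.map _
    rw [← Spec.map_comp]
    congr 1
    exact CommRingCat.hom_ext (RingHom.ext fun z => φ.commutes z)
  let g₀ : pullback p (Spec.map ψ) ⟶ Spec (CommRingCat.of (StrictSS.NodeAlg (CommRingCat.of L) (ψ a))) :=
    hM.lift (pullback.fst _ _ ≫ eφ) (pullback.snd _ _) (by rw [Category.assoc]; exact heφ.symm ▸ pullback.condition)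
  have hg₀ : g₀ ≫ Spec.map θ = pullback.fst _ _ ≫ eφ := hM.lift_fst _ _ _
  have hg₁ : g₀ ≫ Spec.map (CommRingCat.ofHom (algebraMap L (StrictSS.NodeAlg (CommRingCat.of L) (ψ a)))) = pullback.snd _ _ :=
    hM.lift_snd _ _ _
  haveI : Etale eφ := inferInstanceAs (Etale (Spec.map (CommRingCat.ofHom φ.toRingHom)))
  haveI : Etale (g₀ ≫ Spec.map θ) := by rw [hg₀]; infer_instance
  haveI : Etale g₀ := Etale.of_comp g₀ (Spec.map θ)
  obtain ⟨c, hc, ⟨iso⟩⟩ : ∃ c : L, (c = 0 ∨ ∃ n : ℕ, c = algebraMap R L ϖ ^ n) ∧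
      Nonempty (StrictSS.NodeAlg L (algebraMap A' L a) ≃ₐ[L] StrictSS.NodeAlg L c) := by
    by_cases ha : algebraMap A' L a = 0
    · exact ⟨_, Or.inl ha, ⟨AlgEquiv.refl⟩⟩
    · obtain ⟨n, w, hn⟩ := IsDiscreteValuationRing.eq_unit_mul_pow_irreducible ha hirr
      exact ⟨_, Or.inr ⟨n, rfl⟩, hn ▸ exists_model_iso (w : L) w.isUnit _⟩
  haveI : IsIso (Spec.map (CommRingCat.ofHom iso.symm.toAlgHom.toRingHom)) :=
    inferInstanceAs (IsIso (Spec.map iso.symm.toRingEquiv.toCommRingCatIso.hom))
  obtain ⟨x', hx', -⟩ := Scheme.Pullback.exists_preimage_pullback (f := p) (g := Spec.map ψ) ⟨P, hP⟩ (closedPoint L) (by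
    refine PrimeSpectrum.ext ?_
    show p' = (maximalIdeal L).comap (algebraMap A' L)
    exact (IsLocalization.AtPrime.under_maximalIdeal L p').symm)
  refine ⟨L, inferInstance, inferInstance, inferInstance, inferInstance, hetL, hirr, c, hc,
    pullback p (Spec.map ψ), pullback.fst _ _ ≫ gU, inferInstanceAs (Etale (_ ≫ _ ≫ _)), x', ?_,
    g₀ ≫ Spec.map (CommRingCat.ofHom iso.symm.toAlgHom.toRingHom), inferInstance, ?_⟩
  · rw [Scheme.Hom.comp_apply, hx']; exact hgU
  · have h1 : g₀ ≫ Spec.map (CommRingCat.ofHom iso.symm.toAlgHom.toRingHom) ≫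
        Spec.map (CommRingCat.ofHom (algebraMap L (StrictSS.NodeAlg L c))) = pullback.snd p (Spec.map ψ) := by
      rw [← Spec.map_comp, ← CommRingCat.ofHom_comp,
        show iso.symm.toAlgHom.toRingHom.comp (algebraMap L (StrictSS.NodeAlg L c)) = algebraMap L _ from
          RingHom.ext fun z => iso.symm.commutes z]
      exact hg₁
    have e2 : Spec.map (CommRingCat.ofHom ((algebraMap L (StrictSS.NodeAlg L c)).comp (algebraMap R L))) =
        Spec.map (CommRingCat.ofHom (algebraMap L (StrictSS.NodeAlg L c))) ≫ Spec.map ψ ≫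
          Spec.map (CommRingCat.ofHom (algebraMap R A')) := by
      rw [← Spec.map_comp, ← Spec.map_comp, IsScalarTower.algebraMap_eq R A' L]
      rfl
    rw [e2, Category.assoc, Category.assoc, ← hw, pullback.condition_assoc, ← h1, Category.assoc, Category.assoc]

set_option maxHeartbeats 400000 in
/-- The smooth case. -/
theorem exists_line_chart_of_smooth {R : Type u} [CommRing R] [IsLocalRing R] {X : Scheme.{u}}
    (f : X ⟶ Spec (CommRingCat.of R)) [Smooth f] (x : X) (hxc : f x = closedPoint R)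
    (hd : FlatMor.fibreDimAt f x = 1) :
    ∃ (U : Scheme.{u}) (e : U ⟶ X) (_ : Etale e) (x' : U) (_ : e x' = x)
      (g : U ⟶ Spec (CommRingCat.of (StrictSS.NodeAlg R (1 : R)))) (_ : Etale g),
      g ≫ Spec.map (CommRingCat.ofHom (algebraMap R (StrictSS.NodeAlg R (1 : R)))) = e ≫ f := by
  obtain ⟨V₀, hV₀, W, hW, hxW, e, hs⟩ := Smooth.exists_isStandardSmooth f x
  obtain rfl : V₀ = ⊤ := top_le_iff.mp fun s _ =>
    Specializes.mem_open (IsLocalRing.specializes_closedPoint s) V₀.2 (hxc ▸ e hxW)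
  let ψ : R →+* Γ(X, W) := (f.appLE ⊤ W e).hom.comp (Scheme.ΓSpecIso (CommRingCat.of R)).inv.hom
  have hψ : ψ.IsStandardSmooth :=
    RingHom.isStandardSmooth_respectsIso.2 _ (Scheme.ΓSpecIso (CommRingCat.of R)).symm.commRingCatIsoToRingEquiv hs
  letI : Algebra R Γ(X, W) := ψ.toAlgebra
  haveI : Algebra.IsStandardSmooth R Γ(X, W) := hψ
  let m := Algebra.IsStandardSmooth.relativeDimension R Γ(X, W)
  haveI hm : Algebra.IsStandardSmoothOfRelativeDimension m R Γ(X, W) := by
    have h := ‹Algebra.IsStandardSmooth R Γ(X, W)›.out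
    haveI := h.choose_spec.choose_spec.choose
    exact ⟨h.choose, h.choose_spec.choose, inferInstance, h.choose_spec.choose_spec.choose_spec.1,
      h.choose_spec.choose_spec.choose_spec.2.some, rfl⟩
  have hw : Spec.map (CommRingCat.ofHom (algebraMap R Γ(X, W))) = hW.fromSpec ≫ f := by
    rw [← IsAffineOpen.SpecMap_appLE_fromSpec f (isAffineOpen_top _) hW e,
      IsAffineOpen.fromSpec_top, Scheme.isoSpec_Spec_inv, ← Spec.map_comp]
    rfl
  let Q := hW.primeIdealOf ⟨x, hxW⟩
  haveI : Nontrivial Γ(X, W) := ⟨⟨0, 1, fun h => Q.isPrime.ne_top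
    ((Ideal.eq_top_iff_one _).mpr (h ▸ Q.asIdeal.zero_mem))⟩⟩
  have hm1 : m = 1 := by
    have h1 : FlatMor.fibreDimAt (Spec.map (CommRingCat.ofHom (algebraMap R Γ(X, W)))) Q = 1 := by
      have := Omega.SmoothFibreDim.fibreDimAt_chart f (CommRingCat.ofHom (algebraMap R Γ(X, W))) hW.fromSpec
        (𝟙 _) (by rw [Category.comp_id]; exact hw) Q
      rw [this, hW.fromSpec_primeIdealOf]
      exact hd
    rw [Omega.SmoothFibreDim.fibreDimAt_spec, Module.rankAtStalk_eq_finrank_of_free,
      Module.finrank_eq_of_rank_eq (Algebra.IsStandardSmoothOfRelativeDimension.rank_kaehlerDifferential m)] at h1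
    exact_mod_cast h1
  haveI : Algebra.IsStandardSmoothOfRelativeDimension 1 R Γ(X, W) := hm1 ▸ hm
  obtain ⟨φ, hφ⟩ := Algebra.IsStandardSmoothOfRelativeDimension.exists_etale_mvPolynomial R Γ(X, W) (n := 1)
  obtain ⟨cc, hcc⟩ : ∃ cc : R, φ (MvPolynomial.X 0) + algebraMap R Γ(X, W) cc ∉ Q.asIdeal := by
    by_cases h : φ (MvPolynomial.X 0) ∈ Q.asIdeal
    · refine ⟨1, fun h1 => Q.isPrime.ne_top ((Ideal.eq_top_iff_one _).mpr ?_)⟩
      rw [map_one] at h1
      simpa using Ideal.sub_mem _ h1 h
    · exact ⟨0, by simpa using h⟩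
  let t := φ (MvPolynomial.X 0) + algebraMap R Γ(X, W) cc
  let σ : Polynomial R ≃ₐ[R] MvPolynomial (Fin 1) R :=
    AlgEquiv.ofAlgHom (Polynomial.aeval (MvPolynomial.X 0 + MvPolynomial.C cc))
      (MvPolynomial.aeval fun _ => Polynomial.X - Polynomial.C cc)
      (MvPolynomial.algHom_ext fun i => by fin_cases i; simp) (Polynomial.algHom_ext (by simp))
  have hσ : (Polynomial.aeval (R := R) t).toRingHom = φ.toRingHom.comp σ.toRingEquiv.toRingHom := by
    refine RingHom.ext fun z => ?_
    show Polynomial.aeval t z = φ (Polynomial.aeval (MvPolynomial.X 0 + MvPolynomial.C cc) z)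
    rw [← Polynomial.aeval_algHom_apply, map_add, ← MvPolynomial.algebraMap_eq, AlgHom.commutes]
  haveI : Etale (Spec.map (CommRingCat.ofHom (Polynomial.aeval (R := R) t).toRingHom)) := by
    rw [HasRingHomProperty.Spec_iff (P := @Etale)]
    rw [CommRingCat.hom_ofHom, hσ]
    exact RingHom.Etale.respectsIso.2 _ σ.toRingEquiv hφ
  let T := Localization.Away t
  let inv : T := IsLocalization.Away.invSelf t
  let τ : StrictSS.NodeAlg R (1 : R) →ₐ[R] T := nodeLift ![algebraMap _ T t, inv] (by
    rw [map_one]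
    exact IsLocalization.Away.mul_invSelf t)
  haveI : Etale (Spec.map (CommRingCat.ofHom (algebraMap Γ(X, W) T))) := by
    rw [HasRingHomProperty.Spec_iff (P := @Etale)]
    exact RingHom.etale_algebraMap.mpr (Algebra.Etale.of_isLocalizationAway t)
  haveI : Etale (Spec.map (CommRingCat.ofHom (Polynomial.aeval (R := R) (nx (1 : R) 0)).toRingHom)) := by
    rw [HasRingHomProperty.Spec_iff (P := @Etale)]
    exact etale_nodeAlg_one R
  have hcomp : Spec.map (CommRingCat.ofHom τ.toRingHom) ≫
      Spec.map (CommRingCat.ofHom (Polynomial.aeval (R := R) (nx (1 : R) 0)).toRingHom) =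
      Spec.map (CommRingCat.ofHom (algebraMap Γ(X, W) T)) ≫
        Spec.map (CommRingCat.ofHom (Polynomial.aeval (R := R) t).toRingHom) := by
    rw [← Spec.map_comp, ← Spec.map_comp]
    congr 1
    refine CommRingCat.hom_ext ?_
    show τ.toRingHom.comp _ = (IsScalarTower.toAlgHom R Γ(X, W) T).toRingHom.comp _
    refine congrArg AlgHom.toRingHom (?_ : τ.comp (Polynomial.aeval (nx (1 : R) 0)) =
      (IsScalarTower.toAlgHom R Γ(X, W) T).comp (Polynomial.aeval t))
    refine Polynomial.algHom_ext ?_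
    simp [τ, nodeLift_nx]
  haveI : Etale (Spec.map (CommRingCat.ofHom τ.toRingHom) ≫
      Spec.map (CommRingCat.ofHom (Polynomial.aeval (R := R) (nx (1 : R) 0)).toRingHom)) := by
    rw [hcomp]; infer_instance
  haveI : Etale (Spec.map (CommRingCat.ofHom τ.toRingHom)) :=
    Etale.of_comp _ (Spec.map (CommRingCat.ofHom (Polynomial.aeval (R := R) (nx (1 : R) 0)).toRingHom))
  obtain ⟨Q', hQ'⟩ := (PrimeSpectrum.localization_away_comap_range T t).ge (show Q ∈ PrimeSpectrum.basicOpen t from hcc)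
  refine ⟨Spec (CommRingCat.of T), Spec.map (CommRingCat.ofHom (algebraMap Γ(X, W) T)) ≫ hW.fromSpec,
    inferInstance, Q', ?_, Spec.map (CommRingCat.ofHom τ.toRingHom), inferInstance, ?_⟩
  · rw [Scheme.Hom.comp_apply, show Spec.map (CommRingCat.ofHom (algebraMap Γ(X, W) T)) Q' = Q from hQ']
    exact hW.fromSpec_primeIdealOf _
  · rw [Category.assoc, ← hw, ← Spec.map_comp, ← Spec.map_comp]
    congr 1
    refine CommRingCat.hom_ext ?_
    exact τ.comp_algebraMap.trans (IsScalarTower.algebraMap_eq R Γ(X, W) T)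

end Groth.Agent.NodeStruct
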