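import Groth.Agent.NodeStruct.Open
import Groth.Agent.S8916
import Groth.Agent.S3700
import Groth.Agent.CIntCI.Syntomic
import Groth.Agent.PSLoc.Basic
import Mathlib.AlgebraicGeometry.Morphisms.FormallyUnramified

/-!
# The singular locus of a nodal family
-/

set_option autoImplicit false
set_option linter.style.haveILetI false
set_option backward.isDefEq.respectTransparency.types false

universe u

open CategoryTheory CategoryTheory.Limits AlgebraicGeometry IsLocalRing TopologicalSpace
open Groth.Agent.StrictSSLib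

noncomputable section

namespace Groth.Agent.NodeStruct

/-- Partial derivatives of an equation lie in the first Fitting ideal of the differentials. -/
theorem mem_fitting_of_coord {A E T : Type u} [CommRing A] [CommRing E] [CommRing T] [Algebra A E] [Algebra A T]
    {u : Fin 2 → E} {D : Fin 2 → Derivation A E E} (h : IsCoord A u D) (π : E →ₐ[A] T) (hπ : Function.Surjective π)
    {F : E} (hF : π F = 0) (i : Fin 2) : π (D i F) ∈ Fitt.ideal T Ω[T⁄A] 1 := by
  classical
  letI : Algebra E T := π.toRingHom.toAlgebra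
  haveI : IsScalarTower A E T := IsScalarTower.of_algebraMap_eq fun a => (π.commutes a).symm
  let δ : Derivation A E Ω[T⁄A] := (KaehlerDifferential.D A T).compAlgebraMap E
  have hδ : ∀ z, KaehlerDifferential.D A T (π z) = ∑ j, π (D j z) • KaehlerDifferential.D A T (π (u j)) := fun z =>
    (h.apply δ z).trans (Finset.sum_congr rfl fun j _ => by
      rw [← algebraMap_smul T (D j z)]
      rfl)
  let y : Fin 2 → Ω[T⁄A] := fun j => KaehlerDifferential.D A T (π (u j))
  have hspan : Submodule.span T (Set.range y) = ⊤ := by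
    refine eq_top_iff.mpr ?_
    rw [← KaehlerDifferential.span_range_derivation, Submodule.span_le]
    rintro _ ⟨t, rfl⟩
    obtain ⟨z, rfl⟩ := hπ t
    rw [hδ z]
    exact Submodule.sum_mem _ fun j _ => Submodule.smul_mem _ _ (Submodule.subset_span ⟨j, rfl⟩)
  have hrel : π (D 0 F) • y 0 + π (D 1 F) • y 1 = 0 := by
    have := hδ F
    rw [hF, map_zero, Fin.sum_univ_two] at this
    exact this.symm
  rw [FittLib.ideal_eq_G y hspan 1]
  have key : ∀ r₀ r₁ : T, π (D 0 F) * r₁ - π (D 1 F) * r₀ ∈ FittLib.G (R := T) y 1 := fun r₀ r₁ => by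
    refine Ideal.subset_span ⟨!![π (D 0 F), π (D 1 F); r₀, r₁], fun j hj => ?_, by rw [Matrix.det_fin_two]; simp⟩
    obtain rfl : j = 0 := Fin.ext (by simp only [Fin.val_zero]; omega)
    simpa [Fin.sum_univ_two] using hrel
  have h0 := key 0 1
  have h1 := key (-1) 0
  rw [mul_one, mul_zero, sub_zero] at h0
  rw [mul_zero, zero_sub, mul_neg_one, neg_neg] at h1
  fin_cases i <;> assumption

/-- Near a node the Fitting subscheme is unramified over the base. -/
theorem exists_fitting_unramified {A C : Type u} [CommRing A] [CommRing C] [Algebra A C]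
    [Algebra.FinitePresentation A C] [Module.Flat A C] (q : Ideal C) [q.IsPrime]
    (hnode : NodeCond A (Localization.AtPrime q) (q.under A)) :
    ∃ g ∉ q, ∀ (T : Type u) [CommRing T] [Algebra C T] [Algebra A T] [IsScalarTower A C T] [IsLocalization.Away g T],
      Algebra.FormallyUnramified A (T ⧸ Fitt.ideal T Ω[T⁄A] 1) := by
  classical
  obtain ⟨g, hg, Cl, _, _, _, _, _, E, _, _, u, D, ρ, F, Q, hfs, -, hD, hρs, hker, hQ, -, hHQ, -, hQc⟩ :=
    exists_presentation q hnode
  haveI := hfs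
  set H := (Matrix.of fun i j => D i (D j F)).det with hH
  obtain ⟨⟨g₁, t⟩, hgt⟩ := IsLocalization.surj (Submonoid.powers g) (ρ H)
  have hdisj : Disjoint (Submonoid.powers g : Set C) (q : Set C) := by
    simp [Set.disjoint_iff, Set.ext_iff, Submonoid.mem_powers_iff, mt (‹q.IsPrime›.mem_of_pow_mem _) hg]
  set q' := q.map (algebraMap C Cl)
  haveI hq' : q'.IsPrime := IsLocalization.isPrime_of_isPrime_disjoint (.powers g) _ _ ‹_› hdisj
  have hq'c : q'.comap (algebraMap C Cl) = q :=
    IsLocalization.comap_map_of_isPrime_disjoint (.powers g) _ ‹q.IsPrime› hdisj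
  have hg₁ : g₁ ∉ q := fun h1 => by
    have h2 : algebraMap C Cl g₁ ∈ q' := Ideal.mem_map_of_mem _ h1
    rw [← hgt] at h2
    rcases hq'.mem_or_mem h2 with h3 | h3
    · exact hHQ ((hQc q' hq'c).le h3)
    · exact hq'.ne_top (Ideal.eq_top_of_isUnit_mem _ h3 (IsLocalization.map_units Cl t))
  refine ⟨g * g₁, ‹q.IsPrime›.mul_notMem hg hg₁, fun T _ _ _ _ _ => ?_⟩
  have hu := IsLocalization.Away.algebraMap_isUnit (S := T) (g * g₁)
  rw [map_mul, IsUnit.mul_iff] at hu
  let ι₀ : Cl →+* T := IsLocalization.Away.lift g (g := algebraMap C T) hu.1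
  have hι₀ : ∀ c, ι₀ (algebraMap C Cl c) = algebraMap C T c := fun c => IsLocalization.Away.lift_eq g hu.1 c
  let ι : Cl →ₐ[A] T := AlgHom.mk ι₀ fun a => by
    show ι₀ (algebraMap A Cl a) = algebraMap A T a
    rw [IsScalarTower.algebraMap_apply A C Cl, hι₀, ← IsScalarTower.algebraMap_apply]
  have hιH : IsUnit (ι (ρ H)) := by
    have h1 : ι₀ (ρ H) * ι₀ (algebraMap C Cl t) = ι₀ (algebraMap C Cl g₁) :=
      (map_mul ι₀ _ _).symm.trans (congrArg ι₀ hgt)
    exact (IsUnit.mul_iff.mp (show IsUnit (ι₀ (ρ H) * ι₀ (algebraMap C Cl t)) by rw [h1, hι₀]; exact hu.2)).1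
  let EH := Localization.Away H
  haveI : Algebra.FormallyEtale E EH := Algebra.FormallyEtale.of_isLocalization (.powers H)
  obtain ⟨D', hD'c, hD'⟩ := hD.exists_of_formallyEtale EH
  haveI : Algebra.FormallySmooth A EH := by
    haveI : Algebra.FormallySmooth E EH := Algebra.FormallySmooth.of_isLocalization (.powers H)
    exact Algebra.FormallySmooth.comp A E EH
  let π₀ : EH →+* T := IsLocalization.Away.lift H (g := (ι.comp ρ).toRingHom) hιH
  have hπ₀ : ∀ e, π₀ (algebraMap E EH e) = ι (ρ e) := fun e => IsLocalization.Away.lift_eq H hιH e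
  let π : EH →ₐ[A] T := AlgHom.mk π₀ fun a => by
    show π₀ (algebraMap A EH a) = algebraMap A T a
    rw [IsScalarTower.algebraMap_apply A E EH, hπ₀, ρ.commutes, ι.commutes]
  have himg : ∀ z : Cl, ∃ e : EH, π₀ e = ι z := fun z => by
    obtain ⟨e, rfl⟩ := hρs z
    exact ⟨_, hπ₀ e⟩
  have hπs : Function.Surjective π := by
    intro z
    obtain ⟨⟨c, ⟨_, n, rfl⟩⟩, hc⟩ := IsLocalization.surj (Submonoid.powers (g * g₁)) z
    obtain ⟨a, ha⟩ := himg (algebraMap C Cl c)
    obtain ⟨b, hb⟩ := himg ↑(IsLocalization.Away.algebraMap_isUnit (S := Cl) g).unit⁻¹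
    obtain ⟨w, hw⟩ := himg (algebraMap C Cl t)
    obtain ⟨w', hw'⟩ := himg ↑(IsLocalization.map_units Cl t).unit⁻¹
    obtain ⟨hinv, hhinv⟩ := IsLocalization.Away.algebraMap_isUnit (S := EH) H
    refine ⟨a * (b * ((↑hinv⁻¹ : EH) * w')) ^ n, ?_⟩
    show π₀ _ = z
    have e1 : ι₀ (algebraMap C Cl g) * π₀ b = 1 := by
      rw [hb]; show ι₀ _ * ι₀ _ = 1
      rw [← map_mul, IsUnit.mul_val_inv, map_one]
    have e2 : ι₀ (algebraMap C Cl g₁) * π₀ ((↑hinv⁻¹ : EH) * w') = 1 := by
      rw [← hgt, map_mul, show ι₀ (ρ H) = π₀ (algebraMap E EH H) from (hπ₀ H).symm, ← hhinv, map_mul π₀, hw']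
      show π₀ ↑hinv * ι₀ (algebraMap C Cl t) * (π₀ ↑hinv⁻¹ * ι₀ _) = 1
      rw [mul_mul_mul_comm, ← map_mul, ← map_mul, IsUnit.mul_val_inv, Units.mul_inv, map_one, map_one, one_mul]
    simp only [map_mul, map_pow, ← hι₀] at hc
    rw [map_mul, map_pow, map_mul, ha]
    calc ι₀ (algebraMap C Cl c) * (π₀ b * π₀ ((↑hinv⁻¹ : EH) * w')) ^ n
        = z * ((ι₀ (algebraMap C Cl g) * π₀ b) * (ι₀ (algebraMap C Cl g₁) * π₀ ((↑hinv⁻¹ : EH) * w'))) ^ n := by
          rw [← hc]; ring
      _ = z := by rw [e1, e2, one_mul, one_pow, mul_one]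
  have hF0 : π (algebraMap E EH F) = 0 := by
    show π₀ _ = 0
    rw [hπ₀, show ρ F = 0 from RingHom.mem_ker.mp (hker.ge (Ideal.mem_span_singleton_self F)), map_zero]
  let L : Fin 2 → EH := fun j => D' j (algebraMap E EH F)
  have hdet : IsUnit (Matrix.of fun j i => D' i (L j)).det := by
    have e : (Matrix.of fun j i => D' i (L j)) = ((Matrix.of fun i j => D i (D j F)).map (algebraMap E EH)).transpose := by
      ext j i
      simp [L, hD']
    rw [e, Matrix.det_transpose, ← RingHom.mapMatrix_apply, ← RingHom.map_det]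
    exact IsLocalization.Away.algebraMap_isUnit H
  haveI := hD'c.formallyEtale_quotient L hdet
  let θ : EH ⧸ Ideal.span (Set.range L) →ₐ[A] T ⧸ Fitt.ideal T Ω[T⁄A] 1 :=
    Ideal.Quotient.liftₐ _ ((Ideal.Quotient.mkₐ A _).comp π) (by
      intro z hz
      have hle : Ideal.span (Set.range L) ≤ (Fitt.ideal T Ω[T⁄A] 1).comap π.toRingHom :=
        Ideal.span_le.mpr fun _ ⟨j, hj⟩ => hj ▸ mem_fitting_of_coord hD'c π hπs hF0 j
      exact Ideal.Quotient.eq_zero_iff_mem.mpr (hle hz))
  refine Algebra.FormallyUnramified.of_surjective θ fun z => ?_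
  obtain ⟨z, rfl⟩ := Ideal.Quotient.mk_surjective z
  obtain ⟨e, rfl⟩ := hπs z
  exact ⟨Ideal.Quotient.mk _ e, rfl⟩

/-- The fibres of a nodal family are complete intersections. -/
theorem isCI_fiberStalk {X S : Scheme.{u}} (f : X ⟶ S) (h : Curv2.IsNodalFamily f) (x : X) :
    Pi1.IsCompleteIntersection (CInt.fiberStalk f x) := by
  haveI : LocallyOfFinitePresentation f := h.2.1
  haveI : LocallyOfFinitePresentation (f.fiberToSpecResidueField (f x)) :=
    MorphismProperty.pullback_snd (P := @LocallyOfFinitePresentation) _ _ inferInstance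
  rcases smooth_or_node f h x with hs | hn
  · obtain ⟨V, hV, hVs⟩ := fibre_smooth f (f x) (f.asFiber x) (by rw [f.fiberι_asFiber]; exact hs)
    haveI := hVs
    haveI := CurveDVR.isRegularLocalRing_stalk (k := S.residueField (f x))
      (V.ι ≫ f.fiberToSpecResidueField (f x)) ⟨f.asFiber x, hV⟩
    haveI : IsRegularLocalRing (CInt.fiberStalk f x) :=
      IsRegularLocalRing.of_ringEquiv (V.stalkIso ⟨f.asFiber x, hV⟩).commRingCatIsoToRingEquiv
    exact S3700.isCI_of_regular _
  · obtain ⟨hcl, y, hy, hord⟩ := hn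
    letI : (f.fiber (f x)).Over (Spec (CommRingCat.of (S.residueField (f x)))) := ⟨f.fiberToSpecResidueField (f x)⟩
    haveI : LocallyOfFiniteType ((f.fiber (f x)) ↘ Spec (CommRingCat.of (S.residueField (f x)))) :=
      MorphismProperty.pullback_snd (P := @LocallyOfFiniteType) _ _ inferInstance
    haveI : IsLocallyNoetherian (f.fiber (f x)) :=
      LocallyOfFiniteType.isLocallyNoetherian ((f.fiber (f x)) ↘ Spec (CommRingCat.of (S.residueField (f x))))
    suffices hci : Pi1.IsCompleteIntersection ((f.fiber (f x)).presheaf.stalk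
        (Curv2.bcFst (S.residueField (f x)) (f.fiber (f x)) (AlgebraicClosure (S.residueField (f x))) y)) by
      revert hci
      generalize Curv2.bcFst (S.residueField (f x)) (f.fiber (f x)) (AlgebraicClosure (S.residueField (f x))) y = z at hy ⊢
      subst hy
      exact id
    obtain ⟨-, a, b, c, hd, e, -⟩ := NodeForm.exists_form_of_isOrdDoublePt (K := AlgebraicClosure (S.residueField (f x)))
      (IsPullback.of_hasPullback ((f.fiber (f x)) ↘ Spec (CommRingCat.of (S.residueField (f x))))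
        (Spec.map (CommRingCat.ofHom (algebraMap (S.residueField (f x)) (AlgebraicClosure (S.residueField (f x)))))))
      y (by rw [show (pullback.fst _ _ : _ ⟶ f.fiber (f x)) y = _ from hy]; exact hcl) hord
    let κ := ResidueField ((f.fiber (f x)).presheaf.stalk
      (Curv2.bcFst (S.residueField (f x)) (f.fiber (f x)) (AlgebraicClosure (S.residueField (f x))) y))
    haveI := PSLoc.isRegularLocalRing (k := κ) 2
    have hd' : b ^ 2 - 4 * a * c ≠ 0 := fun h0 => hd (by linear_combination -h0)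
    have hqm : NodeForm.qf a b c ∈ maximalIdeal (MvPowerSeries (Fin 2) κ) := by
      rw [mem_maximalIdeal, mem_nonunits_iff, MvPowerSeries.isUnit_iff_constantCoeff]
      simp [NodeForm.qf]
    refine ⟨MvPowerSeries (Fin 2) κ, inferInstance, inferInstance, [NodeForm.qf a b c],
      fun r hr => List.mem_singleton.mp hr ▸ hqm, ⟨(RingTheory.Sequence.isWeaklyRegular_singleton_iff _ _).mpr ?_, ?_⟩,
      ⟨e.trans (Ideal.quotEquivOfEq (congrArg Ideal.span (by ext; simp)))⟩⟩
    · exact (isRegular_of_ne_zero (NodeForm.qf_ne_zero hd')).left.isSMulRegular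
    · rw [Ideal.ofList_singleton, smul_eq_mul, Ideal.mul_top]
      exact fun htop => (maximalIdeal.isMaximal _).ne_top
        (eq_top_iff.mpr (htop.le.trans ((Ideal.span_singleton_le_iff_mem _).mpr hqm)))

/-- Nodal families are syntomic. -/
theorem isSyntomicMor_of_nodal {X S : Scheme.{u}} (f : X ⟶ S) (h : Curv2.IsNodalFamily f) :
    Synt.IsSyntomicMor f := by
  haveI : Flat f := h.1
  haveI : LocallyOfFinitePresentation f := h.2.1
  exact fun x => (CIntCI.isSyntomicAt_iff f x).2 ⟨Flat.stalkMap f x, isCI_fiberStalk f h x⟩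

theorem localFibreDim_eq {X S : Scheme.{u}} (f : X ⟶ S) (x : X) :
    Dual3.localFibreDim f x = FlatMor.fibreDimAt f x := by
  rw [Dual3.localFibreDim, FlatMor.fibreDimAt, FlatMor.localDim, iInf_subtype]
  rfl

/-- The Fitting subscheme of a nodal family is unramified over the base. -/
theorem formallyUnramified_fitting {X S : Scheme.{u}} (f : X ⟶ S) [QuasiSeparated f] (h : Curv2.IsNodalFamily f) :
    FormallyUnramified ((Fitt.sheafIdeal (Omega.sheaf f) 1).subschemeι ≫ f) := by
  haveI : Flat f := h.1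
  haveI : LocallyOfFinitePresentation f := h.2.1
  haveI := S8917.isQCoh_omega f
  haveI := S8917.isFT_omega f
  set Z := Fitt.sheafIdeal (Omega.sheaf f) 1 with hZ
  let good : X.affineOpens → Prop := fun U => FormallyUnramified (Z.subschemeCover.f U ≫ Z.subschemeι ≫ f)
  suffices hgood : ∀ z : Z.subscheme, ∃ U, good U ∧ Z.subschemeι z ∈ U.1 by
    choose U hU hzU using hgood
    refine IsZariskiLocalAtSource.of_iSup_eq_top (P := @FormallyUnramified) (fun z => (Z.subschemeCover.f (U z)).opensRange) ?_ fun z => ?_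
    · refine eq_top_iff.mpr fun z _ => Opens.mem_iSup.mpr ⟨z, ?_⟩
      rw [Scheme.IdealSheafData.opensRange_subschemeCover_map]
      exact hzU z
    · rw [← IsOpenImmersion.isoOfRangeEq_inv_fac (Z.subschemeCover.f (U z)) (Scheme.Opens.ι _)
        (congr_arg Opens.carrier (Z.subschemeCover.f (U z)).opensRange.opensRange_ι.symm), Category.assoc,
        MorphismProperty.cancel_left_of_respectsIso @FormallyUnramified]
      exact hU z
  intro z
  have hsupp : Z.subschemeι z ∈ Z.support := Z.range_subschemeι.le ⟨z, rfl⟩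
  have hnode : IsNodeFib f (Z.subschemeι z) := (smooth_or_node f h _).resolve_left fun hs =>
    (S8916.result f 1 (fun s T hT => by exact_mod_cast (h.2.2 s).1 T hT) _).mp hsupp
      ⟨f.smoothLocus, hs, smooth_smoothLocus f⟩
  obtain ⟨V, hV, W, hW, hWV, q, _, hxW, hfp, hflat, hq, hnc⟩ := exists_affine f _ hnode
  letI := (f.appLE V W hWV).hom.toAlgebra
  haveI := hfp
  haveI := hflat
  obtain ⟨g, hg, hT⟩ := exists_fitting_unramified q hnc
  have hzg : Z.subschemeι z ∈ X.basicOpen g := by
    have h1 : (hW.primeIdealOf ⟨_, hxW⟩) ∈ PrimeSpectrum.basicOpen g := fun hh => hg (hq ▸ hh)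
    rw [← hW.fromSpec_preimage_basicOpen] at h1
    have h2 : hW.fromSpec (hW.primeIdealOf ⟨_, hxW⟩) ∈ X.basicOpen g := h1
    rwa [hW.fromSpec_primeIdealOf] at h2
  let U : X.affineOpens := ⟨X.basicOpen g, hW.basicOpen g⟩
  refine ⟨U, ?_, hzg⟩
  have hle : U.1 ≤ f ⁻¹ᵁ V := (X.basicOpen_le g).trans hWV
  letI : Algebra Γ(S, V) Γ(X, U.1) := (f.appLE V U.1 hle).hom.toAlgebra
  haveI : IsScalarTower Γ(S, V) Γ(X, W) Γ(X, U.1) := IsScalarTower.of_algebraMap_eq' (by
    change (f.appLE V U.1 hle).hom = _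
    rw [← Scheme.Hom.appLE_map f hWV (homOfLE (X.basicOpen_le g)).op]
    rfl)
  haveI : IsLocalization.Away g Γ(X, U.1) := hW.isLocalization_basicOpen g
  haveI hun : Algebra.FormallyUnramified Γ(S, V) (Γ(X, U.1) ⧸ Z.ideal U) := by
    rw [hZ, FittLib.sheafIdeal_ideal, S8917.ideal_omega_sections f hV U.2 hle]
    exact hT Γ(X, U.1)
  let p : Spec (CommRingCat.of (Γ(X, U.1) ⧸ Z.ideal U)) ⟶ Spec Γ(S, V) :=
    Spec.map (CommRingCat.ofHom (algebraMap Γ(S, V) (Γ(X, U.1) ⧸ Z.ideal U)))
  have hcomp : p ≫ hV.fromSpec = Z.subschemeCover.f U ≫ Z.subschemeι ≫ f := by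
    refine Eq.symm (((Category.assoc _ _ _).symm.trans (congrArg (· ≫ f)
      ((Z.subschemeCover_map_subschemeι U).trans (Z.glueDataObjι_ι U)))).trans ?_)
    refine (Category.assoc _ _ _).trans ((congrArg (Spec.map _ ≫ ·)
      (IsAffineOpen.SpecMap_appLE_fromSpec f hV U.2 hle).symm).trans ?_)
    refine (Category.assoc _ _ _).symm.trans (congrArg (· ≫ hV.fromSpec) ?_)
    exact (Spec.map_comp _ _).symm
  haveI : FormallyUnramified p :=
    (HasRingHomProperty.Spec_iff (P := @FormallyUnramified)).mpr (RingHom.formallyUnramified_algebraMap.mpr hun)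
  show FormallyUnramified _
  rw [← hcomp]
  exact MorphismProperty.comp_mem @FormallyUnramified _ _ ‹_› (inferInstanceAs (FormallyUnramified _))

end Groth.Agent.NodeStruct
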