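import Groth.Agent.NodeStruct.FittingScheme
import Groth.Agent.NodeStruct.FittingForward
import Groth.Agent.Synt44.CM
import Groth.Agent.Wt.CMSliceQF

/-!
# Nodal curves from the Fitting ideal
-/

set_option autoImplicit false
set_option linter.style.haveILetI false
set_option backward.isDefEq.respectTransparency.types false

universe u

open CategoryTheory CategoryTheory.Limits AlgebraicGeometry IsLocalRing TopologicalSpace
open Groth.Agent.StrictSSLib

noncomputable section

namespace Groth.Agent.NodeStruct

theorem essFiniteType_strMap {k : Type u} [Field k] {X : Scheme.{u}} (φ : X ⟶ Spec (CommRingCat.of k))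
    [LocallyOfFiniteType φ] (x : X) :
    @Algebra.EssFiniteType k (X.presheaf.stalk x) _ _ (strMap φ x).toAlgebra := by
  letI algA : Algebra k (X.presheaf.stalk x) := (strMap φ x).toAlgebra
  obtain ⟨W, hW, hxW, -⟩ := exists_isAffineOpen_mem_and_subset (x := x) (U := ⊤) trivial
  letI : Algebra k Γ(X, W) :=
    ((φ.appLE ⊤ W le_top).hom.comp (Scheme.ΓSpecIso (CommRingCat.of k)).inv.hom).toAlgebra
  haveI : Algebra.FiniteType k Γ(X, W) :=
    (LocallyOfFiniteType.finiteType_appLE (f := φ) (isAffineOpen_top _) hW le_top).comp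
      (RingHom.FiniteType.of_surjective _
        ((ConcreteCategory.isIso_iff_bijective (Scheme.ΓSpecIso (CommRingCat.of k)).inv).mp inferInstance).2)
  letI : Algebra Γ(X, W) (X.presheaf.stalk x) := TopCat.Presheaf.algebra_section_stalk X.presheaf (⟨x, hxW⟩ : W)
  haveI : IsScalarTower k Γ(X, W) (X.presheaf.stalk x) := IsScalarTower.of_algebraMap_eq fun c =>
    (TopCat.Presheaf.germ_res_apply X.presheaf (homOfLE (le_top (a := W))) x hxW _).symm
  haveI := hW.isLocalization_stalk ⟨x, hxW⟩
  exact Algebra.EssFiniteType.comp k Γ(X, W) (X.presheaf.stalk x) (h₂ :=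
    Algebra.EssFiniteType.of_isLocalization _ (hW.primeIdealOf ⟨x, hxW⟩).asIdeal.primeCompl)

/-- A complete intersection local ring of a curve at a closed point has a regular element. -/
theorem exists_regular_of_isCI {k : Type u} [Field k] {X : Scheme.{u}} (φ : X ⟶ Spec (CommRingCat.of k))
    [LocallyOfFiniteType φ] (hdim : ∀ T ∈ irreducibleComponents (X : Type u), topologicalKrullDim T = 1)
    {x : X} (hx : IsClosed ({x} : Set X)) (hci : Pi1.IsCompleteIntersection (X.presheaf.stalk x)) :
    ∃ t ∈ maximalIdeal (X.presheaf.stalk x), IsSMulRegular (X.presheaf.stalk x) t := by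
  letI algA : Algebra k (X.presheaf.stalk x) := (strMap φ x).toAlgebra
  haveI := essFiniteType_strMap φ x
  haveI : LocCoh.IsCohenMacaulayLocalRing (X.presheaf.stalk x) :=
    Synt44.isCohenMacaulayLocalRing_of_isCIOver ((CIntCI.isCI_iff_isCIOver k _).mp hci)
  obtain ⟨xs, hle, hreg, hall⟩ := Wt.CMSlice.exists_regular_sop (X.presheaf.stalk x)
  match xs with
  | a :: l =>
    exact ⟨a, hle (Ideal.subset_span (show a ∈ a :: l from List.mem_cons_self)),
      ((RingTheory.Sequence.isWeaklyRegular_cons_iff _ a l).mp hreg).1⟩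
  | [] =>
    exfalso
    set Z := irreducibleComponent x
    obtain ⟨η, hη⟩ := QuasiSober.sober (α := (X : Type u)) (isIrreducible_irreducibleComponent (x := x))
      isClosed_irreducibleComponent
    have hspec : η ⤳ x := hη.specializes mem_irreducibleComponent
    obtain ⟨P, hP⟩ : η ∈ Set.range (X.fromSpecStalk x) := by
      rw [Scheme.range_fromSpecStalk]; exact hspec
    have hPm : P = closedPoint _ := PrimeSpectrum.ext (hall P.asIdeal P.isPrime (by simp [Ideal.ofList]))
    have hηx : η = x := by rw [← hP, hPm, Scheme.fromSpecStalk_closedPoint]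
    have h1 : Z = {x} := by
      rw [show Z = closure {η} from hη.def.symm, hηx, hx.closure_eq]
    have h2 := hdim Z (irreducibleComponent_mem_irreducibleComponents x)
    haveI : Subsingleton Z := by rw [h1]; exact inferInstanceAs (Subsingleton ({x} : Set X))
    haveI : Nonempty Z := ⟨⟨x, mem_irreducibleComponent⟩⟩
    have h3 := h2.ge.trans (topologicalKrullDim_zero_of_discreteTopology Z)
    exact absurd h3 (not_le.mpr zero_lt_one)

/-- A curve whose singular scheme is unramified and whose local rings are complete intersections is nodal. -/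
theorem atWorstNodal_of_fitting {k : Type u} [Field k] {X : Scheme.{u}} (φ : X ⟶ Spec (CommRingCat.of k))
    [LocallyOfFiniteType φ] [QuasiSeparated φ]
    (hdim : ∀ T ∈ irreducibleComponents (X : Type u), topologicalKrullDim T = 1)
    (hci : ∀ x : X, IsClosed ({x} : Set X) → Pi1.IsCompleteIntersection (X.presheaf.stalk x))
    (hunr : FormallyUnramified ((Fitt.sheafIdeal (Omega.sheaf φ) 1).subschemeι ≫ φ)) :
    @Curv2.AtWorstNodal k _ X ⟨φ⟩ := by
  intro x hx
  by_cases hs : x ∈ (Fitt.sheafIdeal (Omega.sheaf φ) 1).support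
  · obtain ⟨t, ht, htreg⟩ := exists_regular_of_isCI φ hdim hx (hci x hx)
    exact Or.inr (isNode_of_fitting φ hunr hx hs ht htreg)
  · haveI : LocallyOfFinitePresentation φ :=
      LocallyOfFinitePresentation.iff_locallyOfFiniteType.mpr inferInstance
    exact Or.inl ((EtStruct.smooth_nhd_iff φ x).mpr
      (not_not.mp fun hh => hs ((S8916.mem_support_iff_field φ 1 (fun T hT => by exact_mod_cast hdim T hT) x).mpr hh)))

end Groth.Agent.NodeStruct
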