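import Groth.Agent.NodeForm.Split
import Groth.Agent.FittLib.Rank
import Mathlib.RingTheory.Kaehler.Basic
import Mathlib.RingTheory.MvPolynomial.Basic
import Mathlib.Algebra.MvPolynomial.PDeriv
import Mathlib.RingTheory.Nakayama

/-!
# An algebraic node from the first Fitting ideal of the differentials
-/

set_option autoImplicit false
set_option linter.style.haveILetI false

universe u

open IsLocalRing

noncomputable section

namespace Groth.Agent.NodeStruct

/-- Derivations lower powers of ideals by one. -/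
theorem derivation_mem_pow {R P : Type u} [CommRing R] [CommRing P] [Algebra R P] (δ : Derivation R P P)
    (I : Ideal P) : ∀ n : ℕ, ∀ z ∈ I ^ (n + 1), δ z ∈ I ^ n
  | 0, z, _ => by simp
  | n + 1, z, hz => by
    rw [pow_succ] at hz
    induction hz using Submodule.mul_induction_on' with
    | mem_mul_mem a ha b hb =>
      rw [Derivation.leibniz, smul_eq_mul, smul_eq_mul]
      refine add_mem (Ideal.mul_mem_right _ _ ha) ?_
      rw [pow_succ, mul_comm b]
      exact Ideal.mul_mem_mul (derivation_mem_pow δ I n a ha) hb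
    | add a _ b _ ha hb => rw [map_add]; exact add_mem ha hb

/-- Every polynomial in two variables is quadratic up to cubic terms. -/
theorem exists_quadratic {K : Type u} [Field K] (P : MvPolynomial (Fin 2) K) :
    ∃ c p q A B C : K, P - (MvPolynomial.C c + MvPolynomial.C p * MvPolynomial.X 0 + MvPolynomial.C q * MvPolynomial.X 1 +
      MvPolynomial.C A * MvPolynomial.X 0 ^ 2 + MvPolynomial.C B * (MvPolynomial.X 0 * MvPolynomial.X 1) +
      MvPolynomial.C C * MvPolynomial.X 1 ^ 2) ∈ Ideal.span (Set.range MvPolynomial.X) ^ 3 := by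
  induction P using MvPolynomial.induction_on with
  | C a => exact ⟨a, 0, 0, 0, 0, 0, by simp⟩
  | add P Q hP hQ =>
    obtain ⟨c, p, q, A, B, C, h⟩ := hP
    obtain ⟨c', p', q', A', B', C', h'⟩ := hQ
    refine ⟨c + c', p + p', q + q', A + A', B + B', C + C', ?_⟩
    convert add_mem h h' using 1
    simp only [map_add]
    ring
  | mul_X P i hP =>
    obtain ⟨c, p, q, A, B, C, h⟩ := hP
    set M : Ideal (MvPolynomial (Fin 2) K) := Ideal.span (Set.range MvPolynomial.X) with hM
    have h0 : (MvPolynomial.X 0 : MvPolynomial (Fin 2) K) ∈ M := Ideal.subset_span ⟨0, rfl⟩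
    have h1 : (MvPolynomial.X 1 : MvPolynomial (Fin 2) K) ∈ M := Ideal.subset_span ⟨1, rfl⟩
    have hcub : ∀ x y z : MvPolynomial (Fin 2) K, ∀ a : K, x ∈ M → y ∈ M → z ∈ M →
        MvPolynomial.C a * (x * y * z) ∈ M ^ 3 := fun x y z a hx hy hz => by
      rw [pow_succ, pow_two]
      exact Ideal.mul_mem_left _ _ (Ideal.mul_mem_mul (Ideal.mul_mem_mul hx hy) hz)
    fin_cases i
    · simp only [show ((⟨0, by omega⟩ : Fin 2)) = 0 from rfl]
      refine ⟨0, c, 0, p, q, 0, ?_⟩
      have := add_mem (add_mem (add_mem (Ideal.mul_mem_right (MvPolynomial.X 0) _ h)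
        (hcub _ _ _ A h0 h0 h0)) (hcub _ _ _ B h0 h1 h0)) (hcub _ _ _ C h1 h1 h0)
      convert this using 1
      simp only [map_zero, zero_mul, add_zero, zero_add]
      ring
    · simp only [show ((⟨1, by omega⟩ : Fin 2)) = 1 from rfl]
      refine ⟨0, 0, c, 0, p, q, ?_⟩
      have := add_mem (add_mem (add_mem (Ideal.mul_mem_right (MvPolynomial.X 1) _ h)
        (hcub _ _ _ A h0 h0 h1)) (hcub _ _ _ B h0 h1 h1)) (hcub _ _ _ C h1 h1 h1)
      convert this using 1
      simp only [map_zero, zero_mul, add_zero, zero_add]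
      ring

variable {K B : Type u} [Field K] [CommRing B] [IsLocalRing B] [IsNoetherianRing B] [Algebra K B]

/-- Generators of the maximal ideal, independent modulo its square, with their differentials. -/
theorem exists_generators (hres : Function.Surjective ((residue B).comp (algebraMap K B)))
    [Module.Finite B Ω[B⁄K]] :
    ∃ (n : ℕ) (x : Fin n → B), n = Module.finrank (ResidueField B) (CotangentSpace B) ∧
      Ideal.span (Set.range x) = maximalIdeal B ∧
      (∀ p : Fin n → B, ∑ i, p i * x i ∈ maximalIdeal B ^ 2 → ∀ i, p i ∈ maximalIdeal B) ∧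
      Submodule.span B (Set.range fun i => KaehlerDifferential.D K B (x i)) = ⊤ ∧
      ∀ a : Fin n → B, ∑ i, a i • KaehlerDifferential.D K B (x i) = 0 → ∀ i, a i ∈ maximalIdeal B := by
  classical
  let bs := Module.finBasis (ResidueField B) (CotangentSpace B)
  choose v hv using fun i => (maximalIdeal B).toCotangent_surjective (bs i)
  let x : Fin (Module.finrank (ResidueField B) (CotangentSpace B)) → B := fun i => (v i : B)
  have hsmul : ∀ (r : B) (z : CotangentSpace B), r • z = residue B r • z := fun r z =>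
    (algebraMap_smul (ResidueField B) r z).symm
  have hxm : ∀ i, x i ∈ maximalIdeal B := fun i => (v i).2
  have hspan : Ideal.span (Set.range x) = maximalIdeal B := by
    refine le_antisymm (Ideal.span_le.mpr fun _ ⟨i, hi⟩ => hi ▸ hxm i) ?_
    refine Submodule.le_of_le_smul_of_le_jacobson_bot (I := maximalIdeal B) (IsNoetherian.noetherian _)
      (maximalIdeal_le_jacobson _) fun z hz => ?_
    have hz' := bs.sum_repr ((maximalIdeal B).toCotangent ⟨z, hz⟩)
    choose r hr using fun i => residue_surjective (R := B) (bs.repr ((maximalIdeal B).toCotangent ⟨z, hz⟩) i)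
    simp_rw [← hr, ← hsmul, ← hv, ← map_smul, ← map_sum] at hz'
    rw [Ideal.toCotangent_eq, pow_two] at hz'
    simp only [AddSubmonoidClass.coe_finset_sum, SetLike.val_smul, smul_eq_mul] at hz'
    rw [show z = ∑ i, r i * x i + -(∑ i, r i * x i - z) by ring, smul_eq_mul]
    refine Submodule.add_mem_sup (Ideal.sum_mem _ fun i _ => Ideal.mul_mem_left _ _ (Ideal.subset_span ⟨i, rfl⟩)) ?_
    exact neg_mem hz'
  have hind : ∀ p : Fin _ → B, ∑ i, p i * x i ∈ maximalIdeal B ^ 2 → ∀ i, p i ∈ maximalIdeal B := by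
    intro p hp i
    have h0 : ∑ i, residue B (p i) • bs i = 0 := by
      simp_rw [← hv, ← hsmul, ← map_smul, ← map_sum]
      rw [Ideal.toCotangent_eq_zero]
      simpa [x] using hp
    exact (residue_eq_zero_iff _).mp (Fintype.linearIndependent_iff.mp bs.linearIndependent _ h0 i)
  -- the constant term
  have hbij : Function.Bijective (algebraMap K (ResidueField B)) :=
    ⟨(algebraMap K (ResidueField B)).injective, fun r => by
      obtain ⟨z, hz⟩ := hres r
      exact ⟨z, hz⟩⟩
  let s := (RingEquiv.ofBijective (algebraMap K (ResidueField B)) hbij).symm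
  let cst : B → K := fun b => s (residue B b)
  have hcst : ∀ b, residue B (algebraMap K B (cst b)) = residue B b := fun b =>
    ((RingEquiv.ofBijective (algebraMap K (ResidueField B)) hbij).apply_symm_apply (residue B b))
  have hcK : ∀ c, cst (algebraMap K B c) = c := fun c =>
    (RingEquiv.ofBijective (algebraMap K (ResidueField B)) hbij).symm_apply_apply c
  have hε : ∀ b, b - algebraMap K B (cst b) ∈ maximalIdeal B := fun b =>
    (residue_eq_zero_iff _).mp (by rw [map_sub, hcst, sub_self])
  let lin : B →ₗ[K] maximalIdeal B :=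
    { toFun := fun b => ⟨b - algebraMap K B (cst b), hε b⟩
      map_add' := fun b b' => Subtype.ext (by
        show b + b' - algebraMap K B (s (residue B (b + b'))) =
          (b - algebraMap K B (s (residue B b))) + (b' - algebraMap K B (s (residue B b')))
        rw [map_add, map_add, map_add]; ring)
      map_smul' := fun c b => Subtype.ext (by
        show c • b - algebraMap K B (s (residue B (c • b))) = c • (b - algebraMap K B (s (residue B b)))
        rw [Algebra.smul_def, Algebra.smul_def, map_mul, map_mul,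
          show s (residue B (algebraMap K B c)) = c from hcK c, map_mul]
        ring) }
  let δ : Derivation K B (CotangentSpace B) :=
    Derivation.mk' (((maximalIdeal B).toCotangent.restrictScalars K).comp lin) fun b b' => by
      show (maximalIdeal B).toCotangent (lin (b * b')) =
        b • (maximalIdeal B).toCotangent (lin b') + b' • (maximalIdeal B).toCotangent (lin b)
      rw [← LinearMap.map_smul (maximalIdeal B).toCotangent, ← LinearMap.map_smul (maximalIdeal B).toCotangent,
        ← map_add (maximalIdeal B).toCotangent, Ideal.toCotangent_eq, pow_two]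
      show b * b' - algebraMap K B (s (residue B (b * b'))) -
        (b * (b' - algebraMap K B (s (residue B b'))) + b' * (b - algebraMap K B (s (residue B b)))) ∈ _
      rw [map_mul, map_mul, map_mul]
      have := neg_mem (Ideal.mul_mem_mul (hε b) (hε b'))
      convert this using 1
      simp only [cst]
      ring
  have hδx : ∀ i, δ (x i) = bs i := fun i => by
    rw [← hv]
    show (maximalIdeal B).toCotangent (lin (x i)) = _
    congr 1
    refine Subtype.ext ?_
    show x i - algebraMap K B (s (residue B (x i))) = _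
    rw [(residue_eq_zero_iff _).mpr (hxm i), map_zero, map_zero, sub_zero]
  refine ⟨_, x, rfl, hspan, hind, ?_, fun a ha i => ?_⟩
  · refine eq_top_iff.mpr ?_
    refine Submodule.le_of_le_smul_of_le_jacobson_bot (I := maximalIdeal B) Module.Finite.fg_top
      (maximalIdeal_le_jacobson _) ?_
    rw [← KaehlerDifferential.span_range_derivation, Submodule.span_le]
    rintro _ ⟨b, rfl⟩
    have hb := hε b
    rw [← hspan, Ideal.mem_span_range_iff_exists_fun] at hb
    obtain ⟨r, hr⟩ := hb
    rw [show b = algebraMap K B (cst b) + ∑ i, r i * x i by rw [hr]; ring, map_add, Derivation.map_algebraMap,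
      zero_add, map_sum, SetLike.mem_coe]
    refine Submodule.sum_mem _ fun i _ => ?_
    rw [Derivation.leibniz]
    refine Submodule.add_mem_sup (Submodule.smul_mem _ _ (Submodule.subset_span ⟨i, rfl⟩)) ?_
    rw [KaehlerDifferential.span_range_derivation]
    exact Submodule.smul_mem_smul (hxm i) Submodule.mem_top
  · have h0 := congrArg δ.liftKaehlerDifferential ha
    simp only [map_sum, map_smul, Derivation.liftKaehlerDifferential_comp_D, map_zero, hδx, hsmul] at h0
    exact (residue_eq_zero_iff _).mp (Fintype.linearIndependent_iff.mp bs.linearIndependent _ h0 i)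

/-- A local algebra with residue field the base, whose first Fitting ideal of differentials is the maximal
ideal and which has a regular element in the maximal ideal, is an ordinary double point. -/
theorem isOrdDoublePt_of_fitting [IsAlgClosed K] (hres : Function.Surjective ((residue B).comp (algebraMap K B)))
    [Module.Finite B Ω[B⁄K]] (hfit : Fitt.ideal B Ω[B⁄K] 1 = maximalIdeal B)
    {t : B} (ht : t ∈ maximalIdeal B) (htreg : IsSMulRegular B t) : Curv2.IsOrdDoublePt K B := by
  classical
  obtain ⟨n, x, hn, hspan, hind, hdspan, hrelm⟩ := exists_generators (K := K) hres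
  have hG : Fitt.ideal B Ω[B⁄K] 1 = FittLib.G (R := B) (fun i => KaehlerDifferential.D K B (x i)) 1 :=
    FittLib.ideal_eq_G _ hdspan 1
  set m := maximalIdeal B with hm
  have hne : m ≠ m ^ 2 := by
    intro h
    have h0 : m ≤ ⊥ := by
      refine Submodule.le_of_le_smul_of_le_jacobson_bot (I := m) (IsNoetherian.noetherian _)
        (maximalIdeal_le_jacobson _) ?_
      rw [bot_sup_eq, smul_eq_mul, ← pow_two, ← h]
    obtain rfl : t = 0 := h0 ht
    exact one_ne_zero (α := B) (htreg (show (0 : B) • (1 : B) = (0 : B) • (0 : B) by simp))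
  -- two generators
  obtain rfl : n = 2 := by
    rcases Nat.lt_or_ge n 2 with h | h
    · exact absurd (hfit.symm.trans (FittLib.ideal_eq_top _ hdspan (by omega))) (maximalIdeal.isMaximal B).ne_top
    refine (Nat.eq_or_lt_of_le h).elim Eq.symm fun h3 => absurd (le_antisymm ?_ (Ideal.pow_le_self two_ne_zero)) hne
    conv_lhs => rw [← hfit, hG]
    refine Ideal.span_le.mpr ?_
    rintro _ ⟨a, ha, rfl⟩
    rw [SetLike.mem_coe, Matrix.det_apply]
    refine Ideal.sum_mem _ fun σ _ => ?_
    rw [Units.smul_def, zsmul_eq_mul]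
    refine Ideal.mul_mem_left _ _ ?_
    have h0 := hrelm _ (ha ⟨0, by omega⟩ (show 0 < n - 1 by omega)) (σ⁻¹ ⟨0, by omega⟩)
    have h1 := hrelm _ (ha ⟨1, by omega⟩ (show 1 < n - 1 by omega)) (σ⁻¹ ⟨1, by omega⟩)
    rw [← Finset.mul_prod_erase Finset.univ _ (Finset.mem_univ (σ⁻¹ ⟨0, by omega⟩)),
      ← Finset.mul_prod_erase (Finset.univ.erase (σ⁻¹ ⟨0, by omega⟩)) _
        (Finset.mem_erase.mpr ⟨fun e => absurd (congrArg Fin.val (σ⁻¹.injective e)) one_ne_zero, Finset.mem_univ (σ⁻¹ ⟨1, by omega⟩)⟩),
      Equiv.Perm.inv_def, Equiv.apply_symm_apply, Equiv.apply_symm_apply, ← mul_assoc, pow_two]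
    exact Ideal.mul_mem_right _ _ (Ideal.mul_mem_mul h0 h1)
  set X := x 0
  set Y := x 1
  have hXm : X ∈ m := hspan.le (Ideal.subset_span ⟨0, rfl⟩)
  have hYm : Y ∈ m := hspan.le (Ideal.subset_span ⟨1, rfl⟩)
  have hind2 : ∀ p q : B, p * X + q * Y ∈ m ^ 2 → p ∈ m ∧ q ∈ m := fun p q h => by
    have := hind ![p, q] (by simpa [Fin.sum_univ_two] using h)
    exact ⟨this 0, this 1⟩
  have hsp : ∀ z ∈ m, ∃ r s, z = r * X + s * Y := fun z hz => by
    obtain ⟨r, hr⟩ := Ideal.mem_span_range_iff_exists_fun.mp (hspan.ge hz)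
    exact ⟨r 0, r 1, by rw [← hr, Fin.sum_univ_two]⟩
  have hone : ∀ p q : B, residue B p = 1 ∨ residue B q = 1 → p * X + q * Y ∉ m ^ 2 := fun p q h hh => by
    rcases h with h | h
    · rw [(residue_eq_zero_iff _).mpr (hind2 p q hh).1] at h; exact zero_ne_one h
    · rw [(residue_eq_zero_iff _).mpr (hind2 p q hh).2] at h; exact zero_ne_one h
  -- the quadratic relation
  let Lf : (Fin 3 → K) →ₗ[K] B ⧸ m ^ 3 :=
    Fintype.linearCombination K ![Ideal.Quotient.mk (m ^ 3) (X ^ 2), Ideal.Quotient.mk (m ^ 3) (X * Y),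
      Ideal.Quotient.mk (m ^ 3) (Y ^ 2)]
  have hLf : ∀ v : Fin 3 → K, Lf v = Ideal.Quotient.mk (m ^ 3) (algebraMap K B (v 0) * X ^ 2 +
      algebraMap K B (v 1) * (X * Y) + algebraMap K B (v 2) * Y ^ 2) := fun v => by
    simp only [Lf, Fintype.linearCombination_apply, Fin.sum_univ_three, Matrix.cons_val_zero, Matrix.cons_val_one,
      Matrix.cons_val, Algebra.smul_def, map_add, map_mul, Ideal.Quotient.mk_algebraMap]
  have hker : Module.finrank K (LinearMap.ker Lf) ≤ 1 := by
    by_contra hcon
    have hrk := LinearMap.finrank_range_add_finrank_ker Lf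
    rw [Module.finrank_fin_fun] at hrk
    obtain ⟨⟨w', hw'⟩, hall⟩ := finrank_le_one_iff.mp (show Module.finrank K (LinearMap.range Lf) ≤ 1 by omega)
    obtain ⟨v₀, rfl⟩ := hw'
    set w := algebraMap K B (v₀ 0) * X ^ 2 + algebraMap K B (v₀ 1) * (X * Y) + algebraMap K B (v₀ 2) * Y ^ 2 with hw
    have hww : Lf v₀ = Ideal.Quotient.mk (m ^ 3) w := hLf v₀
    have hmem : ∀ i, ∀ z, Lf (Pi.single i 1) = Ideal.Quotient.mk (m ^ 3) z → z ∈ Ideal.span {w} ⊔ m • (m ^ 2) := by
      intro i z hz
      obtain ⟨c, hc⟩ := hall ⟨Lf (Pi.single i 1), LinearMap.mem_range_self _ _⟩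
      have e : c • Lf v₀ = Lf (Pi.single i 1) := congrArg Subtype.val hc
      rw [hww, hz, Algebra.smul_def, ← Ideal.Quotient.mk_algebraMap, ← map_mul, Ideal.Quotient.eq] at e
      rw [show z = algebraMap K B c * w + -(algebraMap K B c * w - z) by ring, smul_eq_mul, ← pow_succ']
      exact Submodule.add_mem_sup (Ideal.mul_mem_left _ _ (Ideal.mem_span_singleton_self _)) (neg_mem e)
    have hm2 : m ^ 2 ≤ Ideal.span {w} := by
      refine Submodule.le_of_le_smul_of_le_jacobson_bot (I := m) (IsNoetherian.noetherian _)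
        (maximalIdeal_le_jacobson _) ?_
      rw [pow_two, Ideal.mul_le]
      intro r hr s hs
      obtain ⟨r₀, r₁, rfl⟩ := hsp r hr
      obtain ⟨s₀, s₁, rfl⟩ := hsp s hs
      rw [show (r₀ * X + r₁ * Y) * (s₀ * X + s₁ * Y) =
        r₀ * s₀ * X ^ 2 + ((r₀ * s₁ + r₁ * s₀) * (X * Y) + r₁ * s₁ * Y ^ 2) by ring]
      rw [← pow_two]
      refine add_mem (Ideal.mul_mem_left _ _ (hmem 0 _ ?_)) (add_mem (Ideal.mul_mem_left _ _ (hmem 1 _ ?_))
        (Ideal.mul_mem_left _ _ (hmem 2 _ ?_))) <;> rw [hLf] <;> simp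
    obtain ⟨r, hr⟩ := Ideal.mem_span_singleton'.mp (hm2 (pow_two m ▸ Ideal.mul_mem_mul ht ht))
    have hwreg : IsSMulRegular B w := by
      refine IsSMulRegular.of_mul (a := r) ?_
      rw [hr]
      exact htreg.mul htreg
    obtain ⟨α, hα⟩ := Ideal.mem_span_singleton'.mp (hm2 (Ideal.pow_mem_pow hXm 2))
    obtain ⟨β, hβ⟩ := Ideal.mem_span_singleton'.mp (hm2 (pow_two m ▸ Ideal.mul_mem_mul hXm hYm))
    obtain ⟨γ, hγ⟩ := Ideal.mem_span_singleton'.mp (hm2 (Ideal.pow_mem_pow hYm 2))
    have hsum : algebraMap K B (v₀ 0) * α + algebraMap K B (v₀ 1) * β + algebraMap K B (v₀ 2) * γ = 1 := by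
      refine hwreg ?_
      show w * _ = w * 1
      calc w * _ = algebraMap K B (v₀ 0) * (α * w) + algebraMap K B (v₀ 1) * (β * w) +
            algebraMap K B (v₀ 2) * (γ * w) := by ring
        _ = w * 1 := by rw [hα, hβ, hγ, mul_one]
    obtain hu | hu | hu : IsUnit α ∨ IsUnit β ∨ IsUnit γ := by
      by_contra hno
      push Not at hno
      refine one_ne_zero (α := ResidueField B) ?_
      rw [← map_one (residue B), ← hsum, map_add, map_add, map_mul, map_mul, map_mul,
        (residue_eq_zero_iff α).mpr hno.1, (residue_eq_zero_iff β).mpr hno.2.1, (residue_eq_zero_iff γ).mpr hno.2.2]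
      simp
    · obtain ⟨a, rfl⟩ := hu
      have hX : IsSMulRegular B X := IsSMulRegular.of_mul (a := X) (by
        rw [← pow_two, ← hα]; exact ((IsUnit.isSMulRegular B a.isUnit)).mul hwreg)
      refine hone (-(β * (↑a⁻¹ : B))) 1 (Or.inr (map_one _)) ?_
      rw [show -(β * (↑a⁻¹ : B)) * X + 1 * Y = 0 from hX ?_]
      · exact zero_mem _
      show X * _ = X * 0
      linear_combination (-1 : B) * hβ + β * (↑a⁻¹ : B) * hα - β * w * a.inv_mul
    · obtain ⟨a, rfl⟩ := hu
      have hX : IsSMulRegular B X := IsSMulRegular.of_mul (a := Y) (by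
        rw [mul_comm, ← hβ]; exact ((IsUnit.isSMulRegular B a.isUnit)).mul hwreg)
      refine hone 1 (-(α * (↑a⁻¹ : B))) (Or.inl (map_one _)) ?_
      rw [show 1 * X + -(α * (↑a⁻¹ : B)) * Y = 0 from hX ?_]
      · exact zero_mem _
      show X * _ = X * 0
      linear_combination (-1 : B) * hα + α * (↑a⁻¹ : B) * hβ - α * w * a.inv_mul
    · obtain ⟨a, rfl⟩ := hu
      have hY : IsSMulRegular B Y := IsSMulRegular.of_mul (a := Y) (by
        rw [← pow_two, ← hγ]; exact ((IsUnit.isSMulRegular B a.isUnit)).mul hwreg)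
      refine hone 1 (-(β * (↑a⁻¹ : B))) (Or.inl (map_one _)) ?_
      rw [show 1 * X + -(β * (↑a⁻¹ : B)) * Y = 0 from hY ?_]
      · exact zero_mem _
      show Y * _ = Y * 0
      linear_combination (-1 : B) * hβ + β * (↑a⁻¹ : B) * hγ - β * w * a.inv_mul
  obtain ⟨⟨v, hv⟩, hvall⟩ := finrank_le_one_iff.mp hker
  set a := algebraMap K B (v 0)
  set b := algebraMap K B (v 1)
  set c := algebraMap K B (v 2)
  set J := Ideal.span {2 * a * X + b * Y, b * X + 2 * c * Y} ⊔ m ^ 2 with hJ
  -- partial derivatives modulo `J`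
  let ev : MvPolynomial (Fin 2) K →ₐ[K] B := MvPolynomial.aeval x
  have hevM : ∀ k, ∀ P ∈ Ideal.span (Set.range (MvPolynomial.X : Fin 2 → MvPolynomial (Fin 2) K)) ^ k,
      ev P ∈ m ^ k := by
    intro k P hP
    have h1 := Ideal.mem_map_of_mem ev hP
    rw [Ideal.map_pow, Ideal.map_span] at h1
    refine Ideal.pow_right_mono (Ideal.span_le.mpr ?_) k h1
    rintro _ ⟨_, ⟨i, rfl⟩, rfl⟩
    rw [show ev (MvPolynomial.X i) = x i from MvPolynomial.aeval_X x i]
    exact hspan.le (Ideal.subset_span ⟨i, rfl⟩)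
  have hev0 : ev (MvPolynomial.X 0) = X := MvPolynomial.aeval_X x 0
  have hev1 : ev (MvPolynomial.X 1) = Y := MvPolynomial.aeval_X x 1
  have hker' : ∀ (i : Fin 2) (P : MvPolynomial (Fin 2) K), ev P ∈ m ^ 3 → ev (MvPolynomial.pderiv i P) ∈ J := by
    intro i P hP
    obtain ⟨c₀, p, q, A, B', C', hQ⟩ := exists_quadratic P
    generalize hQdef : P - _ = Q at hQ
    have hd := derivation_mem_pow (MvPolynomial.pderiv i) _ 2 Q hQ
    have hdm : ev (MvPolynomial.pderiv i Q) ∈ J := Submodule.mem_sup_right (hevM 2 _ hd)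
    have hPQ := eq_add_of_sub_eq hQdef
    have e := sub_mem hP (hevM 3 Q hQ)
    rw [hPQ] at e ⊢
    simp only [map_add, map_mul, map_pow, hev0, hev1, MvPolynomial.aeval_C, ev, add_sub_cancel_left] at e
    have hkA : algebraMap K B c₀ ∈ m := by
      have e1 : algebraMap K B c₀ + (algebraMap K B p * X + algebraMap K B q * Y + algebraMap K B A * X ^ 2 +
          algebraMap K B B' * (X * Y) + algebraMap K B C' * Y ^ 2) ∈ m := by
        convert Ideal.pow_le_self three_ne_zero e using 1; ring
      refine (add_mem_cancel_right ?_).mp e1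
      refine add_mem (add_mem (add_mem (add_mem ?_ ?_) ?_) ?_) ?_ <;> refine Ideal.mul_mem_left _ _ ?_
      exacts [hXm, hYm, Ideal.pow_mem_of_mem _ hXm 2 two_pos, Ideal.mul_mem_right _ _ hXm, Ideal.pow_mem_of_mem _ hYm 2 two_pos]
    have hK0 : ∀ z : K, algebraMap K B z ∈ m → z = 0 := fun z hz =>
      (algebraMap K (ResidueField B)).injective ((residue_eq_zero_iff _).mpr hz |>.trans (map_zero _).symm)
    obtain rfl := hK0 _ hkA
    rw [map_zero, zero_add] at e
    have hpq : algebraMap K B p * X + algebraMap K B q * Y ∈ m ^ 2 := by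
      have e2 := Ideal.pow_le_pow_right (show 2 ≤ 3 by omega) e
      rw [add_assoc, add_assoc] at e2
      refine (add_mem_cancel_right ?_).mp e2
      refine add_mem ?_ (add_mem ?_ ?_) <;> refine Ideal.mul_mem_left _ _ ?_
      exacts [Ideal.pow_mem_pow hXm 2, pow_two m ▸ Ideal.mul_mem_mul hXm hYm, Ideal.pow_mem_pow hYm 2]
    obtain ⟨hp0, hq0⟩ := hind2 _ _ hpq
    obtain rfl := hK0 _ hp0
    obtain rfl := hK0 _ hq0
    simp only [map_zero, zero_mul, zero_add] at e
    obtain ⟨l, hl⟩ := hvall ⟨![A, B', C'], LinearMap.mem_ker.mpr (by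
      rw [hLf, Ideal.Quotient.eq_zero_iff_mem]; simpa using e)⟩
    have hl' : ∀ j, l * v j = ![A, B', C'] j := fun j => congrFun (congrArg Subtype.val hl) j
    obtain rfl : l * v 0 = A := hl' 0
    obtain rfl : l * v 1 = B' := hl' 1
    obtain rfl : l * v 2 = C' := hl' 2
    rw [map_add, map_add]
    refine add_mem hdm ?_
    simp only [map_add, Derivation.leibniz, Derivation.leibniz_pow, MvPolynomial.pderiv_C, smul_eq_mul, nsmul_eq_mul,
      map_zero, zero_mul, mul_zero, add_zero, zero_add]
    fin_cases i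
    · convert Ideal.mul_mem_left J (algebraMap K B l) (Submodule.mem_sup_left (Ideal.subset_span (Set.mem_insert _ _))) using 1
      simp [ev, a, b, X, Y]
      ring
    · convert Ideal.mul_mem_left J (algebraMap K B l) (Submodule.mem_sup_left (Ideal.subset_span (Set.mem_insert_of_mem _ rfl))) using 1
      simp [ev, b, c, X, Y]
      ring
  have hrep : ∀ z : B, ∃ P, ev P - z ∈ m ^ 3 := by
    have hc : ∀ z : B, ∃ c₀ : K, z - algebraMap K B c₀ ∈ m := fun z => by
      obtain ⟨c₀, hc⟩ := hres (residue B z)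
      exact ⟨c₀, (residue_eq_zero_iff _).mp (by rw [map_sub]; exact sub_eq_zero.mpr hc.symm)⟩
    have step : ∀ k, ∀ z : B, ∃ P, ev P - z ∈ m ^ k := by
      intro k
      induction k with
      | zero => exact fun z => ⟨0, by simp⟩
      | succ k ih =>
        intro z
        obtain ⟨c₀, hc₀⟩ := hc z
        obtain ⟨r, s, hrs⟩ := hsp _ hc₀
        obtain ⟨P, hP⟩ := ih r
        obtain ⟨Q, hQ⟩ := ih s
        refine ⟨MvPolynomial.C c₀ + P * MvPolynomial.X 0 + Q * MvPolynomial.X 1, ?_⟩
        rw [pow_succ]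
        convert add_mem (Ideal.mul_mem_mul hP hXm) (Ideal.mul_mem_mul hQ hYm) using 1
        simp only [map_add, map_mul, hev0, hev1]
        rw [show ev (MvPolynomial.C c₀) = algebraMap K B c₀ from MvPolynomial.aeval_C _ _]
        linear_combination -hrs
    exact step 3
  choose rep hrep using hrep
  let dd : Fin 2 → B → B ⧸ J := fun i z => Ideal.Quotient.mk J (ev (MvPolynomial.pderiv i (rep z)))
  have hdd : ∀ i z P, ev P - z ∈ m ^ 3 → dd i z = Ideal.Quotient.mk J (ev (MvPolynomial.pderiv i P)) := by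
    intro i z P hP
    refine Ideal.Quotient.eq.mpr ?_
    rw [← map_sub, ← map_sub]
    exact hker' i _ (by rw [map_sub]; convert sub_mem (hrep z) hP using 1; ring)
  let δ : Fin 2 → Derivation K B (B ⧸ J) := fun i => Derivation.mk'
    { toFun := dd i
      map_add' := fun z z' => by
        rw [hdd i (z + z') (rep z + rep z') (by rw [map_add]; convert add_mem (hrep z) (hrep z') using 1; ring)]
        simp only [dd, map_add]
      map_smul' := fun k z => by
        rw [hdd i (k • z) (k • rep z) (by
          rw [map_smul, ← smul_sub, Algebra.smul_def]; exact Ideal.mul_mem_left _ _ (hrep z))]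
        simp only [dd, map_smul, RingHom.id_apply]
        rw [Derivation.map_smul, map_smul ev]
        exact map_smul (Ideal.Quotient.mkₐ K J) k _ }
    fun z z' => by
      show dd i (z * z') = z • dd i z' + z' • dd i z
      rw [hdd i (z * z') (rep z * rep z') (by
        rw [map_mul]
        convert add_mem (Ideal.mul_mem_left _ (ev (rep z)) (hrep z')) (Ideal.mul_mem_left _ z' (hrep z)) using 1
        ring)]
      simp only [dd, Algebra.smul_def, Ideal.Quotient.algebraMap_eq, ← map_mul, ← map_add, Derivation.leibniz,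
        smul_eq_mul, Ideal.Quotient.eq]
      have hmJ : m ^ 3 ≤ J := (Ideal.pow_le_pow_right (show 2 ≤ 3 by omega)).trans le_sup_right
      simp only [map_add, map_mul, Algebra.algebraMap_self_apply]
      convert hmJ (add_mem (Ideal.mul_mem_right (ev (MvPolynomial.pderiv i (rep z'))) _ (hrep z))
        (Ideal.mul_mem_right (ev (MvPolynomial.pderiv i (rep z))) _ (hrep z'))) using 1
      ring
  have hδx : ∀ i j, δ i (x j) = if j = i then 1 else 0 := fun i j => by
    show dd i (x j) = _
    rw [hdd i (x j) (MvPolynomial.X j) (by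
      rw [show ev (MvPolynomial.X j) = x j from MvPolynomial.aeval_X x j, sub_self]; exact zero_mem _)]
    rw [MvPolynomial.pderiv_X]
    by_cases h : j = i <;> simp [h]
  have hJm : J ≤ m := by
    refine sup_le (Ideal.span_le.mpr ?_) (Ideal.pow_le_self two_ne_zero)
    rintro _ (rfl | rfl)
    exacts [add_mem (Ideal.mul_mem_left _ _ hXm) (Ideal.mul_mem_left _ _ hYm),
      add_mem (Ideal.mul_mem_left _ _ hXm) (Ideal.mul_mem_left _ _ hYm)]
  have hrelJ : ∀ z₀ z₁ : B, z₀ • KaehlerDifferential.D K B (x 0) + z₁ • KaehlerDifferential.D K B (x 1) = 0 →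
      z₀ ∈ J ∧ z₁ ∈ J := fun z₀ z₁ h => by
    have h0 := congrArg (δ 0).liftKaehlerDifferential h
    have h1 := congrArg (δ 1).liftKaehlerDifferential h
    simp only [map_add, map_smul, Derivation.liftKaehlerDifferential_comp_D, map_zero, hδx] at h0 h1
    exact ⟨by simpa [Algebra.smul_def, Ideal.Quotient.eq_zero_iff_mem] using h0,
      by simpa [Algebra.smul_def, Ideal.Quotient.eq_zero_iff_mem] using h1⟩
  have hmJ : m ≤ J := by
    rw [← hfit, hG]
    refine Ideal.span_le.mpr ?_
    rintro _ ⟨A, hA, rfl⟩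
    have hr := hA 0 (by norm_num)
    rw [Fin.sum_univ_two] at hr
    obtain ⟨hz0, hz1⟩ := hrelJ _ _ hr
    rw [SetLike.mem_coe, Matrix.det_fin_two]
    exact sub_mem (Ideal.mul_mem_right _ _ hz0) (Ideal.mul_mem_right _ _ hz1)
  -- nondegeneracy
  have hlin : ∀ z ∈ m, ∃ r s : B, z - (r * (2 * a * X + b * Y) + s * (b * X + 2 * c * Y)) ∈ m ^ 2 := fun z hz => by
    obtain ⟨z₁, hz₁, z₂, hz₂, rfl⟩ := Submodule.mem_sup.mp (hmJ hz)
    obtain ⟨r, s, rfl⟩ := Ideal.mem_span_pair.mp hz₁
    exact ⟨r, s, by rw [add_sub_cancel_left]; exact hz₂⟩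
  obtain ⟨r, s, h₁⟩ := hlin X hXm
  obtain ⟨r', s', h₂⟩ := hlin Y hYm
  obtain ⟨e11, e12⟩ := hind2 (1 - (r * (2 * a) + s * b)) (-(r * b + s * (2 * c))) (by convert h₁ using 1; ring)
  obtain ⟨e21, e22⟩ := hind2 (-(r' * (2 * a) + s' * b)) (1 - (r' * b + s' * (2 * c))) (by convert h₂ using 1; ring)
  refine NodeForm.isOrdDoublePt_of_relation hres hn.symm ht htreg X Y a b c hXm hYm ?_ (fun hd0 => ?_) ?_
  · rw [show ({X, Y} : Set B) = Set.range x by
      ext z; simp [X, Y, Fin.exists_fin_two, eq_comm], hspan, sup_eq_left]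
    exact Ideal.pow_le_self two_ne_zero
  · replace e11 := (residue_eq_zero_iff _).mpr e11
    replace e12 := (residue_eq_zero_iff _).mpr e12
    replace e21 := (residue_eq_zero_iff _).mpr e21
    replace e22 := (residue_eq_zero_iff _).mpr e22
    simp only [map_sub, map_neg, map_one, map_add, map_mul, map_ofNat, map_pow] at e11 e12 e21 e22 hd0
    refine one_ne_zero (α := ResidueField B) ?_
    linear_combination (1 : ResidueField B) * e11 + (residue B r * (2 * residue B a) + residue B s * residue B b) * e22 -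
      (residue B r' * (2 * residue B a) + residue B s' * residue B b) * e12 +
      (residue B r * residue B s' - residue B r' * residue B s) * hd0
  · have := LinearMap.mem_ker.mp hv
    rw [hLf, Ideal.Quotient.eq_zero_iff_mem] at this
    convert this using 1
    ring

end Groth.Agent.NodeStruct
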