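import Groth.Agent.NodeStruct.FittingNode
import Groth.Agent.NodeForm.Main
import Groth.Agent.S8917
import Mathlib.RingTheory.Regular.Flat
import Mathlib.RingTheory.Unramified.Field
import Mathlib.RingTheory.Etale.Kaehler
import Mathlib.AlgebraicGeometry.Morphisms.FormallyUnramified

/-!
# Nodes of curves over a field from the first Fitting ideal
-/

set_option autoImplicit false
set_option linter.style.haveILetI false
set_option maxSynthPendingDepth 4
set_option backward.isDefEq.respectTransparency.types false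

universe u

open CategoryTheory CategoryTheory.Limits AlgebraicGeometry IsLocalRing TopologicalSpace
open scoped TensorProduct
open Groth.Agent.StrictSSLib

noncomputable section

namespace Groth.Agent.NodeStruct

/-- Differentials do not see a surjective change of the base. -/
theorem omega_equiv_of_surjective (k k' C : Type u) [CommRing k] [CommRing k'] [CommRing C] [Algebra k k'] [Algebra k C]
    [Algebra k' C] [IsScalarTower k k' C] (h : Function.Surjective (algebraMap k k')) :
    Nonempty (Ω[C⁄k] ≃ₗ[C] Ω[C⁄k']) := by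
  let fwd : Ω[C⁄k] →ₗ[C] Ω[C⁄k'] :=
    ((KaehlerDifferential.D k' C).restrictScalars k).liftKaehlerDifferential
  have hk' : ∀ c : k', KaehlerDifferential.D k C (algebraMap k' C c) = 0 := fun c => by
    obtain ⟨c, rfl⟩ := h c
    rw [← IsScalarTower.algebraMap_apply, Derivation.map_algebraMap]
  let d' : Derivation k' C Ω[C⁄k] :=
    Derivation.mk'
      { toFun := KaehlerDifferential.D k C
        map_add' := map_add _
        map_smul' := fun c z => by
          rw [Algebra.smul_def, Derivation.leibniz, hk', smul_zero, add_zero, RingHom.id_apply, algebraMap_smul] }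
      fun a b => (KaehlerDifferential.D k C).leibniz a b
  have hfwd : ∀ a, fwd (KaehlerDifferential.D k C a) = KaehlerDifferential.D k' C a := fun a =>
    Derivation.liftKaehlerDifferential_comp_D _ a
  have hbwd : ∀ a, d'.liftKaehlerDifferential (KaehlerDifferential.D k' C a) = KaehlerDifferential.D k C a := fun a =>
    Derivation.liftKaehlerDifferential_comp_D _ a
  refine ⟨LinearEquiv.ofLinear fwd d'.liftKaehlerDifferential ?_ ?_⟩
  · exact LinearMap.ext_on_range (KaehlerDifferential.span_range_derivation k' C) fun a => by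
      simp [hfwd, hbwd]
  · exact LinearMap.ext_on_range (KaehlerDifferential.span_range_derivation k C) fun a => by
      simp [hfwd, hbwd]

/-- At a prime of the unramified Fitting locus the Fitting ideal is the maximal ideal. -/
theorem fitting_localization {k C A : Type u} [Field k] [CommRing C] [Algebra k C] [Algebra.FiniteType k C]
    (p : Ideal C) [p.IsPrime] [CommRing A] [IsLocalRing A] [Algebra C A] [Algebra k A] [IsScalarTower k C A]
    [IsLocalization.AtPrime A p] (hJ : Fitt.ideal C Ω[C⁄k] 1 ≤ p)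
    (hunr : Algebra.FormallyUnramified k (C ⧸ Fitt.ideal C Ω[C⁄k] 1)) :
    Fitt.ideal A Ω[A⁄k] 1 = maximalIdeal A ∧ Algebra.IsSeparable k (ResidueField A) := by
  haveI : Algebra.FormallyEtale C A := Algebra.FormallyEtale.of_isLocalization p.primeCompl
  haveI : Algebra.EssFiniteType C A := Algebra.EssFiniteType.of_isLocalization A p.primeCompl
  haveI : Algebra.EssFiniteType k A := Algebra.EssFiniteType.comp k C A
  set J := Fitt.ideal A Ω[A⁄k] 1 with hJdef
  have hmap : J = (Fitt.ideal C Ω[C⁄k] 1).map (algebraMap C A) := by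
    rw [hJdef, ← FittLib.ideal_baseChange (R := C) (R' := A) (M := Ω[C⁄k]) 1]
    exact (FittLib.ideal_congr (KaehlerDifferential.tensorKaehlerEquivOfFormallyEtale k C A) 1).symm
  have hle : J ≤ maximalIdeal A := by
    rw [hmap, Ideal.map_le_iff_le_comap]
    refine hJ.trans fun c hc => ?_
    exact (IsLocalization.AtPrime.to_map_mem_maximal_iff A p c).mpr hc
  haveI : Nontrivial (A ⧸ J) := Ideal.Quotient.nontrivial_iff.mpr (ne_top_of_le_ne_top (maximalIdeal.isMaximal A).ne_top hle)
  haveI : IsLocalRing (A ⧸ J) := IsLocalRing.of_surjective' _ Ideal.Quotient.mk_surjective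
  haveI : Algebra.EssFiniteType A (A ⧸ J) :=
    @Algebra.EssFiniteType.of_finiteType A (A ⧸ J) _ _ _ inferInstance
  haveI : Algebra.EssFiniteType k (A ⧸ J) := Algebra.EssFiniteType.comp k A (A ⧸ J)
  haveI : Algebra.FormallyUnramified k (A ⧸ J) := by
    rw [Algebra.FormallyUnramified.iff_comp_injective]
    intro T _ _ N hN g₁ g₂ e
    let π : C ⧸ Fitt.ideal C Ω[C⁄k] 1 →ₐ[k] A ⧸ J :=
      Ideal.Quotient.liftₐ _ ((Ideal.Quotient.mkₐ k J).comp (IsScalarTower.toAlgHom k C A)) fun c hc =>
        Ideal.Quotient.eq_zero_iff_mem.mpr (hmap ▸ Ideal.mem_map_of_mem _ hc)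
    have h := Algebra.FormallyUnramified.comp_injective (R := k) (A := C ⧸ Fitt.ideal C Ω[C⁄k] 1) N hN
      (a₁ := g₁.comp π) (a₂ := g₂.comp π) (AlgHom.ext fun z => DFunLike.congr_fun e (π z))
    have h' : (g₁.toRingHom.comp (Ideal.Quotient.mk J)) = g₂.toRingHom.comp (Ideal.Quotient.mk J) :=
      IsLocalization.ringHom_ext p.primeCompl (RingHom.ext fun c => DFunLike.congr_fun h (Ideal.Quotient.mk _ c))
    exact AlgHom.ext fun z => by
      obtain ⟨z, rfl⟩ := Ideal.Quotient.mk_surjective z
      exact DFunLike.congr_fun h' z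
  haveI : IsReduced (A ⧸ J) := Algebra.FormallyUnramified.isReduced_of_field k (A ⧸ J)
  haveI := Algebra.FormallyUnramified.finite_of_free (R := k) (S := A ⧸ J)
  haveI : IsArtinianRing (A ⧸ J) := isArtinian_of_tower k inferInstance
  have hmax : J.IsMaximal := Ideal.Quotient.maximal_of_isField J (IsArtinianRing.isField_of_isReduced_of_isLocalRing _)
  have hJm := IsLocalRing.eq_maximalIdeal hmax
  refine ⟨hJm, ?_⟩
  let eA : (A ⧸ J) ≃ₐ[k] ResidueField A := Ideal.quotientEquivAlgOfEq k hJm
  haveI : Algebra.FormallyUnramified k (ResidueField A) := Algebra.FormallyUnramified.of_equiv eA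
  haveI : Algebra.EssFiniteType A (ResidueField A) :=
    @Algebra.EssFiniteType.of_finiteType A (ResidueField A) _ _ _ inferInstance
  haveI : Algebra.EssFiniteType k (ResidueField A) := Algebra.EssFiniteType.comp k A (ResidueField A)
  exact Algebra.FormallyUnramified.isSeparable k (ResidueField A)

/-- The Fitting data at a point of the unramified Fitting locus of a scheme over a field. -/
theorem stalk_fitting {k : Type u} [Field k] {X : Scheme.{u}} (φ : X ⟶ Spec (CommRingCat.of k))
    [LocallyOfFiniteType φ] [QuasiSeparated φ]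
    (hunr : FormallyUnramified ((Fitt.sheafIdeal (Omega.sheaf φ) 1).subschemeι ≫ φ)) (x : X)
    (hsupp : x ∈ (Fitt.sheafIdeal (Omega.sheaf φ) 1).support) :
    letI : Algebra k (X.presheaf.stalk x) := (strMap φ x).toAlgebra
    Algebra.EssFiniteType k (X.presheaf.stalk x) ∧
      Fitt.ideal (X.presheaf.stalk x) Ω[X.presheaf.stalk x⁄k] 1 = maximalIdeal (X.presheaf.stalk x) ∧
      Algebra.IsSeparable k (ResidueField (X.presheaf.stalk x)) := by
  letI algA : Algebra k (X.presheaf.stalk x) := (strMap φ x).toAlgebra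
  obtain ⟨W, hW, hxW, -⟩ := exists_isAffineOpen_mem_and_subset (x := x) (U := ⊤) trivial
  have hV : IsAffineOpen (⊤ : (Spec (CommRingCat.of k)).Opens) := isAffineOpen_top _
  have e : W ≤ φ ⁻¹ᵁ ⊤ := le_top
  letI : Algebra Γ(Spec (CommRingCat.of k), ⊤) Γ(X, W) := (φ.appLE ⊤ W e).hom.toAlgebra
  letI : Algebra k Γ(Spec (CommRingCat.of k), ⊤) := (Scheme.ΓSpecIso (CommRingCat.of k)).inv.hom.toAlgebra
  have hsurj : Function.Surjective (algebraMap k Γ(Spec (CommRingCat.of k), ⊤)) :=
    ((ConcreteCategory.isIso_iff_bijective (Scheme.ΓSpecIso (CommRingCat.of k)).inv).mp inferInstance).2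
  letI : Algebra k Γ(X, W) := ((φ.appLE ⊤ W e).hom.comp (Scheme.ΓSpecIso (CommRingCat.of k)).inv.hom).toAlgebra
  haveI : IsScalarTower k Γ(Spec (CommRingCat.of k), ⊤) Γ(X, W) := IsScalarTower.of_algebraMap_eq fun _ => rfl
  haveI : Algebra.FiniteType k Γ(X, W) :=
    (LocallyOfFiniteType.finiteType_appLE (f := φ) hV hW e).comp (RingHom.FiniteType.of_surjective _ hsurj)
  letI : Algebra Γ(X, W) (X.presheaf.stalk x) := TopCat.Presheaf.algebra_section_stalk X.presheaf (⟨x, hxW⟩ : W)
  haveI : IsScalarTower k Γ(X, W) (X.presheaf.stalk x) := IsScalarTower.of_algebraMap_eq fun c =>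
    (TopCat.Presheaf.germ_res_apply X.presheaf (homOfLE (le_top (a := W))) x hxW _).symm
  haveI := hW.isLocalization_stalk ⟨x, hxW⟩
  haveI := S8917.isQCoh_omega φ
  haveI := S8917.isFT_omega φ
  obtain ⟨η⟩ := omega_equiv_of_surjective k Γ(Spec (CommRingCat.of k), ⊤) Γ(X, W) hsurj
  set Z := Fitt.sheafIdeal (Omega.sheaf φ) 1 with hZ
  have hideal : Z.ideal ⟨W, hW⟩ = Fitt.ideal Γ(X, W) Ω[Γ(X, W)⁄k] 1 := by
    rw [hZ, FittLib.sheafIdeal_ideal, S8917.ideal_omega_sections φ hV hW e, FittLib.ideal_congr η]
  refine ⟨Algebra.EssFiniteType.comp k Γ(X, W) (X.presheaf.stalk x) (h₂ :=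
    Algebra.EssFiniteType.of_isLocalization _ (hW.primeIdealOf ⟨x, hxW⟩).asIdeal.primeCompl), ?_⟩
  refine fitting_localization (hW.primeIdealOf ⟨x, hxW⟩).asIdeal ?_ ?_
  · rw [← hideal]
    have := (FittLib.mem_support_iff (Omega.sheaf φ) 1 ⟨W, hW⟩ x hxW).mp hsupp
    rwa [← FittLib.sheafIdeal_ideal] at this
  · rw [← hideal]
    haveI : Algebra.FormallyUnramified k Γ(Spec (CommRingCat.of k), ⊤) :=
      Algebra.FormallyUnramified.of_surjective (Algebra.ofId k _) hsurj
    suffices Algebra.FormallyUnramified Γ(Spec (CommRingCat.of k), ⊤) (Γ(X, W) ⧸ Z.ideal ⟨W, hW⟩) from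
      Algebra.FormallyUnramified.comp k Γ(Spec (CommRingCat.of k), ⊤) _
    let q : Spec (CommRingCat.of (Γ(X, W) ⧸ Z.ideal ⟨W, hW⟩)) ⟶ Spec Γ(Spec (CommRingCat.of k), ⊤) :=
      Spec.map (CommRingCat.ofHom (algebraMap Γ(Spec (CommRingCat.of k), ⊤) (Γ(X, W) ⧸ Z.ideal ⟨W, hW⟩)))
    have hcomp : q ≫ hV.fromSpec = Z.subschemeCover.f ⟨W, hW⟩ ≫ Z.subschemeι ≫ φ := by
      refine Eq.symm ?_
      refine ((Category.assoc _ _ _).symm.trans (congrArg (· ≫ φ)
        ((Z.subschemeCover_map_subschemeι ⟨W, hW⟩).trans (Z.glueDataObjι_ι ⟨W, hW⟩)))).trans ?_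
      refine (Category.assoc _ _ _).trans ((congrArg (Spec.map _ ≫ ·)
        (IsAffineOpen.SpecMap_appLE_fromSpec φ hV hW e).symm).trans ?_)
      refine (Category.assoc _ _ _).symm.trans (congrArg (· ≫ hV.fromSpec) ?_)
      exact (Spec.map_comp _ _).symm
    haveI := hunr
    haveI : FormallyUnramified (Z.subschemeCover.f ⟨W, hW⟩ ≫ Z.subschemeι ≫ φ) :=
      MorphismProperty.comp_mem @FormallyUnramified _ _ inferInstance hunr
    haveI : FormallyUnramified (q ≫ hV.fromSpec) := hcomp ▸ this
    haveI hs : FormallyUnramified q := FormallyUnramified.of_comp q hV.fromSpec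
    exact RingHom.formallyUnramified_algebraMap.mp ((HasRingHomProperty.Spec_iff (P := @FormallyUnramified)).mp hs)

/-- Over a field, a closed point of the unramified Fitting locus with a regular element is a node. -/
theorem isNode_of_fitting {k : Type u} [Field k] {X : Scheme.{u}} (φ : X ⟶ Spec (CommRingCat.of k))
    [LocallyOfFiniteType φ] [QuasiSeparated φ]
    (hunr : FormallyUnramified ((Fitt.sheafIdeal (Omega.sheaf φ) 1).subschemeι ≫ φ)) {x : X}
    (hx : IsClosed ({x} : Set X)) (hsupp : x ∈ (Fitt.sheafIdeal (Omega.sheaf φ) 1).support)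
    {t : X.presheaf.stalk x} (ht : t ∈ maximalIdeal (X.presheaf.stalk x))
    (htreg : IsSMulRegular (X.presheaf.stalk x) t) : @Curv2.IsNode k _ X ⟨φ⟩ x := by
  let K := AlgebraicClosure k
  let g := Spec.map (CommRingCat.ofHom (algebraMap k K))
  obtain ⟨y, hy, -⟩ := Scheme.Pullback.exists_preimage_pullback (f := φ) (g := g) x
    (Classical.arbitrary (PrimeSpectrum K)) (Subsingleton.elim (α := PrimeSpectrum k) _ _)
  subst hy
  refine ⟨hx, y, rfl, ?_⟩
  let P : pullback φ g ⟶ X := pullback.fst φ g
  let π : pullback φ g ⟶ Spec (CommRingCat.of K) := pullback.snd φ g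
  have hpb : IsPullback P π φ g := IsPullback.of_hasPullback φ g
  show IsOdpAt π y
  haveI : LocallyOfFiniteType π := MorphismProperty.of_isPullback hpb inferInstance
  haveI : IsLocallyNoetherian (pullback φ g) := LocallyOfFiniteType.isLocallyNoetherian π
  haveI : IsLocallyNoetherian X := LocallyOfFiniteType.isLocallyNoetherian φ
  haveI : Flat P := MorphismProperty.of_isPullback (P := @Flat) hpb.flip inferInstance
  let A := X.presheaf.stalk (P y)
  let B := (pullback φ g).presheaf.stalk y
  letI : Algebra k A := (strMap φ (P y)).toAlgebra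
  letI : Algebra K B := (strMap π y).toAlgebra
  letI : Algebra A B := (P.stalkMap y).hom.toAlgebra
  letI : Algebra k B := ((strMap π y).comp (algebraMap k K)).toAlgebra
  haveI : IsScalarTower k K B := IsScalarTower.of_algebraMap_eq fun _ => rfl
  haveI : IsScalarTower k A B := IsScalarTower.of_algebraMap_eq fun c => by
    show (strMap π y).comp (algebraMap k K) c = (P.stalkMap y).hom.comp (strMap φ (P y)) c
    rw [← strMap_comp_SpecMap, ← hpb.w, strMap_comp]
  haveI : IsLocalHom (algebraMap A B) := inferInstanceAs <| IsLocalHom (P.stalkMap y).hom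
  haveI : Module.Flat A B := RingHom.flat_algebraMap_iff.mp (Flat.stalkMap P y)
  obtain ⟨hess, hfit, hsep⟩ := stalk_fitting φ hunr (P y) hsupp
  haveI := hess
  haveI := hsep
  obtain ⟨R, _, _, toA, toB, hft, hk, hR, hK, hA, hB⟩ := NodeForm.exists_stalk_localizations hpb y
  obtain ⟨hFE, hsurj⟩ := NodeForm.prodMap_isLocalization (A := A) (B := B) toA toB hk hR hK hA hB
  haveI : Algebra.EssFiniteType K B := by
    obtain ⟨N, hN⟩ := hB
    haveI := hft
    rw [← RingHom.essFiniteType_algebraMap]
    have he : algebraMap K B = toB.comp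
        ((Algebra.TensorProduct.comm k K R).toRingHom.comp (algebraMap K (K ⊗[k] R))) :=
      RingHom.ext fun γ => (hK γ).symm
    rw [he]
    refine RingHom.EssFiniteType.comp (RingHom.EssFiniteType.comp ?_ ?_) ?_
    · exact (RingHom.finiteType_algebraMap.mpr inferInstance).essFiniteType
    · exact (RingHom.FiniteType.of_surjective _ (Algebra.TensorProduct.comm k K R).surjective).essFiniteType
    · letI := toB.toAlgebra
      exact Algebra.EssFiniteType.of_isLocalization B N
  have hm := NodeForm.map_maximalIdeal_of_separable hsurj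
  obtain ⟨Θ, -⟩ := NodeForm.exists_omega_equiv hFE
  have hresB : Function.Surjective ((residue B).comp (algebraMap K B)) :=
    residue_surjective_of_isClosed π (isClosed_singleton_of_over_closed hpb hx)
  have hfitB : Fitt.ideal B Ω[B⁄K] 1 = maximalIdeal B := by
    rw [← FittLib.ideal_congr Θ 1, FittLib.ideal_baseChange, hfit, hm]
  haveI : Module.Finite B Ω[B⁄K] := @KaehlerDifferential.finite K B _ _ _ inferInstance
  show Curv2.IsOrdDoublePt K B
  refine isOrdDoublePt_of_fitting (K := K) (B := B) hresB hfitB (t := algebraMap A B t) ?_ ?_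
  · exact fun hu => ht ((isUnit_map_iff (algebraMap A B) t).mp hu)
  · have h := RingTheory.Sequence.IsWeaklyRegular.of_flat (R := A) (S := B) (rs := [t])
      ((RingTheory.Sequence.isWeaklyRegular_singleton_iff A t).mpr htreg)
    exact (RingTheory.Sequence.isWeaklyRegular_singleton_iff B _).mp h

end Groth.Agent.NodeStruct
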