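import Groth.Agent.NodeStruct.Coord
import Groth.Agent.NodeForm.Completion
import Groth.Agent.NodeCompl.Flat
import Groth.Agent.NodeCplFam.Basic

/-!
# A node in a plane with coordinates is cut out by one equation with nondegenerate Hessian
-/

set_option autoImplicit false
set_option linter.style.haveILetI false

universe u

open IsLocalRing

noncomputable section

namespace Groth.Agent.NodeStruct

variable {k : Type u} [Field k]

theorem indep {A : Type u} [CommRing A] [IsLocalRing A] [IsNoetherianRing A]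
    (hfr : Module.finrank (ResidueField A) (CotangentSpace A) = 2) {x y : A} (hx : x ∈ maximalIdeal A)
    (hy : y ∈ maximalIdeal A) (hspan : maximalIdeal A ≤ Ideal.span {x, y} ⊔ maximalIdeal A ^ 2) {r s : A}
    (h : r * x + s * y ∈ maximalIdeal A ^ 2) : r ∈ maximalIdeal A ∧ s ∈ maximalIdeal A := by
  have key : ∀ {x y : A}, y ∈ maximalIdeal A → maximalIdeal A ≤ Ideal.span {x, y} ⊔ maximalIdeal A ^ 2 →
      ∀ {r s : A}, r * x + s * y ∈ maximalIdeal A ^ 2 → r ∈ maximalIdeal A := by
    intro x y hy hspan r s h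
    by_contra hr
    obtain ⟨v, hv⟩ := (notMem_maximalIdeal.mp hr).exists_left_inv
    have h1 := NodeForm.finrank_le_one_of_span hy (le_trans hspan (sup_le (Ideal.span_le.mpr ?_) le_sup_right))
    · omega
    rintro z (hz | hz) <;> rw [hz]
    · have e : x = -(v * s) * y + v * (r * x + s * y) := by linear_combination -x * hv
      rw [e]
      exact Submodule.add_mem_sup (Ideal.mul_mem_left _ _ (Ideal.subset_span rfl)) (Ideal.mul_mem_left _ _ h)
    · exact le_sup_left (α := Ideal A) (Ideal.subset_span rfl)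
  exact ⟨key hy hspan h, key hx (by rwa [Set.pair_comm]) (by rwa [add_comm] at h)⟩

theorem der_pow_succ {R : Type u} [CommRing R] [Algebra k R] (δ : Derivation k R R) (I : Ideal R) (n : ℕ)
    {z : R} (hz : z ∈ I ^ (n + 1)) : δ z ∈ I ^ n := by
  induction n generalizing z with
  | zero => simp
  | succ n ih =>
    rw [pow_succ] at hz
    induction hz using Submodule.mul_induction_on' with
    | mem_mul_mem p hp q hq =>
      rw [Derivation.leibniz, smul_eq_mul, smul_eq_mul]
      refine add_mem (Ideal.mul_mem_right _ _ hp) ?_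
      rw [pow_succ, mul_comm q]
      exact Ideal.mul_mem_mul (ih hp) hq
    | add p _ q _ hp hq => rw [map_add]; exact add_mem hp hq

variable {R A : Type u} [CommRing R] [IsLocalRing R] [IsNoetherianRing R] [Algebra k R]
  [CommRing A] [IsLocalRing A] [IsNoetherianRing A] [Algebra k A]
  {u : Fin 2 → R} {D : Fin 2 → Derivation k R R}

/-- The cotangent space of a point with separable residue field is spanned through the coordinates. -/
theorem exists_expansion (h : IsCoord k u D) [Algebra.IsSeparable k (ResidueField R)] :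
    ∃ w : Fin 2 → R, (∀ i, w i ∈ maximalIdeal R) ∧
      ∀ z ∈ maximalIdeal R, z - ∑ i, D i z * w i ∈ maximalIdeal R ^ 2 := by
  classical
  let T := R ⧸ maximalIdeal R ^ 2
  let N : Ideal T := (maximalIdeal R).map (Ideal.Quotient.mk _)
  have hN : N ^ 2 = ⊥ := by
    rw [← Ideal.map_pow, Ideal.map_quotient_self]
  haveI : Algebra.FormallyEtale k (ResidueField R) := Algebra.FormallyEtale.of_isSeparable k _
  let θ : ResidueField R →+* T ⧸ N := Ideal.Quotient.lift (maximalIdeal R)
    ((Ideal.Quotient.mk N).comp (Ideal.Quotient.mk (maximalIdeal R ^ 2))) fun a ha =>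
      Ideal.Quotient.eq_zero_iff_mem.mpr (Ideal.mem_map_of_mem _ ha)
  let θA : ResidueField R →ₐ[k] T ⧸ N := AlgHom.mk θ fun t => rfl
  obtain ⟨s, hs⟩ := Algebra.FormallySmooth.comp_surjective k (ResidueField R) N hN θA
  have hsN : ∀ z, Ideal.Quotient.mk (maximalIdeal R ^ 2) z - s (residue R z) ∈ N := fun z =>
    Ideal.Quotient.eq.mp (DFunLike.congr_fun hs (residue R z)).symm
  let δ : Derivation k R T := Derivation.mk'
    ((Ideal.Quotient.mkₐ k (maximalIdeal R ^ 2)).toLinearMap -
      s.toLinearMap ∘ₗ (IsScalarTower.toAlgHom k R (ResidueField R)).toLinearMap) fun x y => by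
    have h2 : (Ideal.Quotient.mk (maximalIdeal R ^ 2) x - s (residue R x)) *
        (Ideal.Quotient.mk _ y - s (residue R y)) = 0 := by
      have h3 := Ideal.mul_mem_mul (hsN x) (hsN y)
      rwa [← pow_two, hN, Ideal.mem_bot] at h3
    show Ideal.Quotient.mk _ (x * y) - s (residue R (x * y)) =
      Ideal.Quotient.mk _ x * (Ideal.Quotient.mk _ y - s (residue R y)) +
        Ideal.Quotient.mk _ y * (Ideal.Quotient.mk _ x - s (residue R x))
    rw [map_mul, map_mul, map_mul]
    linear_combination -h2
  have hδ : ∀ z, δ z = Ideal.Quotient.mk _ z - s (residue R z) := fun z => rfl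
  have hw : ∀ i, ∃ w ∈ maximalIdeal R, Ideal.Quotient.mk (maximalIdeal R ^ 2) w = δ (u i) := fun i =>
    (Ideal.mem_map_iff_of_surjective _ Ideal.Quotient.mk_surjective).mp ((hδ _).symm ▸ hsN (u i))
  choose w hw hwδ using hw
  refine ⟨w, hw, fun z hz => ?_⟩
  rw [← Ideal.Quotient.eq_zero_iff_mem, map_sub, map_sum, sub_eq_zero]
  have h1 := h.apply δ z
  rw [hδ, (residue_eq_zero_iff z).mpr hz, map_zero, sub_zero] at h1
  rw [h1]
  refine Finset.sum_congr rfl fun i _ => ?_
  rw [← hwδ, map_mul]
  rfl

set_option maxHeartbeats 800000 in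
/-- A node in a plane is cut out by one equation with a nondegenerate Hessian. -/
theorem exists_equation (h : IsCoord k u D) [Algebra.IsSeparable k (ResidueField R)]
    (π : R →ₐ[k] A) (hπ : Function.Surjective π) [IsReduced A]
    (hfr : Module.finrank (ResidueField A) (CotangentSpace A) = 2)
    {x y a b c : A} (hx : x ∈ maximalIdeal A) (hy : y ∈ maximalIdeal A)
    (hspan : Ideal.span {x, y} ⊔ maximalIdeal A ^ 2 = maximalIdeal A)
    (hd : residue A (4 * a * c - b ^ 2) ≠ 0)
    (hrel : a * x ^ 2 + b * x * y + c * y ^ 2 ∈ maximalIdeal A ^ 3) :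
    ∃ F : R, RingHom.ker π = Ideal.span {F} ∧ (∀ i, D i F ∈ maximalIdeal R) ∧
      (Matrix.of fun i j => D i (D j F)).det ∉ maximalIdeal R := by
  classical
  haveI : IsLocalHom π.toRingHom := IsLocalHom.of_surjective π.toRingHom hπ
  have hcomap : ∀ z, π z ∈ maximalIdeal A ↔ z ∈ maximalIdeal R := fun z =>
    ⟨fun hz hu => hz (hu.map π), fun hz hu => hz ((isUnit_map_iff π.toRingHom z).mp hu)⟩
  have hmap : ∀ n, (maximalIdeal R ^ n).map π.toRingHom = maximalIdeal A ^ n := fun n => by
    rw [Ideal.map_pow, IsLocalRing.map_maximalIdeal_of_surjective π.toRingHom hπ]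
  have hπn : ∀ n, ∀ z ∈ maximalIdeal R ^ n, π z ∈ maximalIdeal A ^ n := fun n z hz =>
    hmap n ▸ Ideal.mem_map_of_mem π.toRingHom hz
  obtain ⟨w, hwm, hw⟩ := exists_expansion h
  have hexp : ∀ z ∈ maximalIdeal R,
      π z - (π (D 0 z) * π (w 0) + π (D 1 z) * π (w 1)) ∈ maximalIdeal A ^ 2 := fun z hz => by
    have := hπn 2 _ (hw z hz)
    rwa [Fin.sum_univ_two, map_sub, map_add, map_mul, map_mul] at this
  have hwA : ∀ i, π (w i) ∈ maximalIdeal A := fun i => (hcomap _).mpr (hwm i)
  have hwspan : maximalIdeal A ≤ Ideal.span {π (w 0), π (w 1)} ⊔ maximalIdeal A ^ 2 := fun z hz => by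
    obtain ⟨z, rfl⟩ := hπ z
    rw [← sub_add_cancel (π z) (π (D 0 z) * π (w 0) + π (D 1 z) * π (w 1)), add_comm]
    exact Submodule.add_mem_sup (Ideal.mem_span_pair.mpr ⟨_, _, rfl⟩) (hexp z ((hcomap z).mp hz))
  have hker : ∀ F, π F = 0 → F ∈ maximalIdeal R ∧ ∀ i, D i F ∈ maximalIdeal R := by
    intro F hF
    have hFm : F ∈ maximalIdeal R := (hcomap F).mp (hF ▸ zero_mem _)
    have := hexp F hFm
    rw [hF, zero_sub, Submodule.neg_mem_iff] at this
    obtain ⟨h0, h1⟩ := indep hfr (hwA 0) (hwA 1) hwspan this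
    exact ⟨hFm, fun i => (hcomap _).mp (by fin_cases i; exacts [h0, h1])⟩
  obtain ⟨X, rfl⟩ := hπ x
  obtain ⟨Y, rfl⟩ := hπ y
  obtain ⟨a, rfl⟩ := hπ a
  obtain ⟨b, rfl⟩ := hπ b
  obtain ⟨c, rfl⟩ := hπ c
  have hX := (hcomap X).mp hx
  have hY := (hcomap Y).mp hy
  have hM : D 0 X * D 1 Y - D 1 X * D 0 Y ∉ maximalIdeal R := by
    intro hM
    have e1 : π (D 1 Y) * π X + -π (D 1 X) * π Y ∈ maximalIdeal A ^ 2 := by
      have h1 := sub_mem (Ideal.mul_mem_left _ (π (D 1 Y)) (hexp X hX)) (Ideal.mul_mem_left _ (π (D 1 X)) (hexp Y hY))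
      have h2 : π (D 0 X * D 1 Y - D 1 X * D 0 Y) * π (w 0) ∈ maximalIdeal A ^ 2 := by
        rw [pow_two]; exact Ideal.mul_mem_mul ((hcomap _).mpr hM) (hwA 0)
      have := add_mem h1 h2
      simp only [map_sub, map_mul] at this
      convert this using 1
      ring
    have e2 : π (D 0 Y) * π X + -π (D 0 X) * π Y ∈ maximalIdeal A ^ 2 := by
      have h1 := sub_mem (Ideal.mul_mem_left _ (π (D 0 Y)) (hexp X hX)) (Ideal.mul_mem_left _ (π (D 0 X)) (hexp Y hY))
      have h2 : -π (D 0 X * D 1 Y - D 1 X * D 0 Y) * π (w 1) ∈ maximalIdeal A ^ 2 := by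
        rw [pow_two]; exact Ideal.mul_mem_mul (neg_mem ((hcomap _).mpr hM)) (hwA 1)
      have := add_mem h1 h2
      simp only [map_sub, map_mul] at this
      convert this using 1
      ring
    obtain ⟨-, hx1⟩ := indep hfr hx hy hspan.ge e1
    obtain ⟨-, hx0⟩ := indep hfr hx hy hspan.ge e2
    rw [Submodule.neg_mem_iff] at hx0 hx1
    have hX2 : π X ∈ maximalIdeal A ^ 2 := by
      have h1 : π (D 0 X) * π (w 0) + π (D 1 X) * π (w 1) ∈ maximalIdeal A ^ 2 := by
        rw [pow_two]; exact add_mem (Ideal.mul_mem_mul hx0 (hwA 0)) (Ideal.mul_mem_mul hx1 (hwA 1))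
      simpa using add_mem (hexp X hX) h1
    have := (indep hfr hx hy hspan.ge (r := 1) (s := 0) (by simpa using hX2)).1
    exact (maximalIdeal.isMaximal A).ne_top ((Ideal.eq_top_iff_one _).mpr this)
  set q := a * X ^ 2 + b * X * Y + c * Y ^ 2 with hq
  have hq3 : π q ∈ (maximalIdeal R ^ 3).map π.toRingHom := by
    rw [hmap]; simpa [hq] using hrel
  obtain ⟨r, hr, hrq⟩ := (Ideal.mem_map_iff_of_surjective _ hπ).mp hq3
  have hF : π (q - r) = 0 := by
    rw [map_sub, show π r = π q from hrq, sub_self]
  obtain ⟨hFm, hFd⟩ := hker _ hF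
  refine ⟨q - r, ?_, hFd, ?_⟩
  · -- one equation
    refine le_antisymm ?_ ((Ideal.span_singleton_le_iff_mem _).mpr (RingHom.mem_ker.mpr hF))
    set I := Ideal.span {q - r}
    let R' := R ⧸ I
    have hI : I ≤ maximalIdeal R := (Ideal.span_singleton_le_iff_mem _).mpr hFm
    haveI : Nontrivial R' := Ideal.Quotient.nontrivial_iff.mpr (ne_top_of_le_ne_top (maximalIdeal.isMaximal R).ne_top hI)
    haveI : IsLocalRing R' := IsLocalRing.of_surjective' (Ideal.Quotient.mk I) Ideal.Quotient.mk_surjective
    haveI : IsLocalHom (Ideal.Quotient.mk I) := IsLocalHom.of_surjective _ Ideal.Quotient.mk_surjective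
    let p : R' →+* A := Ideal.Quotient.lift I π.toRingHom fun z hz => by
      obtain ⟨v, rfl⟩ := Ideal.mem_span_singleton'.mp hz
      show π (v * (q - r)) = 0
      rw [map_mul, hF, mul_zero]
    have hp : Function.Surjective p := fun z => by
      obtain ⟨v, rfl⟩ := hπ z
      exact ⟨Ideal.Quotient.mk I v, rfl⟩
    haveI : IsLocalHom p := IsLocalHom.of_surjective p hp
    let σ : ResidueField R' →+* ResidueField A := ResidueField.map p
    have hσ : Function.Bijective σ := ⟨σ.injective, fun z => by
      obtain ⟨z, rfl⟩ := residue_surjective z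
      obtain ⟨v, rfl⟩ := hp z
      exact ⟨residue R' v, ResidueField.map_residue p v⟩⟩
    let ρ : ResidueField R →ₐ[k] ResidueField R' := AlgHom.mk (ResidueField.map (Ideal.Quotient.mk I)) fun t => by
      rw [IsScalarTower.algebraMap_apply k R (ResidueField R), IsScalarTower.algebraMap_apply k R' (ResidueField R')]
      exact ResidueField.map_residue _ _
    haveI : Algebra.IsSeparable k (ResidueField R') :=
      AlgEquiv.Algebra.isSeparable (AlgEquiv.ofBijective ρ ⟨ρ.toRingHom.injective, fun z => by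
        obtain ⟨z, rfl⟩ := residue_surjective z
        obtain ⟨v, rfl⟩ := Ideal.Quotient.mk_surjective z
        exact ⟨residue R v, ResidueField.map_residue _ _⟩⟩)
    let σA : ResidueField R' →ₐ[k] ResidueField A := AlgHom.mk σ fun t => by
      rw [IsScalarTower.algebraMap_apply k R' (ResidueField R'), IsScalarTower.algebraMap_apply k A (ResidueField A)]
      refine (ResidueField.map_residue p _).trans (congrArg (residue A) ?_)
      exact π.commutes t
    haveI : Algebra.IsSeparable k (ResidueField A) :=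
      AlgEquiv.Algebra.isSeparable (AlgEquiv.ofBijective σA hσ)
    set mk := Ideal.Quotient.mk I with hmk
    have hm' : (maximalIdeal R).map mk = maximalIdeal R' :=
      IsLocalRing.map_maximalIdeal_of_surjective _ Ideal.Quotient.mk_surjective
    have hF3 : mk a * mk X ^ 2 + mk b * mk X * mk Y + mk c * mk Y ^ 2 ∈ maximalIdeal R' ^ 3 := by
      have e : mk q = mk r := by rw [← sub_eq_zero, ← map_sub]; exact Ideal.Quotient.eq_zero_iff_mem.mpr (Ideal.subset_span rfl)
      rw [← hm', ← Ideal.map_pow]
      simp only [← map_pow, ← map_mul, ← map_add]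
      rw [← hq, e]
      exact Ideal.mem_map_of_mem _ hr
    have hd' : residue R' (4 * mk a * mk c - mk b ^ 2) ≠ 0 := fun h0 => hd (by
      have := congrArg σ h0
      rw [ResidueField.map_residue, map_zero] at this
      have hpm : ∀ z, p (mk z) = π z := fun z => rfl
      simpa [map_ofNat, hpm] using this)
    have hspan' : Ideal.span {mk X, mk Y} ⊔ maximalIdeal R' ^ 2 = maximalIdeal R' := by
      refine le_antisymm (sup_le (Ideal.span_le.mpr ?_) (Ideal.pow_le_self two_ne_zero)) ?_
      · rintro _ (rfl | rfl) <;> rw [← hm']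
        exacts [Ideal.mem_map_of_mem _ hX, Ideal.mem_map_of_mem _ hY]
      · rw [← hm']
        refine le_trans (Ideal.map_mono (f := mk) (show maximalIdeal R ≤ Ideal.span {X, Y} ⊔ maximalIdeal R ^ 2 from ?_)) ?_
        · intro z hz
          -- solve for the coordinates
          obtain ⟨v, hv⟩ := (notMem_maximalIdeal.mp hM).exists_left_inv
          have e0 := hw z hz
          have eX := hw X hX
          have eY := hw Y hY
          rw [Fin.sum_univ_two] at e0 eX eY
          set s := v * (D 0 z * D 1 Y - D 1 z * D 0 Y)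
          set t := v * (D 1 z * D 0 X - D 0 z * D 1 X)
          have h2 := sub_mem e0 (add_mem (Ideal.mul_mem_left _ s eX) (Ideal.mul_mem_left _ t eY))
          rw [← add_sub_cancel (s * X + t * Y) z]
          refine Submodule.add_mem_sup (Ideal.mem_span_pair.mpr ⟨s, t, rfl⟩) ?_
          convert h2 using 1
          simp only [s, t]
          linear_combination -(D 0 z * w 0 + D 1 z * w 1) * hv
        · rw [Ideal.map_sup, Ideal.map_span, Set.image_pair, Ideal.map_pow]
    obtain ⟨θ, hθ, hθq, -⟩ := NodeForm.exists_surjective_of_relation (k := k) (mk X) (mk Y) (mk a) (mk b) (mk c)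
      (hm' ▸ Ideal.mem_map_of_mem _ hX) (hm' ▸ Ideal.mem_map_of_mem _ hY) hspan' hd' hF3
    obtain ⟨e, -⟩ := NodeForm.exists_equiv_of_relation (k := k) hfr (π X) (π Y) (π a) (π b) (π c) hx hy hspan hd hrel
    obtain ⟨χ, hχ, hχc⟩ := NodeCompl.exists_cpl_surjective_of_surjective R' A p hp
    let C' := MvPowerSeries (Fin 2) (ResidueField R') ⧸
      Ideal.span {NodeForm.qf (residue R' (mk a)) (residue R' (mk b)) (residue R' (mk c))}
    haveI : IsNoetherianRing C' := isNoetherianRing_of_surjective _ _ (Ideal.Quotient.mk _) Ideal.Quotient.mk_surjective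
    let θ' : C' →+* AdicCompletion (maximalIdeal R') R' := Ideal.Quotient.lift _ θ fun z hz => by
      obtain ⟨v, rfl⟩ := Ideal.mem_span_singleton'.mp hz
      rw [map_mul, hθq, mul_zero]
    have hθ' : Function.Surjective θ' := fun z => by
      obtain ⟨v, rfl⟩ := hθ z
      exact ⟨Ideal.Quotient.mk _ v, rfl⟩
    let μ : MvPowerSeries (Fin 2) (ResidueField R') ≃+* MvPowerSeries (Fin 2) (ResidueField A) :=
      RingEquiv.ofRingHom (MvPowerSeries.map (σ := Fin 2) σ)
        (MvPowerSeries.map (σ := Fin 2) ((RingEquiv.ofBijective σ hσ).symm : ResidueField A →+* ResidueField R'))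
        (by
          ext f d
          simp only [RingHom.comp_apply, MvPowerSeries.coeff_map, RingHom.id_apply]
          exact RingEquiv.apply_symm_apply (RingEquiv.ofBijective σ hσ) _)
        (by
          ext f d
          simp only [RingHom.comp_apply, MvPowerSeries.coeff_map, RingHom.id_apply]
          exact RingEquiv.symm_apply_apply (RingEquiv.ofBijective σ hσ) _)
    let μ' : C' ≃+* (MvPowerSeries (Fin 2) (ResidueField A) ⧸
        Ideal.span {NodeForm.qf (residue A (π a)) (residue A (π b)) (residue A (π c))}) :=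
      Ideal.quotientEquiv _ _ μ (by
        rw [Ideal.map_span, Set.image_singleton]
        congr 2
        show NodeForm.qf _ _ _ = MvPowerSeries.map σ (NodeForm.qf _ _ _)
        have hs : ∀ v, σ (residue R' (mk v)) = residue A (π v) := fun v => ResidueField.map_residue p (mk v)
        simp [NodeForm.qf, hs])
    have hinj := ArtFunLib.injective_of_surjective_ringEnd
      (μ'.symm.toRingHom.comp (e.toRingHom.comp (χ.comp θ')))
      (μ'.symm.surjective.comp (e.surjective.comp (hχ.comp hθ')))
    intro z hz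
    rw [RingHom.mem_ker] at hz
    obtain ⟨v, hv⟩ := hθ' (algebraMap R' _ (mk z))
    have h1 : v = 0 := hinj (by
      show μ'.symm (e (χ (θ' v))) = μ'.symm (e (χ (θ' 0)))
      rw [hv, hχc, map_zero θ', map_zero χ, show p (mk z) = 0 from hz, map_zero])
    rw [h1, map_zero] at hv
    have h0 : mk z = 0 := by
      haveI : Module.FaithfullyFlat R' (AdicCompletion (maximalIdeal R') R') := by
        haveI : IsNoetherianRing (AdicCompletion (maximalIdeal R') R') :=
          RegLoc.Completion.isNoetherianRing_adicCompletion' _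
        exact Module.FaithfullyFlat.of_flat_of_isLocalHom
      exact FaithfulSMul.algebraMap_injective R' (AdicCompletion (maximalIdeal R') R') (hv.symm.trans (map_zero _).symm)
    exact Ideal.Quotient.eq_zero_iff_mem.mp h0
  · -- Hessian
    intro hH
    have hres : ∀ i j, residue R (D i (D j r)) = 0 := fun i j => (residue_eq_zero_iff _).mpr (by
      have := der_pow_succ (D i) _ 1 (der_pow_succ (D j) _ 2 hr)
      rwa [pow_one] at this)
    have hX0 := (residue_eq_zero_iff _).mpr hX
    have hY0 := (residue_eq_zero_iff _).mpr hY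
    have hentry : ∀ i j, residue R (D i (D j (q - r))) = residue R (2 * a * (D i X * D j X) +
        b * (D i X * D j Y + D i Y * D j X) + 2 * c * (D i Y * D j Y)) := fun i j => by
      rw [map_sub (D j), map_sub (D i), map_sub, hres, sub_zero, hq]
      simp only [pow_two, Derivation.leibniz, smul_eq_mul, map_add, map_mul, map_ofNat, hX0, hY0]
      ring
    rw [← residue_eq_zero_iff, Matrix.det_fin_two] at hH
    simp only [Matrix.of_apply] at hH
    rw [map_sub (residue R), map_mul (residue R), map_mul (residue R), hentry, hentry, hentry, hentry] at hH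
    have hd2 : residue R (4 * a * c - b ^ 2) ≠ 0 := fun h0 => hd (by
      have h1 := hπn 1 _ (by rw [pow_one]; exact (residue_eq_zero_iff _).mp h0)
      rw [pow_one] at h1
      rw [residue_eq_zero_iff]
      simpa [map_ofNat] using h1)
    have hM2 : residue R (D 0 X * D 1 Y - D 1 X * D 0 Y) ≠ 0 := fun h0 => hM ((residue_eq_zero_iff _).mp h0)
    refine mul_ne_zero hd2 (pow_ne_zero 2 hM2) ?_
    simp only [map_sub, map_mul, map_add, map_pow, map_ofNat] at hH ⊢
    linear_combination hH

end Groth.Agent.NodeStruct
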