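import Groth.Agent.StrictSSLib.NodalFamily
import Groth.Agent.StrictSSLib.NodeFibre
import Groth.Agent.StrictSSLib.Component
import Mathlib.RingTheory.PrincipalIdealDomain
import Mathlib.RingTheory.Polynomial.Basic

/-!
# The model node is a curve, and a scheme étale over it is a nodal family
-/

set_option autoImplicit false
set_option linter.style.haveILetI false

universe u

open CategoryTheory CategoryTheory.Limits AlgebraicGeometry
open Groth.Agent.StrictSSLib

noncomputable section

namespace Groth.Agent.NodeStruct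

section Primes

variable {M D : Type u} [CommRing M] [CommRing D] [IsDomain D] (π : M →+* D)

/-- Primes over a one-dimensional quotient. -/
theorem prime_dichotomy (hπ : Function.Surjective π) (h1 : ∀ Q : Ideal D, Q.IsPrime → Q ≠ ⊥ → Q.IsMaximal)
    (hnf : ¬ IsField D) :
    (RingHom.ker π).IsPrime ∧ ¬ (RingHom.ker π).IsMaximal ∧
      ∀ P : Ideal M, P.IsPrime → RingHom.ker π ≤ P → P = RingHom.ker π ∨ P.IsMaximal := by
  refine ⟨RingHom.ker_isPrime π, fun h => hnf ?_, fun P hP hle => ?_⟩
  · exact (RingHom.quotientKerEquivOfSurjective hπ).symm.toMulEquiv.isField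
      ((Ideal.Quotient.maximal_ideal_iff_isField_quotient _).mp h)
  · haveI := hP
    haveI hQ : (P.map π).IsPrime := Ideal.map_isPrime_of_surjective hπ hle
    have hc : (P.map π).comap π = P := by
      rw [Ideal.comap_map_of_surjective π hπ, ← RingHom.ker_eq_comap_bot]
      exact sup_eq_left.mpr hle
    by_cases h0 : P.map π = ⊥
    · rw [h0, ← RingHom.ker_eq_comap_bot] at hc
      exact Or.inl hc.symm
    · haveI := h1 _ hQ h0
      exact Or.inr (hc ▸ Ideal.comap_isMaximal_of_surjective π hπ)

end Primes

variable {k : Type u} [Field k]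

theorem polynomial_isMaximal (Q : Ideal (Polynomial k)) (hQ : Q.IsPrime) (h0 : Q ≠ ⊥) : Q.IsMaximal :=
  hQ.isMaximal h0

/-- One axis of the node over a field. -/
def ax (i : Fin 2) : StrictSS.NodeAlg k (0 : k) →ₐ[k] Polynomial k :=
  nodeLift (fun l => if l = i then Polynomial.X else 0) (by fin_cases i <;> simp)

theorem ax_surjective (i : Fin 2) : Function.Surjective (ax (k := k) i) := fun p => by
  refine ⟨Polynomial.aeval (nx (0 : k) i) p, ?_⟩
  have h : (ax (k := k) i).comp (Polynomial.aeval (nx (0 : k) i)) = AlgHom.id k (Polynomial k) :=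
    Polynomial.algHom_ext (by simp [ax, nodeLift_nx])
  exact DFunLike.congr_fun h p

theorem ker_ax_le (i : Fin 2) :
    RingHom.ker (ax (k := k) i).toRingHom ≤ Ideal.span {nx (0 : k) (if i = 0 then 1 else 0)} := by
  intro z hz
  let I : Ideal (StrictSS.NodeAlg k (0 : k)) := Ideal.span {nx (0 : k) (if i = 0 then 1 else 0)}
  have h : ((Ideal.Quotient.mkₐ k I).comp (Polynomial.aeval (nx (0 : k) i))).comp (ax i) =
      Ideal.Quotient.mkₐ k I := by
    refine node_algHom_ext (A := k) (a := (0 : k)) (R := StrictSS.NodeAlg k (0 : k) ⧸ I) fun l => ?_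
    simp only [AlgHom.comp_apply, ax, nodeLift_nx]
    split_ifs with hl
    · rw [Polynomial.aeval_X, hl]
    · simp only [map_zero]
      refine (Ideal.Quotient.eq_zero_iff_mem.mpr ?_).symm
      rw [show l = if i = 0 then 1 else 0 by fin_cases i <;> fin_cases l <;> simp at hl ⊢]
      exact Ideal.mem_span_singleton_self _
  have h1 := DFunLike.congr_fun h z
  refine Ideal.Quotient.eq_zero_iff_mem.mp (h1.symm.trans ?_)
  exact (congrArg (((Ideal.Quotient.mkₐ k I).comp (Polynomial.aeval (nx (0 : k) i)))) hz).trans (map_zero _)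

/-- The primes of the node over a field: minimal and non-maximal, or maximal. -/
theorem exists_branches (c : k) :
    ∀ P : Ideal (StrictSS.NodeAlg k c), P.IsPrime →
      (P.IsMaximal ∨ ∀ P' : Ideal (StrictSS.NodeAlg k c), P'.IsPrime → P' ≤ P → P' = P) ∧
      ((∀ P' : Ideal (StrictSS.NodeAlg k c), P'.IsPrime → P' ≤ P → P' = P) → ¬ P.IsMaximal) := by
  by_cases hc : c = 0
  · subst hc
    let oth : Fin 2 → Fin 2 := fun i => if i = 0 then 1 else 0
    have hker : ∀ i, RingHom.ker (ax (k := k) i).toRingHom = Ideal.span {nx (0 : k) (oth i)} := fun i => by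
      refine le_antisymm (ker_ax_le i) ((Ideal.span_singleton_le_iff_mem _).mpr ?_)
      show ax i (nx (0 : k) (oth i)) = 0
      rw [ax, nodeLift_nx, if_neg]
      fin_cases i <;> simp [oth]
    have hb := fun i => prime_dichotomy (ax (k := k) i).toRingHom (ax_surjective i) polynomial_isMaximal
      (Polynomial.not_isField k)
    intro P hP
    obtain ⟨i, hi⟩ : ∃ i, RingHom.ker (ax (k := k) i).toRingHom ≤ P := by
      have h0 : nx (0 : k) 0 * nx (0 : k) 1 ∈ P := by simp [nx_mul]
      rcases hP.mem_or_mem h0 with h | h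
      · exact ⟨1, by rw [hker]; exact (Ideal.span_singleton_le_iff_mem _).mpr h⟩
      · exact ⟨0, by rw [hker]; exact (Ideal.span_singleton_le_iff_mem _).mpr h⟩
    have hne : ∀ i j, RingHom.ker (ax (k := k) i).toRingHom ≤ RingHom.ker (ax (k := k) j).toRingHom → i = j := by
      intro i j h
      by_contra hij
      have h1 : nx (0 : k) (oth i) ∈ RingHom.ker (ax (k := k) j).toRingHom := h (by rw [hker]; exact Ideal.subset_span rfl)
      have hj : oth i = j := by fin_cases i <;> fin_cases j <;> simp [oth] at hij ⊢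
      rw [hj, RingHom.mem_ker] at h1
      change ax j (nx (0 : k) j) = 0 at h1
      rw [ax, nodeLift_nx, if_pos rfl] at h1
      exact Polynomial.X_ne_zero h1
    refine ⟨?_, fun hmin hmax => ?_⟩
    · rcases (hb i).2.2 P hP hi with h | h
      · refine Or.inr fun P' hP' hle => ?_
        obtain ⟨j, hj⟩ : ∃ j, RingHom.ker (ax (k := k) j).toRingHom ≤ P' := by
          have h0 : nx (0 : k) 0 * nx (0 : k) 1 ∈ P' := by simp [nx_mul]
          rcases hP'.mem_or_mem h0 with h | h
          · exact ⟨1, by rw [hker]; exact (Ideal.span_singleton_le_iff_mem _).mpr h⟩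
          · exact ⟨0, by rw [hker]; exact (Ideal.span_singleton_le_iff_mem _).mpr h⟩
        have := hne j i (hj.trans (hle.trans h.le))
        subst this
        exact le_antisymm hle (h.le.trans hj)
      · exact Or.inl h
    · exact (hb i).2.1 ((hmin _ (hb i).1 hi).symm ▸ hmax)
  · -- a torus
    let T := Localization.Away (Polynomial.X : Polynomial k)
    let t : T := algebraMap (Polynomial k) T Polynomial.X
    let s : T := algebraMap k T c * IsLocalization.Away.invSelf (Polynomial.X : Polynomial k)
    have hts : t * s = algebraMap k T c := by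
      rw [mul_left_comm]; simp [t, IsLocalization.Away.mul_invSelf]
    let π : StrictSS.NodeAlg k c →ₐ[k] T := nodeLift ![t, s] (by simpa using hts)
    have hu : IsUnit (nx c 0) := by
      refine isUnit_of_mul_isUnit_left (y := nx c 1) ?_
      rw [nx_mul]
      exact (IsUnit.mk0 c hc).map _
    let g : T →+* StrictSS.NodeAlg k c := IsLocalization.Away.lift (Polynomial.X : Polynomial k)
      (g := (Polynomial.aeval (nx c 0)).toRingHom) (by simpa using hu)
    have hg : ∀ z, g (algebraMap (Polynomial k) T z) = Polynomial.aeval (nx c 0) z := fun z =>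
      IsLocalization.Away.lift_eq _ _ z
    let gA : T →ₐ[k] StrictSS.NodeAlg k c := AlgHom.mk g fun r => by
      rw [IsScalarTower.algebraMap_apply k (Polynomial k) T]
      exact (hg _).trans (AlgHom.commutes _ _)
    have hπg : π.comp gA = AlgHom.id k T := by
      refine IsLocalization.algHom_ext (Submonoid.powers (Polynomial.X : Polynomial k)) (Polynomial.algHom_ext ?_)
      show π (g (algebraMap (Polynomial k) T Polynomial.X)) = t
      rw [hg, Polynomial.aeval_X, nodeLift_nx]
      rfl
    have hgπ : gA.comp π = AlgHom.id k _ := by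
      refine node_algHom_ext fun i => ?_
      show g (π (nx c i)) = nx c i
      rw [nodeLift_nx]
      fin_cases i
      · exact (hg _).trans (Polynomial.aeval_X _)
      · refine hu.mul_left_cancel ?_
        show nx c 0 * g s = nx c 0 * nx c 1
        rw [nx_mul, show nx c 0 = g t from ((hg _).trans (Polynomial.aeval_X _)).symm, ← map_mul, hts]
        exact gA.commutes c
    let e : StrictSS.NodeAlg k c ≃ₐ[k] T := AlgEquiv.ofAlgHom π gA hπg hgπ
    haveI : IsDomain T := IsLocalization.isDomain_localization (M := Submonoid.powers (Polynomial.X : Polynomial k))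
      (powers_le_nonZeroDivisors_of_noZeroDivisors Polynomial.X_ne_zero)
    have hT : ∀ Q : Ideal T, Q.IsPrime → Q ≠ ⊥ → Q.IsMaximal := by
      intro Q hQ h0
      obtain ⟨M, hM, hle⟩ := Ideal.exists_le_maximal Q hQ.ne_top
      have hinj : ∀ I J : Ideal T, I.comap (algebraMap (Polynomial k) T) = J.comap (algebraMap (Polynomial k) T) → I = J :=
        fun I J h => by
          rw [← IsLocalization.map_under (Submonoid.powers (Polynomial.X : Polynomial k)) T I,
            ← IsLocalization.map_under (Submonoid.powers (Polynomial.X : Polynomial k)) T J]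
          exact congrArg _ h
      haveI := hQ.comap (algebraMap (Polynomial k) T)
      have hmax := polynomial_isMaximal (Q.comap (algebraMap (Polynomial k) T)) inferInstance fun h => h0 (hinj _ _ (by
        rw [h, Ideal.comap_bot_of_injective]
        exact IsLocalization.injective T (powers_le_nonZeroDivisors_of_noZeroDivisors Polynomial.X_ne_zero)))
      rw [hinj Q M (hmax.eq_of_le (hM.isPrime.comap _).ne_top (Ideal.comap_mono hle))]
      exact hM
    have hnf : ¬ IsField T := by
      intro hF
      let ev : T →+* k := IsLocalization.Away.lift (Polynomial.X : Polynomial k) (g := Polynomial.evalRingHom 1) (by simp)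
      have hev : Function.Injective ev := by
        letI := hF.toField
        exact ev.injective
      have h1 : algebraMap (Polynomial k) T (Polynomial.X - 1) = 0 := hev (by
        rw [map_zero, IsLocalization.Away.lift_eq]; simp)
      rw [map_eq_zero_iff _ (IsLocalization.injective T (powers_le_nonZeroDivisors_of_noZeroDivisors Polynomial.X_ne_zero))] at h1
      exact Polynomial.X_sub_C_ne_zero (1 : k) (by simpa using h1)
    obtain ⟨hp, hnm, hall⟩ := prime_dichotomy e.toAlgHom.toRingHom e.surjective hT hnf
    have hker : RingHom.ker e.toAlgHom.toRingHom = ⊥ :=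
      (RingHom.injective_iff_ker_eq_bot _).mp e.injective
    rw [hker] at hp hnm hall
    intro P hP
    refine ⟨?_, fun hmin hmax => hnm ((hmin ⊥ hp bot_le).symm ▸ hmax)⟩
    rcases hall P hP bot_le with h | h
    · exact Or.inr fun P' _ hle => le_antisymm hle (h ▸ bot_le)
    · exact Or.inl h

/-- The node over a field is a curve. -/
theorem node_components (c : k) :
    ∀ Z ∈ irreducibleComponents (Spec (CommRingCat.of (StrictSS.NodeAlg k c)) : Type u), topologicalKrullDim Z = 1 := by
  refine components_dim_eq_one_of_points (fun y => ?_) fun y h0 hy => ?_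
  · rcases (exists_branches c y.asIdeal y.isPrime).1 with h | h
    · exact Or.inl ((PrimeSpectrum.isClosed_singleton_iff_isMaximal y).mpr h)
    · refine Or.inr (CycLib.coheight_eq_zero_of_maximal fun z hz => PrimeSpectrum.ext (h z.asIdeal z.isPrime ?_))
      exact (PrimeSpectrum.le_iff_specializes z y).mpr hz
  · refine (exists_branches c y.asIdeal y.isPrime).2 (fun P' hP' hle => ?_)
      ((PrimeSpectrum.isClosed_singleton_iff_isMaximal y).mp hy)
    have h1 : (⟨P', hP'⟩ : PrimeSpectrum _) ⤳ y := (PrimeSpectrum.le_iff_specializes _ y).mp hle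
    have h2 := Order.coheight_eq_zero.mp h0
    have h3 : (⟨P', hP'⟩ : PrimeSpectrum _) ⤳ y → y ⤳ (⟨P', hP'⟩ : PrimeSpectrum _) := fun h => h2 h
    exact congrArg PrimeSpectrum.asIdeal (h1.antisymm (h3 h1)).eq

/-- The node model commutes with base change. -/
theorem isPushout_node {A K : CommRingCat.{u}} (ψ : A ⟶ K) (a : A) :
    ∃ θ : CommRingCat.of (StrictSS.NodeAlg A a) ⟶ CommRingCat.of (StrictSS.NodeAlg K (ψ a)),
      IsPushout (CommRingCat.ofHom (algebraMap A (StrictSS.NodeAlg A a))) ψ θ
        (CommRingCat.ofHom (algebraMap K (StrictSS.NodeAlg K (ψ a)))) := by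
  let θ : StrictSS.NodeAlg A a →+* StrictSS.NodeAlg K (ψ a) :=
    Ideal.Quotient.lift _ ((Ideal.Quotient.mk _).comp (MvPolynomial.map ψ.hom)) fun z hz => by
      obtain ⟨r, rfl⟩ := Ideal.mem_span_singleton'.mp hz
      rw [map_mul]
      refine mul_eq_zero_of_right _ ?_
      simp only [RingHom.comp_apply, map_sub, map_mul, MvPolynomial.map_X, MvPolynomial.map_C]
      rw [← map_mul, ← map_sub, Ideal.Quotient.eq_zero_iff_mem]
      exact Ideal.mem_span_singleton_self _
  have hw : θ.comp (algebraMap A (StrictSS.NodeAlg A a)) = (algebraMap K (StrictSS.NodeAlg K (ψ a))).comp ψ.hom :=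
    RingHom.ext fun z => congrArg (Ideal.Quotient.mk _) (MvPolynomial.map_C ψ.hom z)
  refine ⟨CommRingCat.ofHom θ, ⟨⟨CommRingCat.hom_ext hw⟩, ⟨PushoutCocone.IsColimit.mk _ ?_ ?_ ?_ ?_⟩⟩⟩
  · intro c
    refine CommRingCat.ofHom (Ideal.Quotient.lift _ (MvPolynomial.eval₂Hom c.inr.hom fun i => c.inl.hom (nx a i)) ?_)
    intro z hz
    obtain ⟨r, rfl⟩ := Ideal.mem_span_singleton'.mp hz
    rw [map_mul]
    refine mul_eq_zero_of_right _ ?_
    simp only [map_sub, map_mul, MvPolynomial.eval₂Hom_X', MvPolynomial.eval₂Hom_C]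
    rw [← map_mul, nx_mul, sub_eq_zero]
    exact congrArg (fun g => g.hom a) c.condition
  · intro c
    refine CommRingCat.hom_ext (Ideal.Quotient.ringHom_ext (MvPolynomial.ringHom_ext (fun z => ?_) fun i => ?_))
    · have := congrArg (fun g => g.hom z) c.condition
      simp [θ]
      exact this.symm
    · simp [θ]
      rfl
  · intro c
    refine CommRingCat.hom_ext (RingHom.ext fun z => ?_)
    exact MvPolynomial.eval₂Hom_C c.inr.hom _ z
  · intro c m hm1 hm2
    refine CommRingCat.hom_ext (Ideal.Quotient.ringHom_ext (MvPolynomial.ringHom_ext (fun z => ?_) fun i => ?_))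
    · have := congrArg (fun g => g.hom z) hm2
      simp at this ⊢
      exact this
    · have := congrArg (fun g => g.hom (nx a i)) hm1
      simp [θ, nx] at this ⊢
      exact this

set_option backward.isDefEq.respectTransparency.types false in
/-- A scheme étale over the node model is a nodal family, when flat. -/
theorem isNodalFamily_of_chart {A : CommRingCat.{u}} (a : A) {U : Scheme.{u}}
    (e : U ⟶ Spec (CommRingCat.of (StrictSS.NodeAlg A a))) [Etale e] (p : U ⟶ Spec A)
    (hp : e ≫ StrictSS.nodeToBase A a = p) [Flat p] [LocallyOfFinitePresentation p] :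
    Curv2.IsNodalFamily p := by
  refine (isNodalFamily_iff p).mpr ⟨inferInstance, inferInstance, fun b => ?_⟩
  obtain ⟨ψ, hψ⟩ := Spec.map_surjective ((Spec A).fromSpecResidueField b)
  let K := (Spec A).residueField b
  obtain ⟨θ, hθ⟩ := isPushout_node ψ a
  have hM := isPullback_SpecMap_of_isPushout _ _ _ _ hθ
  have hF : IsPullback (p.fiberι b) (p.fiberToSpecResidueField b) p (Spec.map ψ) := by
    rw [hψ]; exact IsPullback.of_hasPullback _ _
  let eK : p.fiber b ⟶ Spec (CommRingCat.of (StrictSS.NodeAlg K (ψ a))) :=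
    hM.lift (p.fiberι b ≫ e) (p.fiberToSpecResidueField b) (by rw [Category.assoc]; exact hp.symm ▸ hF.w)
  have he1 : eK ≫ Spec.map θ = p.fiberι b ≫ e := hM.lift_fst _ _ _
  have he2 : eK ≫ Spec.map (CommRingCat.ofHom (algebraMap K (StrictSS.NodeAlg K (ψ a)))) = p.fiberToSpecResidueField b :=
    hM.lift_snd _ _ _
  have hsq : IsPullback eK (p.fiberι b) (Spec.map θ) e :=
    IsPullback.of_right (by rw [he2]; exact hp.symm ▸ hF.flip) he1 hM.flip
  haveI : Etale eK := MorphismProperty.of_isPullback (P := @Etale) hsq.flip inferInstance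
  haveI hlf : LocallyOfFiniteType (Spec.map (CommRingCat.ofHom (algebraMap K (StrictSS.NodeAlg K (ψ a))))) := by
    rw [HasRingHomProperty.Spec_iff (P := @LocallyOfFiniteType)]
    exact RingHom.finiteType_algebraMap.mpr inferInstance
  haveI hfp : LocallyOfFinitePresentation (p.fiberToSpecResidueField b) :=
    MorphismProperty.of_isPullback (P := @LocallyOfFinitePresentation) hF inferInstance
  refine ⟨components_dim_of_etale eK (k := K)
    (Spec.map (CommRingCat.ofHom (algebraMap K (StrictSS.NodeAlg K (ψ a))))) (node_components _), ?_⟩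
  refine (@atWorstNodal_iff K _ _ (p.fiberToSpecResidueField b) hfp).mpr fun y hy => ?_
  let c : ((⊤ : U.Opens) : Scheme.{u}) := ⟨p.fiberι b y, trivial⟩
  let f : ((⊤ : U.Opens) : Scheme.{u}) ⟶ Spec (CommRingCat.of (StrictSS.NodeAlg A a)) := (⊤ : U.Opens).ι ≫ e
  have hq : (⊤ : U.Opens).ι ≫ p = ((⊤ : U.Opens).ι ≫ p) ≫ 𝟙 _ := (Category.comp_id _).symm
  have hf : f ≫ StrictSS.nodeToBase A a = (⊤ : U.Opens).ι ≫ p := by rw [Category.assoc, hp]
  by_cases hall : ∀ i, nx (a : A) i ∈ (f c).asIdeal
  · refine Or.inr ⟨hy, ?_⟩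
    let Ka := AlgebraicClosure K
    obtain ⟨xb, hxb, -⟩ := Scheme.Pullback.exists_preimage_pullback
      (f := p.fiberToSpecResidueField b) (g := Spec.map (CommRingCat.ofHom (algebraMap K Ka))) y
      (IsLocalRing.closedPoint Ka) (Subsingleton.elim (α := PrimeSpectrum K) _ _)
    refine ⟨xb, hxb, ?_⟩
    have hpb := (IsPullback.of_hasPullback (p.fiberToSpecResidueField b)
      (Spec.map (CommRingCat.ofHom (algebraMap K Ka)))).paste_horiz
        (IsPullback.of_hasPullback p ((Spec A).fromSpecResidueField b))
    haveI hft : LocallyOfFiniteType (pullback.snd (p.fiberToSpecResidueField b) (Spec.map (CommRingCat.ofHom (algebraMap K Ka)))) :=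
      MorphismProperty.pullback_snd _ _ inferInstance
    have hnd := nodeData_geom hq (K := Ka) f hf hpb xb c (by
      show p.fiberι b ((pullback.fst (p.fiberToSpecResidueField b) (Spec.map (CommRingCat.ofHom (algebraMap K Ka)))) xb) = _
      rw [hxb]; rfl) hall
    exact @isOrdDoublePt_stalk Ka _ _ (pullback.snd (p.fiberToSpecResidueField b) (Spec.map (CommRingCat.ofHom (algebraMap K Ka)))) hft xb hnd
  · push Not at hall
    obtain ⟨i, hi⟩ := hall
    have hs : p.fiberι b y ∈ p.smoothLocus := mem_smoothLocus_of_notMem hq f hf c i hi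
    obtain ⟨V, hV, hVs⟩ := fibre_smooth p b y hs
    haveI := hVs
    exact Or.inl (mem_smoothLocus_of_comp V.ι _ ⟨y, hV⟩)

end Groth.Agent.NodeStruct
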