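import Groth.Agent.NodeStruct.LocalEq
import Mathlib.RingTheory.Unramified.LocalStructure
import Mathlib.RingTheory.Flat.EquationalCriterion
import Mathlib.RingTheory.LocalRing.ResidueField.Ideal

/-!
# Local presentation of a flat algebra at a node of its fibre
-/

set_option autoImplicit false
set_option linter.style.haveILetI false

universe u

open IsLocalRing
open scoped TensorProduct

noncomputable section

namespace Groth.Agent.NodeStruct

variable {A : Type u} [CommRing A]

/-- An element of the kernel in the extension of an ideal of the base, over a flat quotient. -/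
theorem mem_map_mul_ker {R C : Type u} [CommRing R] [CommRing C] [Algebra A R] [Algebra A C] [Module.Flat A C]
    (π : R →ₐ[A] C) (hπ : Function.Surjective π) (p : Ideal A) {z : R} (hz : z ∈ p.map (algebraMap A R))
    (hz0 : π z = 0) : z ∈ p.map (algebraMap A R) * RingHom.ker π := by
  classical
  rw [Ideal.map, Submodule.mem_span_image_iff_exists_fun] at hz
  obtain ⟨t, c, ht, rfl⟩ : ∃ t : Finset A, ∃ c : t → R, (↑t ⊆ (p : Set A)) ∧ z = ∑ i, c i * algebraMap A R i := by
    obtain ⟨t, ht, c, hc⟩ := hz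
    exact ⟨t, c, ht, by simpa [smul_eq_mul] using hc.symm⟩
  have h0 : ∑ i : t, (i : A) • π (c i) = 0 := by
    rw [← hz0, map_sum]
    exact Finset.sum_congr rfl fun i _ => by rw [map_mul, AlgHom.commutes, mul_comm, Algebra.smul_def]
  obtain ⟨n, a, y, hy, ha⟩ := Module.Flat.isTrivialRelation_of_sum_smul_eq_zero (R := A) (M := C) h0
  choose y' hy' using fun j => hπ (y j)
  have h1 : ∑ i : t, c i * algebraMap A R i =
      ∑ i : t, algebraMap A R i * (c i - ∑ j, algebraMap A R (a i j) * y' j) := by
    have h2 : ∑ i : t, algebraMap A R i * ∑ j, algebraMap A R (a i j) * y' j = 0 := by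
      simp_rw [Finset.mul_sum]
      rw [Finset.sum_comm]
      refine Finset.sum_eq_zero fun j _ => ?_
      simp_rw [← mul_assoc, ← Finset.sum_mul, ← map_mul, ← map_sum]
      rw [show ∑ i : t, (i : A) * a i j = 0 from ha j, map_zero, zero_mul]
    simp_rw [mul_sub]
    rw [Finset.sum_sub_distrib, h2, sub_zero]
    exact Finset.sum_congr rfl fun i _ => mul_comm _ _
  rw [h1]
  refine Ideal.sum_mem _ fun i _ => Ideal.mul_mem_mul (Ideal.mem_map_of_mem _ (ht i.2)) ?_
  rw [RingHom.mem_ker, map_sub, map_sum, show π (c i) = _ from hy i, sub_eq_zero]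
  exact Finset.sum_congr rfl fun j _ => by rw [Algebra.smul_def, map_mul, AlgHom.commutes, hy']

section Fibre

variable {R : Type u} [CommRing R] [Algebra A R] {u : Fin 2 → R} {D : Fin 2 → Derivation A R R} (p : Ideal A)
  [p.IsPrime] [Algebra p.ResidueField (R ⧸ p.map (algebraMap A R))]
  [IsScalarTower A p.ResidueField (R ⧸ p.map (algebraMap A R))]

/-- Coordinates restrict to the fibre. -/
theorem exists_fibre_coord (h : IsCoord A u D) :
    ∃ D' : Fin 2 → Derivation p.ResidueField (R ⧸ p.map (algebraMap A R)) (R ⧸ p.map (algebraMap A R)),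
      IsCoord p.ResidueField (Ideal.Quotient.mk (p.map (algebraMap A R)) ∘ u) D' ∧
      ∀ i z, D' i (Ideal.Quotient.mk _ z) = Ideal.Quotient.mk _ (D i z) := by
  classical
  have hD : ∀ i, ∀ z ∈ (p.map (algebraMap A R)), D i z ∈ (p.map (algebraMap A R)) := by
    intro i z hz
    rw [show (p.map (algebraMap A R)) = Submodule.span R (algebraMap A R '' p) from rfl] at hz ⊢
    induction hz using Submodule.span_induction with
    | mem x hx =>
      obtain ⟨a, -, rfl⟩ := hx
      rw [Derivation.map_algebraMap]; exact zero_mem _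
    | zero => rw [map_zero]; exact zero_mem _
    | add x y _ _ hx hy => rw [map_add]; exact add_mem hx hy
    | smul r x hx' hx =>
      rw [smul_eq_mul, Derivation.leibniz]
      exact add_mem (Submodule.smul_mem _ r hx) (by rw [smul_eq_mul, mul_comm]; exact Submodule.smul_mem _ _ hx')
  have hlift : ∀ i, ∃ f : (R ⧸ p.map (algebraMap A R)) →ₗ[A] (R ⧸ p.map (algebraMap A R)), ∀ z, f (Ideal.Quotient.mk (p.map (algebraMap A R)) z) = Ideal.Quotient.mk (p.map (algebraMap A R)) (D i z) := fun i =>
    ⟨{ toFun := Quotient.lift (fun z => Ideal.Quotient.mk (p.map (algebraMap A R)) (D i z)) fun z w hzw => by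
          refine Ideal.Quotient.eq.mpr ?_
          rw [← map_sub]
          exact hD i _ ((Submodule.quotientRel_def (p.map (algebraMap A R))).mp hzw)
       map_add' := fun z w => by
          obtain ⟨z, rfl⟩ := Ideal.Quotient.mk_surjective z
          obtain ⟨w, rfl⟩ := Ideal.Quotient.mk_surjective w
          show Ideal.Quotient.mk (p.map (algebraMap A R)) (D i (z + w)) = _
          rw [map_add, map_add]; rfl
       map_smul' := fun a z => by
          obtain ⟨z, rfl⟩ := Ideal.Quotient.mk_surjective z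
          show Ideal.Quotient.mk (p.map (algebraMap A R)) (D i (a • z)) = a • Ideal.Quotient.mk (p.map (algebraMap A R)) (D i z)
          rw [Derivation.map_smul]; rfl }, fun z => rfl⟩
  choose f hf using hlift
  have hleib : ∀ i (z w : (R ⧸ p.map (algebraMap A R))), f i (z * w) = z * f i w + w * f i z := by
    intro i z w
    obtain ⟨z, rfl⟩ := Ideal.Quotient.mk_surjective z
    obtain ⟨w, rfl⟩ := Ideal.Quotient.mk_surjective w
    rw [← map_mul, hf, hf, hf, Derivation.leibniz, smul_eq_mul, smul_eq_mul, map_add, map_mul, map_mul]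
  let d : Fin 2 → Derivation A (R ⧸ p.map (algebraMap A R)) (R ⧸ p.map (algebraMap A R)) := fun i => Derivation.mk' (f i) (hleib i)
  have hk : ∀ i (c : p.ResidueField), f i (algebraMap p.ResidueField (R ⧸ p.map (algebraMap A R)) c) = 0 := by
    intro i c
    obtain ⟨⟨r, ⟨s, hs⟩⟩, hrs⟩ := IsLocalization.surj (M := nonZeroDivisors (A ⧸ p)) c
    obtain ⟨r, rfl⟩ := Ideal.Quotient.mk_surjective r
    obtain ⟨s, rfl⟩ := Ideal.Quotient.mk_surjective s
    simp only [Ideal.algebraMap_quotient_residueField_mk] at hrs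
    have e := congrArg (algebraMap p.ResidueField (R ⧸ p.map (algebraMap A R))) hrs
    rw [map_mul, ← IsScalarTower.algebraMap_apply, ← IsScalarTower.algebraMap_apply] at e
    have e2 : d i (algebraMap p.ResidueField (R ⧸ p.map (algebraMap A R)) c * algebraMap A (R ⧸ p.map (algebraMap A R)) s) = 0 := by
      rw [e]; exact (d i).map_algebraMap r
    rw [Derivation.leibniz, Derivation.map_algebraMap, smul_zero, zero_add, smul_eq_mul] at e2
    have hu : IsUnit (algebraMap A (R ⧸ p.map (algebraMap A R)) s) := by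
      rw [IsScalarTower.algebraMap_apply A p.ResidueField (R ⧸ p.map (algebraMap A R))]
      refine IsUnit.map _ (isUnit_iff_ne_zero.mpr ?_)
      rw [← Ideal.algebraMap_quotient_residueField_mk]
      exact IsFractionRing.to_map_ne_zero_of_mem_nonZeroDivisors hs
    exact hu.mul_right_eq_zero.mp e2
  let D' : Fin 2 → Derivation p.ResidueField (R ⧸ p.map (algebraMap A R)) (R ⧸ p.map (algebraMap A R)) := fun i =>
    Derivation.mk'
      { toFun := f i
        map_add' := map_add _
        map_smul' := fun c z => by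
          rw [Algebra.smul_def, hleib, hk, mul_zero, add_zero, RingHom.id_apply, Algebra.smul_def] }
      (hleib i)
  refine ⟨D', ⟨fun i j => ?_, fun z => ?_⟩, hf⟩
  · show f i (Ideal.Quotient.mk (p.map (algebraMap A R)) (u j)) = _
    rw [hf, h.self]
    split <;> simp
  · obtain ⟨z, rfl⟩ := Ideal.Quotient.mk_surjective z
    let δ : Derivation A R Ω[(R ⧸ p.map (algebraMap A R))⁄p.ResidueField] :=
      ((KaehlerDifferential.D p.ResidueField (R ⧸ p.map (algebraMap A R))).restrictScalars A).compAlgebraMap R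
    refine (h.apply δ z).trans (Finset.sum_congr rfl fun i _ => ?_)
    show _ = f i (Ideal.Quotient.mk (p.map (algebraMap A R)) z) • _
    rw [hf, ← algebraMap_smul (R ⧸ p.map (algebraMap A R)) (D i z)]
    rfl

end Fibre

/-- The node conditions for a local algebra over the base and an ideal of the base. -/
def NodeCond (A : Type u) [CommRing A] (S : Type u) [CommRing S] [IsLocalRing S] [Algebra A S] (p : Ideal A) : Prop :=
  Algebra.FormallyUnramified A (ResidueField S) ∧
    ∃ (B : Type u) (_ : CommRing B) (_ : IsLocalRing B) (φ : S →+* B), Function.Surjective φ ∧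
      RingHom.ker φ = p.map (algebraMap A S) ∧ IsReduced B ∧
      Module.finrank (ResidueField B) (CotangentSpace B) = 2 ∧
      ∃ x y a b c : B, x ∈ maximalIdeal B ∧ y ∈ maximalIdeal B ∧
        Ideal.span {x, y} ⊔ maximalIdeal B ^ 2 = maximalIdeal B ∧
        residue B (4 * a * c - b ^ 2) ≠ 0 ∧
        a * x ^ 2 + b * x * y + c * y ^ 2 ∈ maximalIdeal B ^ 3

variable {C : Type u} [CommRing C] [Algebra A C]

/-- Two functions through which the algebra is unramified over the plane. -/
theorem exists_unramified [Algebra.FiniteType A C] (q : Ideal C) [q.IsPrime]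
    (hnode : NodeCond A (Localization.AtPrime q) (q.under A)) :
    ∃ v : Fin 2 → C, (∀ i, v i ∈ q) ∧
      letI := (MvPolynomial.aeval v : MvPolynomial (Fin 2) A →ₐ[A] C).toRingHom.toAlgebra
      Algebra.IsUnramifiedAt (MvPolynomial (Fin 2) A) q := by
  classical
  obtain ⟨hunr, B, _, _, φ, hφ, hkφ, -, -, x, y, -, -, -, hx, hy, hspan, -, -⟩ := hnode
  set S := Localization.AtPrime q
  haveI : IsLocalHom φ := IsLocalHom.of_surjective φ hφ
  have hgen : ∀ w ∈ maximalIdeal B, ∃ v ∈ q, ∃ r : B, IsUnit r ∧ φ (algebraMap C S v) = r * w := by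
    intro w hw
    obtain ⟨s, rfl⟩ := hφ w
    obtain ⟨⟨v, t⟩, hvt⟩ := IsLocalization.surj q.primeCompl s
    refine ⟨v, ?_, φ (algebraMap C S t), (IsLocalization.map_units S t).map φ, by rw [← hvt, map_mul, mul_comm]⟩
    have hs : s ∈ maximalIdeal S := fun hu => hw (hu.map φ)
    have h1 : algebraMap C S v ∈ maximalIdeal S := hvt ▸ Ideal.mul_mem_right _ _ hs
    exact (IsLocalization.AtPrime.to_map_mem_maximal_iff S q v).mp h1
  obtain ⟨v₀, hv₀, r₀, hr₀, e₀⟩ := hgen x hx
  obtain ⟨v₁, hv₁, r₁, hr₁, e₁⟩ := hgen y hy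
  refine ⟨![v₀, v₁], fun i => by fin_cases i; exacts [hv₀, hv₁], ?_⟩
  letI : Algebra (MvPolynomial (Fin 2) A) C := (MvPolynomial.aeval ![v₀, v₁]).toRingHom.toAlgebra
  haveI : IsScalarTower A (MvPolynomial (Fin 2) A) C :=
    IsScalarTower.of_algebraMap_eq fun a => ((MvPolynomial.aeval ![v₀, v₁]).commutes a).symm
  haveI : Algebra.FiniteType (MvPolynomial (Fin 2) A) C :=
    Algebra.FiniteType.of_restrictScalars_finiteType A _ _
  have hv : ∀ i, (![v₀, v₁] : Fin 2 → C) i ∈ Set.range (algebraMap (MvPolynomial (Fin 2) A) C) := fun i =>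
    ⟨MvPolynomial.X i, MvPolynomial.aeval_X _ i⟩
  haveI : Algebra.EssFiniteType (MvPolynomial (Fin 2) A) S := .comp _ C _
  show Algebra.FormallyUnramified (MvPolynomial (Fin 2) A) S
  haveI hfin : Module.Finite S Ω[S⁄MvPolynomial (Fin 2) A] := inferInstance
  refine ⟨?_⟩
  rw [← IsLocalRing.subsingleton_tensorProduct (R := S)]
  let M := ResidueField S
  -- every derivation into the residue field vanishes
  have key : ∀ (δ : Derivation (MvPolynomial (Fin 2) A) S M), δ = 0 := by
    intro δ
    have hm : ∀ z ∈ maximalIdeal S, ∀ w : M, z • w = 0 := fun z hz w => by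
      rw [Algebra.smul_def, show algebraMap S M z = residue S z from rfl, (residue_eq_zero_iff z).mpr hz, zero_mul]
    have hmul : ∀ z w, z ∈ maximalIdeal S → w ∈ maximalIdeal S → δ (z * w) = 0 := fun z w hz hw => by
      rw [Derivation.leibniz, hm z hz, hm w hw, add_zero]
    have hA : ∀ a : A, δ (algebraMap A S a) = 0 := fun a => by
      rw [IsScalarTower.algebraMap_apply A (MvPolynomial (Fin 2) A) S]; exact δ.map_algebraMap _
    have hpS : (q.under A).map (algebraMap A S) ≤ maximalIdeal S := Ideal.map_le_iff_le_comap.mpr fun a ha => by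
      rw [Ideal.mem_comap, IsScalarTower.algebraMap_apply A C S]
      exact (IsLocalization.AtPrime.to_map_mem_maximal_iff S q _).mpr ha
    have hker : ∀ z, φ z = 0 → δ z = 0 := by
      intro z hz
      have hz' : z ∈ Submodule.span S (algebraMap A S '' (q.under A : Set A)) := hkφ.le hz
      clear hz
      induction hz' using Submodule.span_induction with
      | mem w hw => obtain ⟨a, -, rfl⟩ := hw; exact hA a
      | zero => exact map_zero _
      | add a b _ _ ha hb => rw [map_add, ha, hb, add_zero]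
      | smul r w hw' hw =>
        rw [smul_eq_mul, Derivation.leibniz, hw, smul_zero, zero_add, hm w (hpS hw')]
    have hv0 : ∀ i, δ (algebraMap C S ((![v₀, v₁] : Fin 2 → C) i)) = 0 := fun i => by
      obtain ⟨P, hP⟩ := hv i
      rw [← hP, ← IsScalarTower.algebraMap_apply]; exact δ.map_algebraMap _
    have hmz : ∀ z ∈ maximalIdeal S, δ z = 0 := by
      intro z hz
      have h1 : φ z ∈ maximalIdeal B := fun hu => hz ((isUnit_map_iff φ z).mp hu)
      rw [← hspan] at h1
      obtain ⟨s, hs, w, hw, hsw⟩ := Submodule.mem_sup.mp h1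
      obtain ⟨α, β, rfl⟩ := Ideal.mem_span_pair.mp hs
      obtain ⟨α', hα⟩ := hφ (α * ↑hr₀.unit⁻¹)
      obtain ⟨β', hβ⟩ := hφ (β * ↑hr₁.unit⁻¹)
      rw [← IsLocalRing.map_maximalIdeal_of_surjective φ hφ, ← Ideal.map_pow] at hw
      obtain ⟨w', hw', rfl⟩ := (Ideal.mem_map_iff_of_surjective φ hφ).mp hw
      have h2 : φ (z - (α' * algebraMap C S v₀ + β' * algebraMap C S v₁ + w')) = 0 := by
        rw [map_sub, map_add, map_add, map_mul, map_mul, hα, hβ, e₀, e₁, ← hsw,
          mul_assoc, ← mul_assoc (↑hr₀.unit⁻¹ : B), IsUnit.val_inv_mul, one_mul,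
          mul_assoc β, ← mul_assoc (↑hr₁.unit⁻¹ : B), IsUnit.val_inv_mul, one_mul, sub_self]
      have h3 := hker _ h2
      have hm0 : ∀ (c : S) (i : Fin 2), δ (c * algebraMap C S ((![v₀, v₁] : Fin 2 → C) i)) = 0 := fun c i => by
        rw [Derivation.leibniz, hv0, smul_zero, zero_add, hm]
        exact (IsLocalization.AtPrime.to_map_mem_maximal_iff S q _).mpr (by fin_cases i; exacts [hv₀, hv₁])
      have hw0 : δ w' = 0 := by
        rw [pow_two] at hw'
        clear h2 h3 hsw hw
        induction hw' using Submodule.mul_induction_on' with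
        | mem_mul_mem a ha b hb => exact hmul a b ha hb
        | add a _ b _ ha hb => rw [map_add, ha, hb, add_zero]
      rw [map_sub, map_add, map_add, hw0] at h3
      simpa [show δ (α' * algebraMap C S v₀) = 0 from hm0 α' 0, show δ (β' * algebraMap C S v₁) = 0 from hm0 β' 1]
        using h3
    let δ' : Derivation A (ResidueField S) M :=
      Derivation.mk'
        ((Submodule.liftQ ((maximalIdeal S).restrictScalars A) (δ.toLinearMap.restrictScalars A) fun z hz => hmz z hz) :
          ResidueField S →ₗ[A] M) fun z w => by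
        obtain ⟨z, rfl⟩ := residue_surjective z
        obtain ⟨w, rfl⟩ := residue_surjective w
        exact δ.leibniz z w
    have h0 : δ' = 0 := by
      rw [← δ'.liftKaehlerDifferential_comp]
      refine Derivation.ext fun z => ?_
      show δ'.liftKaehlerDifferential (KaehlerDifferential.D A _ z) = 0
      rw [Subsingleton.elim (KaehlerDifferential.D A (ResidueField S) z) 0, map_zero]
    exact Derivation.ext fun z => DFunLike.congr_fun h0 (residue S z)
  let δ₀ : Derivation (MvPolynomial (Fin 2) A) S (M ⊗[S] Ω[S⁄MvPolynomial (Fin 2) A]) :=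
    ((TensorProduct.mk S M Ω[S⁄MvPolynomial (Fin 2) A]) 1).compDer (KaehlerDifferential.D _ S)
  refine subsingleton_iff_forall_eq 0 |>.mpr fun t => ?_
  by_contra ht
  obtain ⟨f, hf⟩ : ∃ f : M ⊗[S] Ω[S⁄MvPolynomial (Fin 2) A] →ₗ[M] M, f t ≠ 0 := by
    by_contra hall
    push Not at hall
    exact ht ((Module.forall_dual_apply_eq_zero_iff M t).mp hall)
  refine hf ?_
  have hall : f.restrictScalars S = 0 := by
    refine TensorProduct.ext' fun c ω => ?_
    have h1 := key ((f.restrictScalars S).compDer δ₀)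
    have hω : ω ∈ Submodule.span S (Set.range (KaehlerDifferential.D (MvPolynomial (Fin 2) A) S)) := by
      rw [KaehlerDifferential.span_range_derivation]; trivial
    rw [show c ⊗ₜ[S] ω = c • ((1 : M) ⊗ₜ ω) by rw [TensorProduct.smul_tmul', smul_eq_mul, mul_one]]
    show f (c • _) = 0
    rw [map_smul]
    induction hω using Submodule.span_induction with
    | mem w hw => obtain ⟨z, rfl⟩ := hw; rw [show f (1 ⊗ₜ KaehlerDifferential.D _ S z) = 0 from DFunLike.congr_fun h1 z, smul_zero]
    | zero => simp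
    | add a b _ _ ha hb => rw [TensorProduct.tmul_add, map_add, smul_add, ha, hb, add_zero]
    | smul r w _ hw =>
      rw [TensorProduct.tmul_smul, ← IsScalarTower.algebraMap_smul M r, map_smul, smul_comm, hw, smul_zero]
  exact LinearMap.congr_fun hall t

set_option maxHeartbeats 1000000 in
/-- A flat algebra at a node of its fibre is locally one equation in a plane with coordinates. -/
theorem exists_presentation [Algebra.FinitePresentation A C] [Module.Flat A C] (q : Ideal C) [q.IsPrime]
    (hnode : NodeCond A (Localization.AtPrime q) (q.under A)) :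
    ∃ g ∉ q, ∃ (Cl : Type u) (_ : CommRing Cl) (_ : Algebra C Cl) (_ : Algebra A Cl) (_ : IsScalarTower A C Cl)
      (_ : IsLocalization.Away g Cl)
      (E : Type u) (_ : CommRing E) (_ : Algebra A E) (u : Fin 2 → E) (D : Fin 2 → Derivation A E E)
      (ρ : E →ₐ[A] Cl) (F : E) (Q : Ideal E),
      Algebra.FormallySmooth A E ∧ Algebra.FinitePresentation A E ∧ IsCoord A u D ∧ Function.Surjective ρ ∧
      RingHom.ker ρ = Ideal.span {F} ∧ Q.IsPrime ∧ (∀ i, D i F ∈ Q) ∧
      (Matrix.of fun i j => D i (D j F)).det ∉ Q ∧ F ∈ Q ∧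
      ∀ (q' : Ideal Cl), q'.comap (algebraMap C Cl) = q →
        q'.comap ρ.toRingHom = Q := by
  classical
  obtain ⟨v, hv, hunr⟩ := exists_unramified q hnode
  letI : Algebra (MvPolynomial (Fin 2) A) C := (MvPolynomial.aeval v).toRingHom.toAlgebra
  haveI : IsScalarTower A (MvPolynomial (Fin 2) A) C :=
    IsScalarTower.of_algebraMap_eq fun a => ((MvPolynomial.aeval v).commutes a).symm
  haveI : Algebra.FiniteType (MvPolynomial (Fin 2) A) C := Algebra.FiniteType.of_restrictScalars_finiteType A _ _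
  obtain ⟨g₀, hg₀, P, φ, hφ⟩ := Algebra.IsUnramifiedAt.exists_hasStandardEtaleSurjectionOn
    (R := MvPolynomial (Fin 2) A) q
  let Cg := Localization.Away g₀
  haveI : (q.map (algebraMap C Cg)).IsPrime :=
    IsLocalization.isPrime_of_isPrime_disjoint (.powers g₀) _ _ ‹_› (by
      simp [Set.disjoint_iff, Set.ext_iff, Submonoid.mem_powers_iff, mt (‹q.IsPrime›.mem_of_pow_mem _) hg₀])
  set qg := q.map (algebraMap C Cg) with hqg
  have hqgc : qg.comap (algebraMap C Cg) = q :=
    IsLocalization.comap_map_of_isPrime_disjoint (.powers g₀) _ ‹_› (by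
      simp [Set.disjoint_iff, Set.ext_iff, Submonoid.mem_powers_iff, mt (‹q.IsPrime›.mem_of_pow_mem _) hg₀])
  let P' := MvPolynomial (Fin 2) A
  letI : Algebra A P.Ring := ((algebraMap P' P.Ring).comp (algebraMap A P')).toAlgebra
  haveI : IsScalarTower A P' P.Ring := IsScalarTower.of_algebraMap_eq fun _ => rfl
  haveI : Algebra.FinitePresentation A P.Ring := Algebra.FinitePresentation.trans A P' P.Ring
  haveI : Algebra.FormallySmooth A P.Ring := Algebra.FormallySmooth.comp A P' P.Ring
  obtain ⟨D₁, hD₁, -⟩ := (isCoord_mvPolynomial A).exists_of_formallyEtale P.Ring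
  set u₁ := algebraMap P' P.Ring ∘ MvPolynomial.X
  let ρ₁ : P.Ring →ₐ[A] Cg := φ.restrictScalars A
  set Q₁ := qg.comap ρ₁.toRingHom with hQ₁
  haveI : Q₁.IsPrime := Ideal.IsPrime.comap _
  have hQp : Q₁.under A = q.under A := by
    show (qg.comap ρ₁.toRingHom).comap (algebraMap A P.Ring) = q.comap (algebraMap A C)
    rw [Ideal.comap_comap, show ρ₁.toRingHom.comp (algebraMap A P.Ring) = algebraMap A Cg from ρ₁.comp_algebraMap,
      ← hqgc, Ideal.comap_comap, ← IsScalarTower.algebraMap_eq]
  set p := q.under A with hp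
  let R := Localization.AtPrime Q₁
  let S := Localization.AtPrime q
  letI : Algebra Cg S := IsLocalization.localizationAlgebraOfSubmonoidLe Cg S (.powers g₀) q.primeCompl
    (Submonoid.powers_le.mpr hg₀)
  haveI : IsScalarTower C Cg S := IsLocalization.localization_isScalarTower_of_submonoid_le Cg S (.powers g₀)
    q.primeCompl (Submonoid.powers_le.mpr hg₀)
  haveI : IsScalarTower A Cg S := IsScalarTower.to₁₃₄ A C Cg S
  haveI hSg : IsLocalization.AtPrime S qg := by
    haveI := IsLocalization.isLocalization_of_submonoid_le Cg S (.powers g₀) q.primeCompl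
      (Submonoid.powers_le.mpr hg₀)
    refine IsLocalization.of_le (Submonoid.map (algebraMap C Cg) q.primeCompl) qg.primeCompl ?_ ?_
    · rintro _ ⟨c, hc, rfl⟩
      exact fun h => hc (hqgc.le h)
    · intro x hx
      obtain ⟨⟨c, t⟩, hct⟩ := IsLocalization.surj (Submonoid.powers g₀) x
      have hc : c ∉ q := fun hc => by
        have h1 : x * algebraMap C Cg t ∈ qg := hct ▸ Ideal.mem_map_of_mem _ hc
        rcases Ideal.IsPrime.mem_or_mem ‹qg.IsPrime› h1 with h2 | h2
        · exact hx h2
        · exact Ideal.IsPrime.ne_top ‹qg.IsPrime› (Ideal.eq_top_of_isUnit_mem _ h2 (IsLocalization.map_units Cg t))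
      have h3 : IsUnit (algebraMap Cg S (x * algebraMap C Cg t)) := by
        rw [hct, ← IsScalarTower.algebraMap_apply]
        exact IsLocalization.map_units S (⟨c, hc⟩ : q.primeCompl)
      rw [map_mul] at h3
      exact isUnit_of_mul_isUnit_left h3
  have hρS : ∀ z : Q₁.primeCompl, IsUnit ((IsScalarTower.toAlgHom A Cg S).comp ρ₁ z) := fun z =>
    IsLocalization.map_units S (⟨ρ₁ z, z.2⟩ : qg.primeCompl)
  let π : R →ₐ[A] S := IsLocalization.liftAlgHom hρS
  have hπ0 : ∀ z : P.Ring, π (algebraMap P.Ring R z) = algebraMap Cg S (ρ₁ z) := fun z =>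
    IsLocalization.lift_eq _ z
  have hπ : Function.Surjective π := by
    intro s
    obtain ⟨⟨a, t⟩, hat⟩ := IsLocalization.surj qg.primeCompl s
    obtain ⟨a', ha'⟩ := hφ a
    obtain ⟨t', ht'⟩ := hφ t
    have ht : t' ∉ Q₁ := fun h => t.2 (by rw [← ht']; exact h)
    refine ⟨IsLocalization.mk' R a' (⟨t', ht⟩ : Q₁.primeCompl), ?_⟩
    refine (IsLocalization.map_units S t).mul_right_cancel (hat.trans ?_).symm
    rw [show algebraMap Cg S a = π (algebraMap P.Ring R a') by rw [hπ0]; exact congrArg _ ha'.symm,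
      show algebraMap Cg S t = π (algebraMap P.Ring R t') by rw [hπ0]; exact congrArg _ ht'.symm,
      ← map_mul, IsLocalization.mk'_spec]
  haveI : IsLocalHom π.toRingHom := IsLocalHom.of_surjective π.toRingHom hπ
  haveI : Module.Flat A S := Module.Flat.trans A C S
  obtain ⟨DR, hDR, hDR'⟩ := hD₁.exists_of_formallyEtale R (B := P.Ring)
  -- the fibre
  set Pp := p.map (algebraMap A R) with hPp
  have hPm : Pp ≤ maximalIdeal R := Ideal.map_le_iff_le_comap.mpr fun a ha => by
    rw [Ideal.mem_comap, IsScalarTower.algebraMap_apply A P.Ring R]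
    exact (IsLocalization.AtPrime.to_map_mem_maximal_iff R Q₁ _).mpr (hQp.ge ha)
  let Rb := R ⧸ Pp
  haveI : Nontrivial Rb := Ideal.Quotient.nontrivial_iff.mpr (ne_top_of_le_ne_top (maximalIdeal.isMaximal R).ne_top hPm)
  haveI : IsLocalRing Rb := IsLocalRing.of_surjective' (Ideal.Quotient.mk Pp) Ideal.Quotient.mk_surjective
  have hunits : p.primeCompl ≤ (IsUnit.submonoid Rb).comap (algebraMap A Rb) := fun a ha => by
    refine IsUnit.map (Ideal.Quotient.mk Pp) ?_
    rw [IsScalarTower.algebraMap_apply A P.Ring R]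
    exact IsLocalization.map_units R (⟨algebraMap A P.Ring a, fun h => ha (hQp.le h)⟩ : Q₁.primeCompl)
  let kmap : p.ResidueField →+* Rb := Ideal.ResidueField.lift p (algebraMap A Rb) (fun a ha =>
    Ideal.Quotient.eq_zero_iff_mem.mpr (Ideal.mem_map_of_mem _ ha)) hunits
  letI : Algebra p.ResidueField Rb := kmap.toAlgebra
  haveI : IsScalarTower A p.ResidueField Rb :=
    IsScalarTower.of_algebraMap_eq fun a => (Ideal.ResidueField.lift_algebraMap p (algebraMap A Rb) _ _ a).symm
  obtain ⟨Db, hDb, hDb'⟩ := exists_fibre_coord p hDR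
  haveI : Algebra.EssFiniteType A R := .comp A P.Ring R
  haveI : Algebra.EssFiniteType p.ResidueField Rb := .of_comp A _ _
  haveI : IsNoetherianRing Rb := Algebra.EssFiniteType.isNoetherianRing p.ResidueField Rb
  obtain ⟨hunrS, B, _, _, φB, hφB, hkB, hred, hfr, x, y, a, b, c, hx, hy, hspan, hd, hrel⟩ := hnode
  haveI := hred
  haveI : IsLocalHom φB := IsLocalHom.of_surjective φB hφB
  let πB : R →+* B := φB.comp π.toRingHom
  have hπB : Function.Surjective πB := hφB.comp hπ
  have hkill : ∀ z ∈ Pp, πB z = 0 := fun z hz => by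
    have h1 := Ideal.mem_map_of_mem π.toRingHom hz
    rw [hPp, Ideal.map_map, show π.toRingHom.comp (algebraMap A R) = algebraMap A S from π.comp_algebraMap] at h1
    exact RingHom.mem_ker.mp (hkB.ge h1)
  let πb : Rb →+* B := Ideal.Quotient.lift Pp πB hkill
  letI : Algebra p.ResidueField B := (πb.comp kmap).toAlgebra
  have hπb : Function.Surjective πb := fun z => by
    obtain ⟨w, rfl⟩ := hπB z; exact ⟨Ideal.Quotient.mk _ w, rfl⟩
  haveI : IsNoetherianRing B := isNoetherianRing_of_surjective Rb B πb hπb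
  -- separability
  haveI : Algebra.IsSeparable p.ResidueField (ResidueField Rb) := by
    haveI : Algebra.EssFiniteType p.ResidueField (ResidueField Rb) := .comp _ Rb _
    let σ : ResidueField R →+* ResidueField S := ResidueField.map π.toRingHom
    let σ₁ : ResidueField R →+* ResidueField Rb := by
      haveI : IsLocalHom (Ideal.Quotient.mk Pp) := IsLocalHom.of_surjective _ Ideal.Quotient.mk_surjective
      exact ResidueField.map (Ideal.Quotient.mk Pp)
    haveI : IsLocalHom (Ideal.Quotient.mk Pp) := IsLocalHom.of_surjective _ Ideal.Quotient.mk_surjective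
    have hσ : Function.Bijective σ := ⟨σ.injective, fun z => by
      obtain ⟨z, rfl⟩ := residue_surjective z
      obtain ⟨w, rfl⟩ := hπ z
      exact ⟨residue R w, ResidueField.map_residue π.toRingHom w⟩⟩
    have hσ₁ : Function.Surjective σ₁ := fun z => by
      obtain ⟨z, rfl⟩ := residue_surjective z
      obtain ⟨w, rfl⟩ := Ideal.Quotient.mk_surjective z
      exact ⟨residue R w, ResidueField.map_residue _ w⟩
    let e : ResidueField S ≃+* ResidueField Rb :=
      (RingEquiv.ofBijective σ hσ).symm.trans (RingEquiv.ofBijective σ₁ ⟨σ₁.injective, hσ₁⟩)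
    let eA : ResidueField S →ₐ[A] ResidueField Rb := AlgHom.mk e.toRingHom fun t => by
      show σ₁ ((RingEquiv.ofBijective σ hσ).symm (algebraMap A (ResidueField S) t)) = _
      have h1 : σ (residue R (algebraMap A R t)) = algebraMap A (ResidueField S) t := by
        rw [IsScalarTower.algebraMap_apply A S (ResidueField S)]
        exact (ResidueField.map_residue π.toRingHom _).trans (congrArg (residue S) (π.commutes t))
      rw [show (RingEquiv.ofBijective σ hσ).symm (algebraMap A (ResidueField S) t) = residue R (algebraMap A R t) by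
        rw [RingEquiv.symm_apply_eq]; exact h1.symm]
      rfl
    haveI : Algebra.FormallyUnramified A (ResidueField Rb) := by
      haveI := hunrS
      exact Algebra.FormallyUnramified.of_surjective eA e.surjective
    haveI : Algebra.FormallyUnramified p.ResidueField (ResidueField Rb) :=
      Algebra.FormallyUnramified.of_restrictScalars A _ _
    exact Algebra.FormallyUnramified.isSeparable p.ResidueField (ResidueField Rb)
  obtain ⟨Fb, hkb, hFb, hHb⟩ := exists_equation hDb (AlgHom.mk πb fun _ => rfl) hπb hfr hx hy hspan hd hrel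
  -- lift the equation to the kernel
  obtain ⟨F₀, rfl⟩ := Ideal.Quotient.mk_surjective Fb
  have hF₀ : πB F₀ = 0 := RingHom.mem_ker.mp (hkb.ge (Ideal.mem_span_singleton_self _) :)
  obtain ⟨w, hw, hwF⟩ : ∃ w ∈ Pp, π w = π F₀ := by
    have h1 : π F₀ ∈ p.map (algebraMap A S) := by rw [← hkB]; exact hF₀
    rw [← AlgHom.comp_algebraMap π, ← Ideal.map_map] at h1
    change π F₀ ∈ Ideal.map π.toRingHom Pp at h1
    exact (Ideal.mem_map_iff_of_surjective π.toRingHom hπ).mp h1
  set F₁ := F₀ - w with hF₁
  have hmkF : Ideal.Quotient.mk Pp F₁ = Ideal.Quotient.mk Pp F₀ := by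
    rw [hF₁, map_sub, Ideal.Quotient.eq_zero_iff_mem.mpr hw, sub_zero]
  have hπF : π F₁ = 0 := by rw [hF₁, map_sub, hwF, sub_self]
  have hkfg : (RingHom.ker ρ₁.toRingHom).FG :=
    Algebra.FinitePresentation.ker_fG_of_surjective ρ₁ hφ
  set I := (RingHom.ker ρ₁.toRingHom).map (algebraMap P.Ring R) with hI
  have hkπ : RingHom.ker π.toRingHom = I := by
    refine le_antisymm (fun z hz => ?_) (Ideal.map_le_iff_le_comap.mpr fun z hz => ?_)
    · obtain ⟨⟨a', t'⟩, hat⟩ := IsLocalization.surj Q₁.primeCompl z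
      have h0 : algebraMap Cg S (ρ₁ a') = 0 := by
        rw [← hπ0, ← hat, map_mul, show π z = 0 from hz, zero_mul]
      rw [IsLocalization.map_eq_zero_iff qg.primeCompl] at h0
      obtain ⟨⟨m, hm⟩, hm0⟩ := h0
      obtain ⟨m', rfl⟩ := hφ m
      have h1 : algebraMap P.Ring R (m' * a') ∈ I := Ideal.mem_map_of_mem _ (by
        rw [RingHom.mem_ker]
        show ρ₁ (m' * a') = 0
        rw [map_mul]; exact hm0)
      rw [map_mul, ← hat, ← mul_assoc] at h1
      have hu1 : IsUnit (algebraMap P.Ring R m') := IsLocalization.map_units R (⟨m', hm⟩ : Q₁.primeCompl)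
      exact (Ideal.unit_mul_mem_iff_mem _ hu1).mp ((Ideal.mul_unit_mem_iff_mem _ (IsLocalization.map_units R t')).mp h1)
    · rw [Ideal.mem_comap, RingHom.mem_ker]
      show π _ = 0
      rw [hπ0, show ρ₁ z = 0 from hz, map_zero]
  have hIle : I ≤ Ideal.span {F₁} := by
    refine Submodule.le_of_le_smul_of_le_jacobson_bot (I := maximalIdeal R) (hkfg.map _)
      (maximalIdeal_le_jacobson _) fun z hz => ?_
    have hz0 : π z = 0 := RingHom.mem_ker.mp (hkπ.ge hz)
    have h1 : Ideal.Quotient.mk Pp z ∈ Ideal.span {Ideal.Quotient.mk Pp F₁} := by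
      rw [hmkF, ← hkb, RingHom.mem_ker]
      show φB (π z) = 0
      rw [hz0, map_zero]
    obtain ⟨rb, hrb⟩ := Ideal.mem_span_singleton'.mp h1
    obtain ⟨r, rfl⟩ := Ideal.Quotient.mk_surjective rb
    rw [← map_mul, Ideal.Quotient.eq] at hrb
    have h2 := mem_map_mul_ker π hπ p (neg_mem hrb) (by rw [map_neg, map_sub, map_mul, hπF, hz0, mul_zero, sub_zero, neg_zero])
    rw [neg_sub] at h2
    rw [← add_sub_cancel (r * F₁) z, smul_eq_mul]
    exact Submodule.add_mem_sup (Ideal.mul_mem_left _ r (Ideal.subset_span rfl)) (Ideal.mul_mono hPm hkπ.le h2)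
  -- clear denominators
  obtain ⟨⟨F, t₀⟩, hFt⟩ := IsLocalization.surj Q₁.primeCompl F₁
  have hFI : ∀ z ∈ RingHom.ker ρ₁.toRingHom, ∃ h ∉ Q₁, h * z ∈ Ideal.span {F} := by
    intro z hz
    obtain ⟨r, hr⟩ := Ideal.mem_span_singleton'.mp (hIle (Ideal.mem_map_of_mem _ hz))
    obtain ⟨⟨r', t'⟩, hrt⟩ := IsLocalization.surj Q₁.primeCompl r
    have h1 : algebraMap P.Ring R (t' * t₀ * z) = algebraMap P.Ring R (r' * F) := by
      rw [map_mul, map_mul, map_mul, ← hr, ← hrt, ← hFt]; ring
    obtain ⟨⟨m, hm⟩, hme⟩ := IsLocalization.exists_of_eq (M := Q₁.primeCompl) h1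
    refine ⟨m * (t' * t₀), Q₁.primeCompl.mul_mem hm (Q₁.primeCompl.mul_mem t'.2 t₀.2), ?_⟩
    rw [mul_assoc, show m * (↑t' * ↑t₀ * z) = m * (r' * F) from hme, ← mul_assoc]
    exact Ideal.mul_mem_left _ _ (Ideal.mem_span_singleton_self _)
  obtain ⟨T, hT⟩ := hkfg
  choose hh hhQ hhF using fun z : T => hFI z (hT.le (Ideal.subset_span z.2))
  obtain ⟨hF', hhF'⟩ : ∃ h ∉ Q₁, ρ₁ (h * F) = 0 := by
    have h0 : algebraMap Cg S (ρ₁ F) = 0 := by rw [← hπ0, ← hFt, map_mul, hπF, zero_mul]
    rw [IsLocalization.map_eq_zero_iff qg.primeCompl] at h0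
    obtain ⟨⟨m, hm⟩, hm0⟩ := h0
    obtain ⟨m', rfl⟩ := hφ m
    exact ⟨m', hm, by rw [map_mul]; exact hm0⟩
  set h := hF' * ∏ z : T, hh z with hhdef
  have hhQ₁ : h ∉ Q₁ := Q₁.primeCompl.mul_mem hhF'.1 (prod_mem fun z _ => hhQ z)
  obtain ⟨⟨g₁, t₁⟩, hgt⟩ := IsLocalization.surj (Submonoid.powers g₀) (ρ₁ h)
  let E := Localization.Away h
  let g := g₀ * g₁
  have hg₁ : g₁ ∉ q := by
    intro hg1
    have h1 : algebraMap C Cg g₁ ∈ qg := Ideal.mem_map_of_mem _ hg1
    rw [← hgt] at h1
    rcases (Ideal.IsPrime.mem_or_mem ‹qg.IsPrime› h1) with h2 | h2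
    · exact hhQ₁ h2
    · exact Ideal.IsPrime.ne_top ‹qg.IsPrime› (Ideal.eq_top_of_isUnit_mem _ h2 (IsLocalization.map_units Cg t₁))
  have hg : g ∉ q := ‹q.IsPrime›.mul_notMem hg₀ hg₁
  let Cl := Localization.Away (algebraMap C Cg g₁)
  haveI : IsLocalization.Away g Cl := IsLocalization.Away.mul' Cg Cl g₀ g₁
  have hassoc : Associated (ρ₁ h) (algebraMap C Cg g₁) := by
    obtain ⟨uu, huu⟩ := IsLocalization.map_units Cg t₁
    exact ⟨uu, by rw [huu]; exact hgt⟩
  haveI : IsLocalization.Away (ρ₁ h) Cl := IsLocalization.Away.of_associated hassoc.symm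
  let ρ : E →ₐ[A] Cl := IsLocalization.Away.mapₐ E Cl ρ₁ h
  have hρs : Function.Surjective ρ :=
    IsLocalization.Away.mapₐ_surjective_of_surjective (Aₚ := E) (Bₚ := Cl) (f := ρ₁) h hφ
  have hρ0 : ∀ z : P.Ring, ρ (algebraMap P.Ring E z) = algebraMap Cg Cl (ρ₁ z) := fun z => by
    simp [ρ, IsLocalization.Away.mapₐ, IsLocalization.Away.map]
  haveI : Algebra.FormallyEtale P.Ring E := Algebra.FormallyEtale.of_isLocalization (.powers h)
  obtain ⟨D, hD, hD'⟩ := hD₁.exists_of_formallyEtale E
  set Q := Q₁.map (algebraMap P.Ring E) with hQdef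
  have hdisj : Disjoint (Submonoid.powers h : Set P.Ring) (Q₁ : Set P.Ring) := by
    simp [Set.disjoint_iff, Set.ext_iff, Submonoid.mem_powers_iff, mt (‹Q₁.IsPrime›.mem_of_pow_mem _) hhQ₁]
  haveI hQprime : Q.IsPrime := IsLocalization.isPrime_of_isPrime_disjoint (.powers h) _ _ ‹_› hdisj
  have hQc : ∀ z, algebraMap P.Ring E z ∈ Q ↔ z ∈ Q₁ := fun z => by
    exact Ideal.ext_iff.mp (IsLocalization.comap_map_of_isPrime_disjoint (.powers h) _ ‹Q₁.IsPrime› hdisj) z
  have hFker : RingHom.ker ρ = Ideal.span {algebraMap P.Ring E F} := by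
    refine le_antisymm ?_ ((Ideal.span_singleton_le_iff_mem _).mpr ?_)
    · intro z hz
      obtain ⟨⟨a', t'⟩, hat⟩ := IsLocalization.surj (Submonoid.powers h) z
      have h0 : algebraMap Cg Cl (ρ₁ a') = 0 := by
        rw [← hρ0, ← hat, map_mul, RingHom.mem_ker.mp hz, zero_mul]
      rw [IsLocalization.map_eq_zero_iff (Submonoid.powers (ρ₁ h))] at h0
      obtain ⟨⟨_, n, rfl⟩, hn⟩ := h0
      have h1 : h ^ n * a' ∈ Ideal.span (T : Set P.Ring) := by
        rw [show Ideal.span (T : Set P.Ring) = RingHom.ker ρ₁.toRingHom from hT, RingHom.mem_ker]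
        show ρ₁ (h ^ n * a') = 0
        rw [map_mul, map_pow]; exact hn
      have h2 : ∀ w ∈ Ideal.span (T : Set P.Ring), algebraMap P.Ring E w ∈ Ideal.span {algebraMap P.Ring E F} := by
        intro w hw
        induction hw using Submodule.span_induction with
        | mem w hw =>
          obtain ⟨r, hr⟩ := Ideal.mem_span_singleton'.mp (hhF ⟨w, hw⟩)
          have hu : IsUnit (algebraMap P.Ring E (hh ⟨w, hw⟩)) := by
            refine isUnit_of_dvd_unit (map_dvd _ ?_) (IsLocalization.Away.algebraMap_isUnit h)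
            exact Dvd.dvd.mul_left (Finset.dvd_prod_of_mem _ (Finset.mem_univ _)) _
          refine (Ideal.unit_mul_mem_iff_mem _ hu).mp ?_
          rw [← map_mul, ← hr, map_mul]
          exact Ideal.mul_mem_left _ _ (Ideal.mem_span_singleton_self _)
        | zero => rw [map_zero]; exact zero_mem _
        | add a b _ _ ha hb => rw [map_add]; exact add_mem ha hb
        | smul r a _ ha => rw [smul_eq_mul, map_mul]; exact Ideal.mul_mem_left _ _ ha
      have h3 := h2 _ h1
      rw [map_mul, ← hat, ← mul_assoc, map_pow] at h3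
      exact (Ideal.unit_mul_mem_iff_mem _ ((IsLocalization.Away.algebraMap_isUnit h).pow n)).mp
        ((Ideal.mul_unit_mem_iff_mem _ (IsLocalization.map_units E t')).mp h3)
    · have hu : IsUnit (algebraMap P.Ring E hF') :=
        isUnit_of_dvd_unit (map_dvd _ (Dvd.intro _ rfl)) (IsLocalization.Away.algebraMap_isUnit h)
      refine RingHom.mem_ker.mpr ((hu.map ρ).mul_right_eq_zero.mp ?_)
      rw [← map_mul, ← map_mul, hρ0, hhF'.2, map_zero]
  have hRmem : ∀ z, algebraMap P.Ring R z ∈ maximalIdeal R ↔ z ∈ Q₁ := fun z =>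
    IsLocalization.AtPrime.to_map_mem_maximal_iff R Q₁ z
  have hmk : ∀ z : R, Ideal.Quotient.mk Pp z ∈ maximalIdeal Rb ↔ z ∈ maximalIdeal R := fun z => by
    haveI : IsLocalHom (Ideal.Quotient.mk Pp) := IsLocalHom.of_surjective _ Ideal.Quotient.mk_surjective
    exact ⟨fun h1 hu => h1 (hu.map _), fun h1 hu => h1 ((isUnit_map_iff _ z).mp hu)⟩
  have hD1m : ∀ i, DR i F₁ ∈ maximalIdeal R := fun i => by
    rw [← hmk, ← hDb', hmkF]; exact hFb i
  have hFm : F₁ ∈ maximalIdeal R := by
    rw [← hmk, hmkF]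
    have h1 : Ideal.Quotient.mk Pp F₀ ∈ RingHom.ker (AlgHom.mk πb fun _ => rfl : Rb →ₐ[p.ResidueField] B) :=
      hkb.ge (Ideal.mem_span_singleton_self _)
    exact le_maximalIdeal (RingHom.ker_ne_top _) h1
  have hDF : ∀ i, DR i (algebraMap P.Ring R F) = DR i F₁ * algebraMap P.Ring R t₀ + F₁ * DR i (algebraMap P.Ring R t₀) := by
    intro i; rw [← hFt, Derivation.leibniz, smul_eq_mul, smul_eq_mul]; ring
  refine ⟨g, hg, Cl, inferInstance, inferInstance, inferInstance, inferInstance, inferInstance, E, inferInstance, inferInstance, algebraMap P.Ring E ∘ u₁, D, ρ, algebraMap P.Ring E F, Q, ?_, ?_,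
    hD, hρs, hFker, hQprime, fun i => ?_, ?_, ?_, ?_⟩
  · haveI : Algebra.FormallySmooth P.Ring E := Algebra.FormallySmooth.of_isLocalization (.powers h)
    exact Algebra.FormallySmooth.comp A P.Ring E
  · haveI : Algebra.FinitePresentation P.Ring E := IsLocalization.Away.finitePresentation h
    exact Algebra.FinitePresentation.trans A P.Ring E
  · rw [hD', hQc, ← hRmem, ← hDR', hDF]
    exact add_mem (Ideal.mul_mem_right _ _ (hD1m i)) (Ideal.mul_mem_right _ _ hFm)
  · have hdetR : (Matrix.of fun i j => DR i (DR j F₁)).det ∉ maximalIdeal R := by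
      intro hdet
      refine hHb ?_
      rw [← hmkF]
      have e : (Matrix.of fun i j => Db i (Db j (Ideal.Quotient.mk Pp F₁))) =
          (Matrix.of fun i j => DR i (DR j F₁)).map (Ideal.Quotient.mk Pp) := by
        ext i j
        exact (congrArg (Db i) (hDb' j F₁)).trans (hDb' i _)
      rw [e, ← RingHom.mapMatrix_apply, ← RingHom.map_det, hmk]
      exact hdet
    intro hdet
    have e : (Matrix.of fun i j => D i (D j (algebraMap P.Ring E F))) =
        (Matrix.of fun i j => D₁ i (D₁ j F)).map (algebraMap P.Ring E) := by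
      ext i j; simp [hD']
    rw [e, ← RingHom.mapMatrix_apply, ← RingHom.map_det, hQc, ← hRmem, RingHom.map_det, RingHom.mapMatrix_apply] at hdet
    refine hdetR ((residue_eq_zero_iff _).mp ?_)
    have hres := (residue_eq_zero_iff _).mpr hdet
    have hent : ∀ i j, residue R (algebraMap P.Ring R (D₁ i (D₁ j F))) =
        residue R (DR i (DR j F₁)) * residue R (algebraMap P.Ring R t₀) := fun i j => by
      rw [← hDR', ← hDR', hDF]
      simp only [map_add, map_mul, Derivation.leibniz, smul_eq_mul, (residue_eq_zero_iff _).mpr hFm,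
        (residue_eq_zero_iff _).mpr (hD1m _)]
      ring
    rw [Matrix.det_fin_two] at hres ⊢
    simp only [Matrix.map_apply, Matrix.of_apply] at hres ⊢
    rw [map_sub (residue R), map_mul (residue R), map_mul (residue R), hent, hent, hent, hent] at hres
    rw [map_sub (residue R), map_mul (residue R), map_mul (residue R)]
    have ht0 : residue R (algebraMap P.Ring R t₀) ≠ 0 := fun h0 => t₀.2 ((hRmem _).mp ((residue_eq_zero_iff _).mp h0))
    refine (mul_eq_zero.mp ?_).resolve_right (pow_ne_zero 2 ht0)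
    linear_combination hres
  · rw [hQc, ← hRmem, ← hFt]
    exact Ideal.mul_mem_right _ _ hFm
  · intro q' hq'
    have h1 : q'.comap (algebraMap Cg Cl) = qg := by
      rw [← IsLocalization.map_comap (Submonoid.powers g₀) Cg (q'.comap (algebraMap Cg Cl)),
        Ideal.under_def, Ideal.comap_comap, ← IsScalarTower.algebraMap_eq, hq']
    rw [← IsLocalization.map_comap (Submonoid.powers h) E (q'.comap ρ.toRingHom), hQdef, Ideal.under_def, Ideal.comap_comap]
    congr 1
    rw [hQ₁, ← h1, Ideal.comap_comap]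
    exact congrArg (fun f => q'.comap f) (RingHom.ext hρ0)

end Groth.Agent.NodeStruct
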